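import Groth.Agent.Lib.TameAbh21.Basic
import Groth.Agent.Lib.DVRExt.Ramification
import Groth.Prelude.Def_EtRam

/-!
Abhyankar's lemma for valuation subrings of finite separable field extensions.
-/

set_option autoImplicit false
set_option linter.style.haveILetI false

universe u

open IsLocalRing TensorProduct

namespace GrothLib.TameAbh21

/-- A valuation ring dominating a discrete valuation ring is essentially of finite type over it. -/
theorem essFiniteType {A : Type u} [CommRing A] [IsDomain A] [IsDiscreteValuationRing A]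
    (K : Type u) [Field K] [Algebra A K] [IsFractionRing A K]
    {L : Type u} [Field L] [Algebra K L] [FiniteDimensional K L] [Algebra.IsSeparable K L]
    (g : A →+* L) (hg : g = (algebraMap K L).comp (algebraMap A K))
    (V : ValuationSubring L) (h : EtRam.Dominates A g V) :
    letI : Algebra A V := (RingHom.codRestrict g V h.1).toAlgebra
    Algebra.EssFiniteType A V := by
  classical
  letI : Algebra A V := (RingHom.codRestrict g V h.1).toAlgebra
  letI : Algebra A L := g.toAlgebra
  haveI : IsScalarTower A K L := IsScalarTower.of_algebraMap_eq' hg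
  haveI : IsScalarTower A V L := IsScalarTower.of_algebraMap_eq fun _ => rfl
  let C := integralClosure A L
  haveI : Module.Finite A C := IsIntegralClosure.finite A K L C
  haveI : IsDedekindDomain C := integralClosure.isDedekindDomain A K L
  have hCV : ∀ c : C, (c : L) ∈ V := fun c => by
    obtain ⟨y, hy⟩ := IsIntegrallyClosed.algebraMap_eq_of_integral (R := V) (K := L)
      (c.2.tower_top (A := V))
    exact hy ▸ y.2
  let ι : C →ₐ[A] V :=
    { toRingHom := RingHom.codRestrict (C.val.toRingHom) V hCV
      commutes' := fun a => rfl }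
  letI : Algebra C V := ι.toRingHom.toAlgebra
  haveI : IsScalarTower A C V := IsScalarTower.of_algebraMap_eq fun a => (ι.commutes a).symm
  let P : Ideal C := (maximalIdeal V).comap ι.toRingHom
  haveI : P.IsPrime := inferInstanceAs ((maximalIdeal V).comap ι.toRingHom).IsPrime
  have hιinj : Function.Injective ι := fun a b hab => Subtype.ext (congrArg (fun z : V => (z : L)) hab)
  have hP : P ≠ ⊥ := by
    obtain ⟨π, hπ⟩ := IsDiscreteValuationRing.exists_irreducible A
    intro h0
    have hmem : algebraMap A C π ∈ P := by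
      show ι (algebraMap A C π) ∈ maximalIdeal V
      rw [ι.commutes]
      exact (ValuationSubring.valuation_lt_one_iff V _).mpr
        (h.2 π (hπ.maximalIdeal_eq.ge (Ideal.mem_span_singleton_self π)))
    rw [h0, Ideal.mem_bot] at hmem
    have hinj : Function.Injective g := by
      rw [hg]; exact (algebraMap K L).injective.comp (IsFractionRing.injective A K)
    exact hπ.ne_zero (hinj (by rw [map_zero]; exact congrArg (fun z : C => (z : L)) hmem))
  let O := Localization.AtPrime P
  haveI : IsDiscreteValuationRing O := IsLocalization.AtPrime.isDiscreteValuationRing_of_dedekind_domain C hP O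
  haveI : IsFractionRing C L := integralClosure.isFractionRing_of_finite_extension K L
  have hu : ∀ s : C, s ∉ P → IsUnit (ι s) := fun s hs => by
    by_contra hc
    exact hs hc
  haveI : IsLocalization P.primeCompl V := by
    rw [isLocalization_iff]
    refine ⟨fun s => hu s.1 s.2, fun x => ?_, fun {a b} hab => ⟨1, by rw [hιinj hab]⟩⟩
    obtain ⟨a, b, hb, hab⟩ := IsFractionRing.div_surjective C (x : L)
    have hb0 : (b : L) ≠ 0 := fun hc => nonZeroDivisors.ne_zero hb (Subtype.ext hc)
    have hxb : (x : L) * b = a := by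
      rw [← hab]; exact div_mul_cancel₀ _ hb0
    rcases ValuationRing.dvd_total (algebraMap C O b) (algebraMap C O a) with ⟨t, ht⟩ | ⟨t, ht⟩
    · obtain ⟨r, s, rfl⟩ := IsLocalization.exists_mk'_eq P.primeCompl t
      refine ⟨(r, s), Subtype.ext ?_⟩
      have h1 : a * (s : C) = b * r := by
        refine IsLocalization.injective O P.primeCompl_le_nonZeroDivisors ?_
        rw [map_mul, map_mul, ht, mul_assoc, IsLocalization.mk'_spec]
      have h2 : (a : L) * ((s : C) : L) = (b : L) * (r : L) := congrArg (fun z : C => (z : L)) h1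
      show (x : L) * ((s : C) : L) = (r : L)
      refine mul_left_cancel₀ hb0 ?_
      rw [← h2, ← hxb]; ring
    · obtain ⟨r, s, rfl⟩ := IsLocalization.exists_mk'_eq P.primeCompl t
      have h1 : b * (s : C) = a * r := by
        refine IsLocalization.injective O P.primeCompl_le_nonZeroDivisors ?_
        rw [map_mul, map_mul, ht, mul_assoc, IsLocalization.mk'_spec]
      have h2 : (b : L) * ((s : C) : L) = (a : L) * (r : L) := congrArg (fun z : C => (z : L)) h1
      have h3 : x * ι r = ι s := Subtype.ext (by
        show (x : L) * (r : L) = ((s : C) : L)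
        refine mul_left_cancel₀ hb0 ?_
        rw [h2, ← hxb]; ring)
      have hr : r ∉ P := fun hc => by
        have h4 : ι s ∈ maximalIdeal V := h3 ▸ Ideal.mul_mem_left _ _ hc
        exact h4 (hu _ s.2)
      exact ⟨(s, ⟨r, hr⟩), h3⟩
  haveI : Algebra.EssFiniteType C V := Algebra.EssFiniteType.of_isLocalization V P.primeCompl
  exact Algebra.EssFiniteType.comp A C V

/-- A tame ramification index is invertible. -/
theorem isUnit_natCast {A : Type u} [CommRing A] [IsLocalRing A] (e : ℕ) (he : 0 < e)
    (h : ∀ p : ℕ, p.Prime → CharP (ResidueField A) p → ¬ p ∣ e) : IsUnit (e : A) := by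
  by_contra hc
  have h0 : ((e : ℕ) : ResidueField A) = 0 := by
    rw [← map_natCast (residue A)]; exact (residue_eq_zero_iff _).mpr hc
  obtain ⟨p, hp⟩ := CharP.exists (ResidueField A)
  rcases CharP.char_is_prime_or_zero (ResidueField A) p with hpr | rfl
  · exact h p hpr hp ((CharP.cast_eq_zero_iff (ResidueField A) p e).mp h0)
  · exact he.ne' (Nat.zero_dvd.mp ((CharP.cast_eq_zero_iff (ResidueField A) 0 e).mp h0))

/-- Abhyankar's lemma for the compositum of a tame extension `K'` and the fraction field of `C`. -/
theorem compositum {A : Type u} [CommRing A] [IsDomain A] [IsDiscreteValuationRing A]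
    (K : Type u) [Field K] [Algebra A K] [IsFractionRing A K]
    {K' : Type u} [Field K'] [Algebra K K'] [FiniteDimensional K K'] [Algebra.IsSeparable K K']
    (htame : EtRam.IsTamelyRamified A ((algebraMap K K').comp (algebraMap A K)))
    {C : Type u} [CommRing C] [IsDomain C] [IsDiscreteValuationRing C] [Algebra A C]
    [IsLocalHom (algebraMap A C)] (hAC : Function.Injective (algebraMap A C))
    {M : Type u} [Field M] (gC : C →+* M) (hgC : Function.Injective gC) (ι : K' →+* M)
    (hcomm : gC.comp (algebraMap A C) = ι.comp ((algebraMap K K').comp (algebraMap A K)))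
    (hgen : Subfield.closure (Set.range gC ∪ Set.range ι) = ⊤)
    (W : ValuationSubring M) (hW : EtRam.Dominates C gC W)
    (hdiv : ∀ h' : EtRam.Dominates A ((algebraMap K K').comp (algebraMap A K)) (W.comap ι),
      letI : Algebra A (W.comap ι) :=
        (RingHom.codRestrict ((algebraMap K K').comp (algebraMap A K)) (W.comap ι) h'.1).toAlgebra
      Ideal.ramificationIdx' (maximalIdeal A) (maximalIdeal (W.comap ι)) ∣
        Ideal.ramificationIdx' (maximalIdeal A) (maximalIdeal C)) :
    letI : Algebra C W := (RingHom.codRestrict gC W hW.1).toAlgebra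
    ∀ [IsLocalHom (algebraMap C W)],
      EtRam.IsWeaklyUnramified C W ∧ Algebra.IsSeparable (ResidueField C) (ResidueField W) := by
  classical
  letI : Algebra C W := (RingHom.codRestrict gC W hW.1).toAlgebra
  intro _
  set V := W.comap ι with hVdef
  have hloc : ∀ a ∈ maximalIdeal A, algebraMap A C a ∈ maximalIdeal C := fun a ha hu =>
    ha (IsUnit.of_map (algebraMap A C) a hu)
  have h' : EtRam.Dominates A ((algebraMap K K').comp (algebraMap A K)) V := by
    refine ⟨fun a => ?_, fun a ha => ?_⟩
    · show ι _ ∈ W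
      rw [← RingHom.comp_apply, ← hcomm]
      exact hW.1 _
    · have h1 : W.valuation (gC (algebraMap A C a)) < 1 := hW.2 _ (hloc a ha)
      rw [show gC (algebraMap A C a) = ι ((algebraMap K K').comp (algebraMap A K) a) from
        RingHom.congr_fun hcomm a] at h1
      refine lt_of_le_of_ne ((ValuationSubring.valuation_le_one_iff V _).mpr (by
        show ι _ ∈ W
        exact (ValuationSubring.valuation_le_one_iff W _).mp h1.le)) fun h2 => ?_
      have hmem : ((algebraMap K K').comp (algebraMap A K) a)⁻¹ ∈ V := by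
        rw [← ValuationSubring.valuation_le_one_iff, map_inv₀, h2, inv_one]
      have h3 : W.valuation (ι (((algebraMap K K').comp (algebraMap A K) a)⁻¹)) ≤ 1 :=
        (ValuationSubring.valuation_le_one_iff W _).mpr hmem
      rw [map_inv₀, map_inv₀] at h3
      have hne : W.valuation (ι ((algebraMap K K').comp (algebraMap A K) a)) ≠ 0 := by
        intro h4
        rw [(Valuation.zero_iff _), map_eq_zero] at h4
        rw [h4, map_zero] at h2
        exact zero_ne_one h2
      exact absurd ((inv_le_one₀ (zero_lt_iff.mpr hne)).mp h3) (not_le.mpr h1)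
  letI : Algebra A V := (RingHom.codRestrict ((algebraMap K K').comp (algebraMap A K)) V h'.1).toAlgebra
  obtain ⟨hdvr, hinjV, hlV⟩ := GrothLib.DVRExt.dominates_algebra A K K' V h'
  haveI := hdvr
  haveI : IsLocalHom (algebraMap A V) := hlV
  obtain ⟨hsep, hp⟩ := @htame V h' hlV
  haveI : Algebra.IsSeparable (ResidueField A) (ResidueField V) := hsep
  haveI : Algebra.EssFiniteType A V := essFiniteType K _ rfl V h'
  letI : Algebra V W := (EtRam.inclOfComap W ι).toAlgebra
  haveI : IsLocalHom (algebraMap V W) := EtRam.isLocalHom_inclOfComap W ι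
  letI : Algebra A W := ((algebraMap C W).comp (algebraMap A C)).toAlgebra
  haveI : IsScalarTower A C W := IsScalarTower.of_algebraMap_eq fun _ => rfl
  haveI : IsScalarTower A V W := IsScalarTower.of_algebraMap_eq fun a => Subtype.ext (RingHom.congr_fun hcomm a)
  obtain ⟨ϖ, hϖ⟩ := IsDiscreteValuationRing.exists_irreducible V
  obtain ⟨ϖ₁, hϖ₁⟩ := IsDiscreteValuationRing.exists_irreducible C
  obtain ⟨π, hπ⟩ := IsDiscreteValuationRing.exists_irreducible A
  obtain ⟨he0, heV⟩ := GrothLib.DVRExt.map_maximalIdeal_eq_pow (A := A) (B := V) hinjV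
  obtain ⟨he1, heC⟩ := GrothLib.DVRExt.map_maximalIdeal_eq_pow (A := A) (B := C) hAC
  obtain ⟨k, hk⟩ := hdiv h'
  have hu0 : IsUnit ((Ideal.ramificationIdx' (maximalIdeal A) (maximalIdeal V) : ℕ) : A) :=
    isUnit_natCast _ he0 hp
  generalize Ideal.ramificationIdx' (maximalIdeal A) (maximalIdeal V) = e at he0 heV hk hu0
  generalize Ideal.ramificationIdx' (maximalIdeal A) (maximalIdeal C) = e1 at he1 heC hk
  rw [hπ.maximalIdeal_eq, Ideal.map_span, Set.image_singleton, hϖ.maximalIdeal_eq,
    Ideal.span_singleton_pow, Ideal.span_singleton_eq_span_singleton] at heV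
  rw [hπ.maximalIdeal_eq, Ideal.map_span, Set.image_singleton, hϖ₁.maximalIdeal_eq,
    Ideal.span_singleton_pow, Ideal.span_singleton_eq_span_singleton] at heC
  obtain ⟨u, hu⟩ := heV
  obtain ⟨v, hv⟩ := heC.symm
  have hk1 : 1 ≤ k := by
    rcases Nat.eq_zero_or_pos k with rfl | h
    · rw [Nat.mul_zero] at hk; omega
    · exact h
  refine compositum_unramified (A := A) (B := V) (C := C) (W := W)
    (fun x y hxy => hgC (congrArg Subtype.val hxy)) π ϖ hϖ.maximalIdeal_eq ϖ₁ hϖ₁.maximalIdeal_eq
    e k hk1 hu0 u u.isUnit (by rw [← hu, mul_comm]) v v.isUnit ?_ fun z => ?_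
  · rw [← hv, hk, mul_comm]
  · -- generation
    let τ : C ⊗[A] V →ₐ[C] W := toW
    let val : C ⊗[A] V → M := fun t => (τ t : M)
    have hval : ∀ c x, val (c ⊗ₜ x) = gC c * ι (x : K') := fun c x => by
      show ((toW (A := A) (W := W) (c ⊗ₜ x) : W) : M) = _
      rw [toW_tmul]; rfl
    have vadd : ∀ a b, val (a + b) = val a + val b := fun a b => by simp [val]
    have vmul : ∀ a b, val (a * b) = val a * val b := fun a b => by simp [val]
    have vneg : ∀ a, val (-a) = -val a := fun a => by simp [val]
    have vone : val 1 = 1 := by simp [val]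
    let F : Subfield M :=
      { carrier := {m | ∃ t s, val s ≠ 0 ∧ m * val s = val t}
        mul_mem' := by
          rintro a b ⟨t, s, hs, e1⟩ ⟨t', s', hs', e2⟩
          exact ⟨t * t', s * s', by rw [vmul]; exact mul_ne_zero hs hs', by
            rw [vmul, vmul, ← e1, ← e2]; ring⟩
        one_mem' := ⟨1, 1, by rw [vone]; exact one_ne_zero, by rw [one_mul]⟩
        add_mem' := by
          rintro a b ⟨t, s, hs, e1⟩ ⟨t', s', hs', e2⟩
          exact ⟨t * s' + t' * s, s * s', by rw [vmul]; exact mul_ne_zero hs hs', by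
            rw [vadd, vmul, vmul, vmul, ← e1, ← e2]; ring⟩
        zero_mem' := ⟨0, 1, by rw [vone]; exact one_ne_zero, by simp [val]⟩
        neg_mem' := by
          rintro a ⟨t, s, hs, e1⟩
          exact ⟨-t, s, hs, by rw [vneg, ← e1]; ring⟩
        inv_mem' := by
          rintro a ⟨t, s, hs, e1⟩
          by_cases ha : a = 0
          · exact ⟨0, 1, by rw [vone]; exact one_ne_zero, by simp [val, ha]⟩
          · exact ⟨s, t, by rw [← e1]; exact mul_ne_zero ha hs, by
              rw [← e1]; field_simp⟩ }
    have hF : F = ⊤ := by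
      rw [eq_top_iff, ← hgen, Subfield.closure_le]
      rintro _ (⟨c, rfl⟩ | ⟨x, rfl⟩)
      · exact ⟨c ⊗ₜ 1, 1, by rw [vone]; exact one_ne_zero, by rw [vone, mul_one, hval]; simp⟩
      · rcases V.mem_or_inv_mem x with h | h
        · exact ⟨1 ⊗ₜ ⟨x, h⟩, 1, by rw [vone]; exact one_ne_zero, by rw [vone, mul_one, hval]; simp⟩
        · by_cases hx : x = 0
          · exact ⟨0, 1, by rw [vone]; exact one_ne_zero, by simp [val, hx]⟩
          · refine ⟨1, 1 ⊗ₜ ⟨x⁻¹, h⟩, ?_, ?_⟩
            · rw [hval]; simp [hx]
            · rw [hval, vone]; simp [hx]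
    obtain ⟨t, s, hs, e1⟩ : (z : M) ∈ F := hF ▸ Subfield.mem_top _
    exact ⟨t, s, fun h0 => hs (by simp [val, τ, h0]), Subtype.ext e1⟩

end GrothLib.TameAbh21
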