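import Groth.Agent.Lib.TameAbh21.Wild
import Groth.Agent.Lib.Purity.Normal
import Mathlib.RingTheory.Smooth.IntegralClosure
import Mathlib.RingTheory.Etale.Field

/-!
Absolute Abhyankar lemma, algebraic form.
-/

set_option autoImplicit false
set_option linter.style.haveILetI false
set_option linter.unusedSectionVars false

universe u

open IsLocalRing TensorProduct

namespace GrothLib.TameAbh21

/-- Elements integral over `B` of a generic fibre come from the smooth algebra. -/
theorem mem_range_of_isIntegral {B T L : Type u} [CommRing B] [IsDomain B] [IsIntegrallyClosed B]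
    [CommRing T] [Algebra B T] [Algebra.Smooth B T] [Field L] [Algebra B L] [IsFractionRing B L]
    (y : L ⊗[B] T) (hy : IsIntegral B y) :
    y ∈ Set.range (Algebra.TensorProduct.includeRight : T →ₐ[B] L ⊗[B] T) := by
  let z := Algebra.TensorProduct.comm B L T y
  have hz : IsIntegral T z := (hy.map (Algebra.TensorProduct.comm B L T).toAlgHom).tower_top
  obtain ⟨s, hs⟩ := (TensorProduct.toIntegralClosure_bijective_of_smooth (R := B) (S := T) (B := L)).2 ⟨z, hz⟩
  have hbot : ∀ x : integralClosure B L, ∃ b : B, algebraMap B L b = (x : L) := fun x =>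
    IsIntegrallyClosed.isIntegral_iff.mp x.2
  have key : ∀ s : T ⊗[B] integralClosure B L, ∃ t : T,
      ((TensorProduct.toIntegralClosure B T L s : integralClosure T (T ⊗[B] L)) : T ⊗[B] L) = t ⊗ₜ 1 := by
    intro s
    induction s using TensorProduct.induction_on with
    | zero => exact ⟨0, by rw [map_zero, TensorProduct.zero_tmul]; rfl⟩
    | add a b ha hb =>
      obtain ⟨ta, hta⟩ := ha
      obtain ⟨tb, htb⟩ := hb
      exact ⟨ta + tb, by rw [map_add, TensorProduct.add_tmul, ← hta, ← htb]; rfl⟩
    | tmul t x =>
      obtain ⟨b, hb⟩ := hbot x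
      refine ⟨b • t, ?_⟩
      show t ⊗ₜ[B] (x : L) = _
      rw [← hb, Algebra.algebraMap_eq_smul_one, TensorProduct.tmul_smul, TensorProduct.smul_tmul']
  obtain ⟨t, ht⟩ := key s
  refine ⟨t, (Algebra.TensorProduct.comm B L T).injective ?_⟩
  show Algebra.TensorProduct.comm B L T ((1 : L) ⊗ₜ t) = z
  rw [Algebra.TensorProduct.comm_tmul, ← ht, hs]

/-- A finite étale algebra outside a divisor, unramified in codimension one in each factor, extends. -/
theorem exists_extension {B T : Type u} [CommRing B] [IsRegularLocalRing B] [IsDomain B] [IsIntegrallyClosed B]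
    [CommRing T] [Algebra B T] [Algebra.Etale B T] (P : B) (hPu : IsUnit (algebraMap B T P))
    (hint : ∀ t : T, ∃ k : ℕ, IsIntegral B (P ^ k • t))
    (L : Type u) [Field L] [Algebra B L] [IsFractionRing B L]
    (h : ∀ (M : Type u) [Field M] [Algebra L M] [Algebra B M] [IsScalarTower B L M]
      [FiniteDimensional L M] [Algebra.IsSeparable L M] (χ : T →ₐ[B] M),
      IntermediateField.adjoin L (Set.range χ) = ⊤ →
      ∀ (Q : Ideal (integralClosure B M)) [Q.IsPrime], Q.height ≤ 1 → Algebra.IsUnramifiedAt B Q) :
    ∃ (E : Type u) (_ : CommRing E) (_ : Algebra B E), Module.Finite B E ∧ Algebra.Etale B E ∧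
      ∃ ρ : E →ₐ[B] T, @IsLocalization.Away E _ (algebraMap B E P) T _ ρ.toRingHom.toAlgebra := by
  classical
  let j : T →ₐ[B] L ⊗[B] T := Algebra.TensorProduct.includeRight
  have hjinj : Function.Injective j := by
    haveI : Module.Flat B T := inferInstance
    have h1 := Module.Flat.rTensor_preserves_injective_linearMap (M := T) (Algebra.linearMap B L)
      (IsFractionRing.injective B L)
    intro a b hab
    have h2 := h1 (a₁ := (1 : B) ⊗ₜ a) (a₂ := (1 : B) ⊗ₜ b) (by simpa [j] using hab)
    simpa using congrArg (TensorProduct.lid B T) h2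
  haveI : Algebra.Etale L (L ⊗[B] T) := inferInstance
  obtain ⟨I, _, F, _, _, e, hsep⟩ :=
    (Algebra.FormallyEtale.iff_exists_algEquiv_prod (K := L) (A := L ⊗[B] T)).mp inferInstance
  haveI : Fintype I := Fintype.ofFinite I
  haveI := hsep
  haveI : FiniteDimensional L (L ⊗[B] T) := Algebra.FormallyUnramified.finite_of_free L (L ⊗[B] T)
  haveI : ∀ i, FiniteDimensional L (F i) := fun i => Module.Finite.of_surjective
    (((Pi.evalAlgHom L F i).comp e.toAlgHom).toLinearMap) ((Function.surjective_eval i).comp e.surjective)
  letI : ∀ i, Algebra B (F i) := fun i => ((algebraMap L (F i)).comp (algebraMap B L)).toAlgebra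
  haveI : ∀ i, IsScalarTower B L (F i) := fun i => IsScalarTower.of_algebraMap_eq fun _ => rfl
  let χ : ∀ i, T →ₐ[B] F i := fun i =>
    (((Pi.evalAlgHom L F i).comp e.toAlgHom).restrictScalars B).comp j
  have hgen : ∀ i, IntermediateField.adjoin L (Set.range (χ i)) = ⊤ := fun i => by
    rw [eq_top_iff]
    intro x _
    obtain ⟨y, rfl⟩ := ((Function.surjective_eval i).comp e.surjective) x
    induction y using TensorProduct.induction_on with
    | zero => simp only [Function.comp_apply, map_zero, Function.eval, Pi.zero_apply]; exact zero_mem _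
    | add a b ha hb =>
      simp only [Function.comp_apply, map_add, Function.eval, Pi.add_apply]
      exact add_mem (ha trivial) (hb trivial)
    | tmul l t =>
      have : e (l ⊗ₜ[B] t) i = algebraMap L (F i) l * χ i t := by
        have h1 : (l ⊗ₜ[B] t) = algebraMap L (L ⊗[B] T) l * j t := by
          simp [j, Algebra.TensorProduct.algebraMap_apply]
        rw [h1, map_mul, AlgEquiv.commutes, Pi.mul_apply, Pi.algebraMap_apply]
        rfl
      simp only [Function.comp_apply, Function.eval, this]
      exact mul_mem (IntermediateField.algebraMap_mem _ l) (IntermediateField.subset_adjoin L _ ⟨t, rfl⟩)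
  -- the factors
  haveI : ∀ i, Module.Finite B (integralClosure B (F i)) := fun i => IsIntegralClosure.finite B L (F i) _
  have het : ∀ i, Algebra.Etale B (integralClosure B (F i)) := fun i => by
    haveI : IsFractionRing (integralClosure B (F i)) (F i) := integralClosure.isFractionRing_of_finite_extension L (F i)
    haveI : IsIntegrallyClosed (integralClosure B (F i)) := integralClosure.isIntegrallyClosedOfFiniteExtension L
    haveI : FaithfulSMul B (integralClosure B (F i)) := (faithfulSMul_iff_algebraMap_injective _ _).mpr fun a b hab =>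
      (IsFractionRing.injective B L) ((algebraMap L (F i)).injective (congrArg (fun z : integralClosure B (F i) => (z : F i)) hab))
    obtain ⟨d, hd, -⟩ := GrothLib.RegLoc.exists_dim_eq (R := B)
    exact GrothLib.Purity.purity_of_finite_normal d B hd.le (integralClosure B (F i)) fun Q _ hQ =>
      h (F i) (χ i) (hgen i) Q hQ
  haveI := het
  -- the integral closure in `T`
  have hin : ∀ t : T, IsIntegral B t ↔ ∀ i, IsIntegral B (χ i t) := fun t => by
    refine ⟨fun ht i => ht.map (χ i), fun ht => ?_⟩
    choose p hp hp' using ht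
    have h1 : IsIntegral B (e (j t)) := by
      refine ⟨∏ i, p i, Polynomial.monic_prod_of_monic _ _ fun i _ => hp i, funext fun i => ?_⟩
      have h2 := Polynomial.aeval_algHom_apply ((Pi.evalAlgHom L F i).restrictScalars B) (e (j t)) (∏ k, p k)
      show ((Pi.evalAlgHom L F i).restrictScalars B) (Polynomial.aeval (e (j t)) (∏ k, p k)) = 0
      rw [← h2, map_prod]
      exact Finset.prod_eq_zero (Finset.mem_univ i) (hp' i)
    have h3 : IsIntegral B (j t) := by
      have := h1.map (e.symm.toAlgHom.restrictScalars B)
      simpa using this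
    exact (isIntegral_algHom_iff j hjinj).mp h3
  let Φ : integralClosure B T →ₐ[B] ∀ i, integralClosure B (F i) :=
    AlgHom.pi fun i => ((χ i).comp (integralClosure B T).val).codRestrict (integralClosure B (F i))
      fun t => (hin t.1).mp t.2 i
  have hΦ : Function.Bijective Φ := by
    refine ⟨fun a b hab => Subtype.ext (hjinj (e.injective (funext fun i => ?_))), fun w => ?_⟩
    · exact congrArg (fun v => (v i : F i)) hab
    let y := e.symm fun i => (w i : F i)
    have hy : IsIntegral B y := by
      have h1 : IsIntegral B (fun i => (w i : F i)) := by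
        choose p hp hp' using fun i => (w i).2
        refine ⟨∏ i, p i, Polynomial.monic_prod_of_monic _ _ fun i _ => hp i, funext fun i => ?_⟩
        have h2 := Polynomial.aeval_algHom_apply ((Pi.evalAlgHom L F i).restrictScalars B) (fun k => (w k : F k)) (∏ k, p k)
        show ((Pi.evalAlgHom L F i).restrictScalars B) (Polynomial.aeval _ (∏ k, p k)) = 0
        rw [← h2, map_prod]
        exact Finset.prod_eq_zero (Finset.mem_univ i) (hp' i)
      exact h1.map (e.symm.toAlgHom.restrictScalars B)
    obtain ⟨t, ht⟩ := mem_range_of_isIntegral y hy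
    refine ⟨⟨t, (isIntegral_algHom_iff j hjinj).mp (ht.symm ▸ hy)⟩, funext fun i => Subtype.ext ?_⟩
    show e (j t) i = _
    rw [show j t = y from ht, e.apply_symm_apply]
  refine ⟨integralClosure B T, inferInstance, inferInstance,
    Module.Finite.equiv (AlgEquiv.ofBijective Φ hΦ).symm.toLinearEquiv,
    Algebra.Etale.of_equiv (AlgEquiv.ofBijective Φ hΦ).symm, (integralClosure B T).val, ?_⟩
  letI : Algebra (integralClosure B T) T := (integralClosure B T).val.toRingHom.toAlgebra
  show IsLocalization (Submonoid.powers (algebraMap B (integralClosure B T) P)) T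
  rw [isLocalization_iff]
  refine ⟨?_, fun t => ?_, fun {a b} hab => ⟨1, by rw [show a = b from Subtype.ext hab]⟩⟩
  · rintro ⟨_, k, rfl⟩
    show IsUnit ((integralClosure B T).val ((algebraMap B (integralClosure B T) P) ^ k))
    rw [map_pow, AlgHom.commutes]
    exact hPu.pow k
  · obtain ⟨k, hk⟩ := hint t
    refine ⟨(⟨_, hk⟩, ⟨_, k, rfl⟩), ?_⟩
    show t * (integralClosure B T).val ((algebraMap B (integralClosure B T) P) ^ k) = P ^ k • t
    rw [map_pow, AlgHom.commutes, Algebra.smul_def, map_pow, mul_comm]

set_option maxHeartbeats 1600000 in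
/-- **Absolute Abhyankar lemma**, algebraic form. -/
theorem absolute {A : Type u} [CommRing A] [IsRegularLocalRing A] [IsDomain A] {r : ℕ} {f : Fin r → A}
    (hm : ∀ i, f i ∈ maximalIdeal A)
    (hf : LinearIndependent (ResidueField A) (fun i => (maximalIdeal A).toCotangent ⟨f i, hm i⟩))
    [∀ i, (Ideal.span {f i}).IsPrime]
    (C : Type u) [CommRing C] [Algebra A C] [Algebra.Etale A C] (hu : IsUnit (algebraMap A C (∏ i, f i)))
    (hint : ∀ c : C, ∃ k : ℕ, IsIntegral A ((∏ i, f i) ^ k • c))
    (htame : SGA1.IsTameAlong f (algebraMap A C)) :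
    ∃ n : Fin r → ℕ, (∀ i, 1 ≤ n i) ∧ (∀ i, IsUnit ((n i : ℕ) : ResidueField A)) ∧
      ∃ (E : Type u) (_ : CommRing E) (_ : Algebra (SGA1.kummerAlg A f n) E),
        Module.Finite (SGA1.kummerAlg A f n) E ∧ Algebra.Etale (SGA1.kummerAlg A f n) E ∧
        ∃ ρ : E →ₐ[SGA1.kummerAlg A f n] SGA1.kummerAlg A f n ⊗[A] C,
          @IsLocalization.Away E _ (algebraMap (SGA1.kummerAlg A f n) E
            (algebraMap A (SGA1.kummerAlg A f n) (∏ i, f i))) (SGA1.kummerAlg A f n ⊗[A] C) _ ρ.toRingHom.toAlgebra := by
  classical
  haveI := GrothLib.RegUFD.ufd_of_isRegularLocalRing A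
  have hf0 := f_ne_zero hm hf
  let K := FractionRing A
  have hinjκ : ∀ (q : Ideal C) [q.IsPrime], Ideal.comap (algebraMap A C) q = ⊥ →
      Function.Injective (algebraMap A q.ResidueField) := fun q _ hq => by
    rw [injective_iff_map_eq_zero]
    intro a ha
    rw [IsScalarTower.algebraMap_apply A C q.ResidueField, Ideal.algebraMap_residueField_eq_zero] at ha
    have : a ∈ Ideal.comap (algebraMap A C) q := ha
    rwa [hq, Ideal.mem_bot] at this
  -- a bound for the degrees of the generic points
  have hfin : {q : Ideal C | q.IsPrime ∧ Ideal.comap (algebraMap A C) q = ⊥}.Finite :=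
    (Algebra.QuasiFinite.finite_primesOver (S := C) (⊥ : Ideal A)).subset fun q hq => ⟨hq.1, ⟨hq.2.symm⟩⟩
  have hdeg : ∀ q : Ideal C, ∃ d : ℕ, ∀ (_ : q.IsPrime) (_ : Ideal.comap (algebraMap A C) q = ⊥)
      [Algebra K q.ResidueField] [IsScalarTower A K q.ResidueField], Module.finrank K q.ResidueField = d := by
    intro q
    by_cases h : q.IsPrime ∧ Ideal.comap (algebraMap A C) q = ⊥
    · obtain ⟨h1, h2⟩ := h
      haveI := h1
      letI a0 : Algebra K q.ResidueField := (IsFractionRing.lift (hinjκ q h2)).toAlgebra
      haveI : IsScalarTower A K q.ResidueField :=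
        IsScalarTower.of_algebraMap_eq fun a => (IsFractionRing.lift_algebraMap _ a).symm
      refine ⟨Module.finrank K q.ResidueField, fun _ _ a1 t1 => ?_⟩
      have heq : a1 = a0 := Algebra.algebra_ext _ _ fun x => by
        refine RingHom.congr_fun (IsLocalization.ringHom_ext (nonZeroDivisors A) (RingHom.ext fun a => ?_)) x
        show _ = _
        simp only [RingHom.comp_apply]
        exact ((@IsScalarTower.algebraMap_apply A K q.ResidueField _ _ _ _ a1 _ t1 a).symm.trans (IsFractionRing.lift_algebraMap (hinjκ q h2) a).symm)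
      subst heq
      rfl
    · exact ⟨0, fun h1 h2 => absurd ⟨h1, h2⟩ h⟩
  choose d hd using hdeg
  let N := hfin.toFinset.sup d
  let n₀ : ℕ := ∏ k ∈ (Finset.range (N + 1)).filter (fun k : ℕ => 0 < k ∧ IsUnit ((k : ℕ) : A)), k
  have hn₀ : 1 ≤ n₀ := show 0 < n₀ from Finset.prod_pos fun k hk => (Finset.mem_filter.mp hk).2.1
  have hn₀u : IsUnit ((n₀ : ℕ) : A) := by
    rw [Nat.cast_prod]
    exact IsUnit.prod_iff.mpr fun k hk => (Finset.mem_filter.mp hk).2.2
  let n : Fin r → ℕ := fun _ => n₀
  have hn : ∀ j, 1 ≤ n j := fun _ => hn₀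
  refine ⟨n, hn, fun _ => by simpa using hn₀u.map (residue A), ?_⟩
  haveI := GrothLib.Kummer21.finite_alg (f := f) hn
  -- replace the Kummer algebra by an abstract ring
  suffices key : ∀ (B : Type u) [CommRing B] [Algebra A B] [Module.Finite A B] (root : Fin r → B),
      (∀ j, root j ^ n j = algebraMap A B (f j)) → Algebra.adjoin A (Set.range root) = ⊤ →
      IsRegularLocalRing B → Function.Injective (algebraMap A B) →
      ∃ (E : Type u) (_ : CommRing E) (_ : Algebra B E), Module.Finite B E ∧ Algebra.Etale B E ∧
        ∃ ρ : E →ₐ[B] B ⊗[A] C,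
          @IsLocalization.Away E _ (algebraMap B E (algebraMap A B (∏ i, f i))) (B ⊗[A] C) _ ρ.toRingHom.toAlgebra from
    key (SGA1.kummerAlg A f n) (GrothLib.Kummer21.root f n) (GrothLib.Kummer21.root_pow f n)
      (GrothLib.Kummer21.adjoin_root f n) (GrothLib.Kummer21.isRegularLocalRing_alg hm hf hn)
      (GrothLib.Kummer21.injective_algebraMap (f := f) hn)
  intro B _ _ _ root hroot hadj hBreg hinjB
  haveI := hBreg
  haveI := GrothLib.CMFree.isDomain_of_isRegularLocalRing B
  haveI := GrothLib.RegUFD.ufd_of_isRegularLocalRing B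
  haveI : FaithfulSMul A B := (faithfulSMul_iff_algebraMap_injective A B).mpr hinjB
  haveI : Algebra.IsIntegral A B := inferInstance
  obtain ⟨L, _, _, _⟩ : ∃ (L : Type u) (_ : Field L) (_ : Algebra B L), IsFractionRing B L :=
    ⟨FractionRing B, inferInstance, inferInstance, inferInstance⟩
  letI : Algebra A L := ((algebraMap B L).comp (algebraMap A B)).toAlgebra
  haveI : IsScalarTower A B L := IsScalarTower.of_algebraMap_eq fun _ => rfl
  letI : Algebra K L := (IsFractionRing.lift (g := algebraMap A L)
    ((IsScalarTower.algebraMap_eq A B L) ▸ (IsFractionRing.injective B L).comp hinjB)).toAlgebra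
  haveI : IsScalarTower A K L := IsScalarTower.of_algebraMap_eq fun a => (IsFractionRing.lift_algebraMap _ a).symm
  have hnK : ∀ j, ((n j : ℕ) : K) ≠ 0 := fun j => by
    have := (hn₀u.map (algebraMap A K)).ne_zero
    rwa [map_natCast] at this
  obtain ⟨hgenL, hLf, hLs⟩ := frac_kummer f hf0 n root hroot hadj K hnK L
  haveI := hLf
  haveI := hLs
  let P : A := ∏ i, f i
  refine exists_extension (T := B ⊗[A] C) (algebraMap A B P) ?_ (fun t => ?_) L ?_
  · rw [show algebraMap B (B ⊗[A] C) (algebraMap A B P) = Algebra.TensorProduct.includeRight (R := A) (A := B)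
      (algebraMap A C P) by rw [AlgHom.commutes, ← IsScalarTower.algebraMap_apply]]
    exact hu.map _
  · induction t using TensorProduct.induction_on with
    | zero => exact ⟨0, by rw [smul_zero]; exact isIntegral_zero⟩
    | tmul b c =>
      obtain ⟨k, hk⟩ := hint c
      refine ⟨k, ?_⟩
      have h1 : IsIntegral B ((1 : B) ⊗ₜ[A] (P ^ k • c)) :=
        (hk.map (Algebra.TensorProduct.includeRight (R := A) (A := B) (B := C))).tower_top
      have h2 : (algebraMap A B P) ^ k • (b ⊗ₜ[A] c) = algebraMap B (B ⊗[A] C) b * ((1 : B) ⊗ₜ[A] (P ^ k • c)) := by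
        rw [← map_pow, algebraMap_smul, Algebra.TensorProduct.algebraMap_apply, Algebra.algebraMap_self_apply,
          Algebra.TensorProduct.tmul_mul_tmul, mul_one, one_mul, TensorProduct.tmul_smul]
      rw [h2]
      exact isIntegral_algebraMap.mul h1
    | add a b ha hb =>
      obtain ⟨k, hk⟩ := ha
      obtain ⟨l, hl⟩ := hb
      refine ⟨k + l, ?_⟩
      rw [smul_add]
      refine (?_ : IsIntegral B _).add ?_
      · rw [pow_add, mul_comm, ← smul_smul]; exact hk.smul _
      · rw [pow_add, ← smul_smul]; exact hl.smul _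
  intro M _ _ _ _ _ _ ψ hψ Q _ hQ
  haveI : IsFractionRing (integralClosure B M) M := integralClosure.isFractionRing_of_finite_extension L M
  haveI : IsIntegrallyClosed (integralClosure B M) := integralClosure.isIntegrallyClosedOfFiniteExtension L
  haveI : Module.Finite B (integralClosure B M) := IsIntegralClosure.finite B L M _
  haveI : IsNoetherianRing (integralClosure B M) :=
    isNoetherian_of_tower B (inferInstance : IsNoetherian B (integralClosure B M))
  letI : Algebra A M := ((algebraMap B M).comp (algebraMap A B)).toAlgebra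
  haveI : IsScalarTower A B M := IsScalarTower.of_algebraMap_eq fun _ => rfl
  letI : Algebra A (integralClosure B M) := ((algebraMap B (integralClosure B M)).comp (algebraMap A B)).toAlgebra
  haveI : IsScalarTower A (integralClosure B M) M := IsScalarTower.of_algebraMap_eq fun _ => rfl
  have hinjBM : Function.Injective (algebraMap B M) := by
    rw [IsScalarTower.algebraMap_eq B L M]
    exact (algebraMap L M).injective.comp (IsFractionRing.injective B L)
  haveI : FaithfulSMul B (integralClosure B M) := (faithfulSMul_iff_algebraMap_injective _ _).mpr fun a b h =>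
    hinjBM (congrArg (fun z : integralClosure B M => (z : M)) h)
  let χ : C →ₐ[A] M := (ψ.restrictScalars A).comp Algebra.TensorProduct.includeRight
  have hχgen : IntermediateField.adjoin L (Set.range χ) = ⊤ := by
    rw [eq_top_iff, ← hψ, IntermediateField.adjoin_le_iff]
    rintro _ ⟨t, rfl⟩
    induction t using TensorProduct.induction_on with
    | zero => rw [map_zero]; exact zero_mem _
    | add a b ha hb => rw [map_add]; exact add_mem ha hb
    | tmul b c =>
      rw [show b ⊗ₜ[A] c = algebraMap B (B ⊗[A] C) b * ((1 : B) ⊗ₜ[A] c) by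
        rw [Algebra.TensorProduct.algebraMap_apply, Algebra.algebraMap_self_apply, Algebra.TensorProduct.tmul_mul_tmul,
          mul_one, one_mul], map_mul, AlgHom.commutes, IsScalarTower.algebraMap_apply B L M]
      exact mul_mem (IntermediateField.algebraMap_mem _ _) (IntermediateField.subset_adjoin L _ ⟨c, rfl⟩)
  by_cases hP : algebraMap B (integralClosure B M) (algebraMap A B P) ∈ Q
  swap
  · exact isUnramifiedAt_away (L := L) (M := M) P hu hint χ hχgen Q hP
  have hPQ0 : Q ≠ ⊥ := fun h0 => by
    rw [h0, Ideal.mem_bot] at hP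
    have h1 : algebraMap B M (algebraMap A B P) = 0 := congrArg (fun z : integralClosure B M => (z : M)) hP
    exact Finset.prod_ne_zero_iff.mpr (fun j _ => hf0 j) (hinjB ((hinjBM (h1.trans (map_zero _).symm)).trans (map_zero _).symm))
  have hQ1 : Q.height = 1 := le_antisymm hQ (Order.one_le_iff_pos.mpr (zero_le.trans_lt
    (Ideal.height_strict_mono_of_isPrime_of_isPrime (I := (⊥ : Ideal _)) (bot_lt_iff_ne_bot.mpr hPQ0))))
  obtain ⟨i, hi⟩ : ∃ i, algebraMap A (integralClosure B M) (f i) ∈ Q := by
    have hP' : algebraMap A (integralClosure B M) P ∈ Q := hP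
    rw [map_prod] at hP'
    obtain ⟨i, -, hi⟩ := Ideal.IsPrime.prod_mem_iff.mp hP'
    exact ⟨i, hi⟩
  haveI : IsLocalization (⊥ : Submonoid B) B := IsLocalization.self (fun x hx => by
    rw [Submonoid.mem_bot] at hx; exact hx ▸ isUnit_one)
  have hQA : Q.comap (algebraMap A (integralClosure B M)) = Ideal.span {f i} :=
    under_eq_span (A := A) (B := B) (R := B) (M₀ := (⊥ : Submonoid B)) Q hQ1 (algebraMap A (integralClosure B M))
      (fun a => rfl) (hf0 i) hi
  -- the point of the generic fibre
  let q : Ideal C := RingHom.ker χ.toRingHom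
  haveI : q.IsPrime := RingHom.ker_isPrime _
  have hinjAM : Function.Injective (algebraMap A M) := hinjBM.comp hinjB
  have hq : Ideal.comap (algebraMap A C) q = ⊥ := le_bot_iff.mp fun a ha => hinjAM (by
    rw [map_zero, ← χ.commutes]; exact ha)
  letI : Algebra K q.ResidueField := (IsFractionRing.lift (hinjκ q hq)).toAlgebra
  haveI : IsScalarTower A K q.ResidueField :=
    IsScalarTower.of_algebraMap_eq fun a => (IsFractionRing.lift_algebraMap _ a).symm
  letI : Algebra K M := ((algebraMap L M).comp (algebraMap K L)).toAlgebra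
  haveI : IsScalarTower K L M := IsScalarTower.of_algebraMap_eq fun _ => rfl
  haveI : FiniteDimensional K M := Module.Finite.trans L M
  haveI : Algebra.IsSeparable K M := Algebra.IsSeparable.trans K L M
  have hKM : ∀ a, algebraMap K M (algebraMap A K a) = algebraMap A M a := fun a => by
    show algebraMap L M (algebraMap K L (algebraMap A K a)) = algebraMap B M (algebraMap A B a)
    rw [← IsScalarTower.algebraMap_apply A K L, IsScalarTower.algebraMap_apply A B L,
      ← IsScalarTower.algebraMap_apply B L M]
  have hqinj : Function.Injective (Ideal.Quotient.lift q χ.toRingHom fun c hc => hc) :=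
    RingHom.lift_injective_of_ker_le_ideal _ _ le_rfl
  let ι₀ : q.ResidueField →+* M := IsFractionRing.lift (A := C ⧸ q) hqinj
  have hι₀ : ∀ c : C, ι₀ (algebraMap C q.ResidueField c) = χ c := fun c => by
    rw [IsScalarTower.algebraMap_apply C (C ⧸ q) q.ResidueField]
    exact IsFractionRing.lift_algebraMap hqinj _
  have hcomm : ι₀.comp (algebraMap K q.ResidueField) = algebraMap K M := by
    refine IsLocalization.ringHom_ext (nonZeroDivisors A) (RingHom.ext fun a => ?_)
    rw [RingHom.comp_apply, RingHom.comp_apply, RingHom.comp_apply, hKM,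
      ← IsScalarTower.algebraMap_apply A K q.ResidueField, IsScalarTower.algebraMap_apply A C q.ResidueField,
      hι₀, χ.commutes]
  let ι : q.ResidueField →ₐ[K] M := { ι₀ with commutes' := fun a => RingHom.congr_fun hcomm a }
  have hgen : IntermediateField.adjoin L (Set.range ι) = ⊤ := by
    rw [eq_top_iff, ← hχgen, IntermediateField.adjoin_le_iff]
    rintro _ ⟨c, rfl⟩
    exact IntermediateField.subset_adjoin L _ ⟨algebraMap C q.ResidueField c, hι₀ c⟩
  obtain ⟨hκf, hκs⟩ := fibre_finite (A := A) K q
  haveI := hκf
  haveI := hκs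
  letI := fracAlgebra K (Ideal.span {f i})
  haveI : IsScalarTower A (Localization.AtPrime (Ideal.span {f i})) K :=
    IsScalarTower.of_algebraMap_eq fun a => (IsLocalization.lift_eq _ a).symm
  haveI : IsFractionRing (Localization.AtPrime (Ideal.span {f i})) K :=
    IsFractionRing.isFractionRing_of_isLocalization (Ideal.span {f i}).primeCompl _ K
      (Ideal.span {f i}).primeCompl_le_nonZeroDivisors
  haveI : IsDiscreteValuationRing (Localization.AtPrime (Ideal.span {f i})) := isDVR_atPrime_span (hf0 i)
  have htamei : EtRam.IsTamelyRamified (Localization.AtPrime (Ideal.span {f i}))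
      ((algebraMap K q.ResidueField).comp (algebraMap (Localization.AtPrime (Ideal.span {f i})) K)) := by
    have h := htame i q hq
    rwa [genericResidueMap_eq K (Ideal.span {f i}) q hq] at h
  refine isUnramifiedAt_of_valuation (L := L) (M := M) Q hQ1 fun W hE hc => ?_
  letI : Algebra (Localization.AtPrime (Ideal.span {f i})) M :=
    ((algebraMap K M).comp (algebraMap (Localization.AtPrime (Ideal.span {f i})) K)).toAlgebra
  haveI : IsScalarTower A (Localization.AtPrime (Ideal.span {f i})) M := IsScalarTower.of_algebraMap_eq fun a => by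
    show algebraMap A M a = algebraMap K M (algebraMap _ K (algebraMap A _ a))
    rw [← IsScalarTower.algebraMap_apply A _ K, hKM]
  intro _
  refine kummer_unramified f i (hf0 i) (fun j hj => not_mem_span hm hf i j hj) n hn
    (fun j => by simpa using hn₀u.map (algebraMap A (Localization.AtPrime (Ideal.span {f i})))) (K := K) htamei
    (fun j => algebraMap B L (root j)) (fun j => ?_) ?_ ι hgen (fun V h' => ?_) W
    (dominates_of_center (E := integralClosure B M) (Ideal.span {f i}) Q hQA W hE hc)
  · rw [← map_pow, hroot, ← IsScalarTower.algebraMap_apply A B L, IsScalarTower.algebraMap_apply A K L,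
      ← IsScalarTower.algebraMap_apply A _ K]
  · letI : Algebra (Localization.AtPrime (Ideal.span {f i})) L := ((algebraMap K L).comp (algebraMap _ K)).toAlgebra
    haveI : IsScalarTower A (Localization.AtPrime (Ideal.span {f i})) L := IsScalarTower.of_algebraMap_eq fun a => by
      show algebraMap A L a = algebraMap K L (algebraMap _ K (algebraMap A _ a))
      rw [← IsScalarTower.algebraMap_apply A _ K, ← IsScalarTower.algebraMap_apply A K L]
    intro z
    have hle : Algebra.adjoin A (Set.range fun j => algebraMap B L (root j)) ≤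
        (Algebra.adjoin (Localization.AtPrime (Ideal.span {f i}))
          (Set.range fun j => algebraMap B L (root j))).restrictScalars A :=
      Algebra.adjoin_le fun y hy => Algebra.subset_adjoin hy
    obtain ⟨a, b, hb, e'⟩ := hgenL z
    exact ⟨⟨a, hle a.2⟩, ⟨b, hle b.2⟩, hb, e'⟩
  · letI : Algebra (Localization.AtPrime (Ideal.span {f i})) V := (RingHom.codRestrict
      ((algebraMap K q.ResidueField).comp (algebraMap (Localization.AtPrime (Ideal.span {f i})) K)) V h'.1).toAlgebra
    obtain ⟨hdV, hinjV, hlV⟩ := GrothLib.DVRExt.dominates_algebra (Localization.AtPrime (Ideal.span {f i})) K q.ResidueField V h'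
    haveI := hdV
    haveI : IsLocalHom (algebraMap (Localization.AtPrime (Ideal.span {f i})) V) := hlV
    letI : Algebra (Localization.AtPrime (Ideal.span {f i})) q.ResidueField :=
      ((algebraMap K q.ResidueField).comp (algebraMap (Localization.AtPrime (Ideal.span {f i})) K)).toAlgebra
    haveI : IsScalarTower (Localization.AtPrime (Ideal.span {f i})) K q.ResidueField :=
      IsScalarTower.of_algebraMap_eq fun _ => rfl
    haveI : IsScalarTower (Localization.AtPrime (Ideal.span {f i})) V q.ResidueField :=
      IsScalarTower.of_algebraMap_eq fun _ => rfl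
    have hle := ramificationIdx_le_finrank (K := K) V hinjV
    have hpos := (GrothLib.DVRExt.map_maximalIdeal_eq_pow (A := Localization.AtPrime (Ideal.span {f i})) (B := V) hinjV).1
    have hunit := isUnit_ramification hm hf hu hint htame K q hq i V h'
    have hqd : Module.finrank K q.ResidueField ≤ N :=
      (hd q inferInstance hq).le.trans (Finset.le_sup (f := d) (hfin.mem_toFinset.mpr ⟨inferInstance, hq⟩))
    exact Finset.dvd_prod_of_mem _ (Finset.mem_filter.mpr ⟨Finset.mem_range.mpr (by omega), hpos, hunit⟩)

end GrothLib.TameAbh21
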