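import Mathlib

/-!
Abhyankar's lemma: over a tame extension whose ramification index divides that of the base change,
the compositum is unramified.
-/

set_option autoImplicit false
set_option linter.style.haveILetI false

universe u

open IsLocalRing TensorProduct

namespace GrothLib.TameAbh21

/-- The differentials of a tame local extension are generated by that of a uniformizer. -/
theorem kaehler_eq_span {A B : Type u} [CommRing A] [IsLocalRing A] [CommRing B] [IsLocalRing B]
    [Algebra A B] [IsLocalHom (algebraMap A B)] [Algebra.EssFiniteType A B]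
    [Algebra.IsSeparable (ResidueField A) (ResidueField B)] (ϖ : B)
    (hϖ : maximalIdeal B = Ideal.span {ϖ}) :
    (⊤ : Submodule B Ω[B⁄A]) = Submodule.span B {KaehlerDifferential.D A B ϖ} := by
  classical
  let N := Submodule.span B {KaehlerDifferential.D A B ϖ}
  refine le_antisymm ?_ le_top
  refine Submodule.le_of_le_smul_of_le_jacobson_bot (I := maximalIdeal B) Module.Finite.fg_top
    (maximalIdeal_le_jacobson _) ?_
  rw [← KaehlerDifferential.span_range_derivation, Submodule.span_le]
  rintro _ ⟨b, rfl⟩
  have hsep : IsSeparable (ResidueField A) (residue B b) := Algebra.IsSeparable.isSeparable _ _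
  obtain ⟨G, hG, -⟩ := Polynomial.lifts_and_degree_eq_and_monic
    (Polynomial.map_surjective (residue A) residue_surjective (minpoly (ResidueField A) (residue B b)))
    (minpoly.monic hsep.isIntegral)
  have h0 : Polynomial.aeval b G ∈ maximalIdeal B := by
    rw [← residue_eq_zero_iff, ← ResidueField.algebraMap_eq, ← Polynomial.aeval_algebraMap_apply,
      ← Polynomial.aeval_map_algebraMap (ResidueField A)]
    show Polynomial.aeval _ (G.map (residue A)) = 0
    rw [hG]
    exact minpoly.aeval _ _
  have h1 : IsUnit (Polynomial.aeval b (Polynomial.derivative G)) := by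
    by_contra hc
    have hc' : Polynomial.aeval b (Polynomial.derivative G) ∈ maximalIdeal B := hc
    rw [← residue_eq_zero_iff, ← ResidueField.algebraMap_eq, ← Polynomial.aeval_algebraMap_apply,
      ← Polynomial.aeval_map_algebraMap (ResidueField A), ← Polynomial.derivative_map] at hc'
    change Polynomial.aeval _ (Polynomial.derivative (G.map (residue A))) = 0 at hc'
    rw [hG] at hc'
    exact hsep.aeval_derivative_ne_zero (minpoly.aeval _ _) hc'
  rw [hϖ, Ideal.mem_span_singleton'] at h0
  obtain ⟨z, hz⟩ := h0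
  have h2 := congrArg (KaehlerDifferential.D A B) hz
  rw [Derivation.leibniz, Derivation.map_aeval] at h2
  obtain ⟨w, hw⟩ := h1
  have hb : KaehlerDifferential.D A B b = (↑w⁻¹ : B) • (z • KaehlerDifferential.D A B ϖ +
      ϖ • KaehlerDifferential.D A B z) := by
    rw [h2, ← hw, smul_smul, Units.inv_mul, one_smul]
  rw [SetLike.mem_coe, hb]
  refine Submodule.smul_mem _ _ (add_mem ?_ ?_)
  · exact Submodule.mem_sup_left (Submodule.smul_mem _ _ (Submodule.mem_span_singleton_self _))
  · exact Submodule.mem_sup_right (Submodule.smul_mem_smul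
      (hϖ.ge (Ideal.mem_span_singleton_self ϖ)) (Submodule.subset_span ⟨z, rfl⟩))

variable {A B C W : Type u} [CommRing A] [IsLocalRing A]
  [CommRing B] [IsDomain B] [IsDiscreteValuationRing B]
  [CommRing C] [IsDomain C] [IsDiscreteValuationRing C]
  [CommRing W] [IsDomain W] [ValuationRing W]
  [Algebra A B] [Algebra A C] [Algebra A W] [Algebra B W] [Algebra C W]
  [IsScalarTower A B W] [IsScalarTower A C W]

/-- the map from the tensor product -/
noncomputable def toW : C ⊗[A] B →ₐ[C] W :=
  Algebra.TensorProduct.lift (Algebra.ofId C W) (IsScalarTower.toAlgHom A B W) fun _ _ => mul_comm _ _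

theorem toW_tmul (c : C) (b : B) :
    toW (A := A) (W := W) (c ⊗ₜ b) = algebraMap C W c * algebraMap B W b :=
  Algebra.TensorProduct.lift_tmul _ _ _ c b

variable [IsLocalHom (algebraMap A B)] [Algebra.EssFiniteType A B]
  [Algebra.IsSeparable (ResidueField A) (ResidueField B)]
  [IsLocalHom (algebraMap B W)] [IsLocalHom (algebraMap C W)]

set_option backward.isDefEq.respectTransparency false in
set_option backward.isDefEq.respectTransparency.types false in
set_option maxHeartbeats 2000000 in
set_option synthInstance.maxHeartbeats 200000 in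
theorem compositum_unramified (hinjC : Function.Injective (algebraMap C W))
    (π : A) (ϖ : B) (hϖ : maximalIdeal B = Ideal.span {ϖ}) (ϖ₁ : C)
    (hϖ₁ : maximalIdeal C = Ideal.span {ϖ₁}) (e k : ℕ) (hk : 1 ≤ k) (he : IsUnit (e : A))
    (c : B) (hc : IsUnit c) (hB : ϖ ^ e = c * algebraMap A B π)
    (v : C) (hv : IsUnit v) (hC : algebraMap A C π = v * ϖ₁ ^ (e * k))
    (hgen : ∀ z : W, ∃ t s : C ⊗[A] B, toW (W := W) s ≠ 0 ∧ z * toW (W := W) s = toW (W := W) t) :
    (maximalIdeal C).map (algebraMap C W) = maximalIdeal W ∧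
      Algebra.IsSeparable (ResidueField C) (ResidueField W) := by
  classical
  set p := algebraMap C W ϖ₁ with hp
  set q := algebraMap B W ϖ with hq
  have hϖ₁0 : ϖ₁ ≠ 0 := fun h => IsDiscreteValuationRing.not_a_field C (by
    rw [hϖ₁, h, Ideal.span_singleton_eq_bot])
  have hp0 : p ≠ 0 := fun h => hϖ₁0 (hinjC (h.trans (map_zero _).symm))
  have hpm : p ∈ maximalIdeal W := fun hu =>
    (hϖ₁.ge (Ideal.mem_span_singleton_self ϖ₁) : ϖ₁ ∈ maximalIdeal C) (IsUnit.of_map (algebraMap C W) _ hu)
  have hqe : q ^ e = algebraMap B W c * algebraMap C W v * p ^ (e * k) := by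
    rw [hq, ← map_pow, hB, map_mul, ← IsScalarTower.algebraMap_apply A B W,
      IsScalarTower.algebraMap_apply A C W, hC, map_mul, map_pow, mul_assoc]
  set cv := algebraMap B W c * algebraMap C W v with hcv
  have hcvu : IsUnit cv := (hc.map _).mul (hv.map _)
  obtain ⟨x, hx⟩ : ∃ x, p ^ k * x = q := by
    rcases ValuationRing.dvd_total (p ^ k) q with h | ⟨y, hy⟩
    · exact ⟨h.choose, h.choose_spec.symm⟩
    · have h1 : p ^ (e * k) * 1 = p ^ (e * k) * (cv * y ^ e) := by
        rw [mul_one]
        calc p ^ (e * k) = (p ^ k) ^ e := by rw [← pow_mul, mul_comm]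
          _ = q ^ e * y ^ e := by rw [hy, mul_pow]
          _ = _ := by rw [hqe]; ring
      have h2 := mul_left_cancel₀ (pow_ne_zero _ hp0) h1
      have he0 : e ≠ 0 := by
        rintro rfl
        exact not_isUnit_zero (M₀ := A) (by simpa using he)
      obtain ⟨w, hw⟩ := (isUnit_pow_iff he0).mp (isUnit_of_mul_isUnit_right (h2 ▸ isUnit_one))
      exact ⟨(↑w⁻¹ : W), by rw [hy, ← hw, mul_assoc, Units.mul_inv, mul_one]⟩
  have hxe : x ^ e = cv := by
    refine mul_left_cancel₀ (pow_ne_zero (e * k) hp0) ?_
    rw [mul_comm (p ^ (e * k)) cv, ← hqe, ← hx, mul_pow, ← pow_mul, mul_comm k e]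
  have hxu : IsUnit x := by
    have he0 : e ≠ 0 := by
      rintro rfl
      exact not_isUnit_zero (M₀ := A) (by simpa using he)
    exact (isUnit_pow_iff he0).mp (hxe ▸ hcvu)
  let T := Polynomial (C ⊗[A] B)
  let τ : T →ₐ[C] W := AlgHom.mk (Polynomial.eval₂RingHom (toW (A := A) (W := W)).toRingHom x) (fun r => by
    show Polynomial.eval₂ _ x (algebraMap C T r) = _
    rw [Polynomial.algebraMap_apply, Polynomial.eval₂_C]
    exact AlgHom.commutes _ r)
  let S := τ.range
  let τS : S →ₐ[C] W := S.val
  let mkS : T →ₐ[C] S := τ.rangeRestrict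
  have hmkS : Function.Surjective mkS := AlgHom.rangeRestrict_surjective τ
  have hτS : ∀ a, τS (mkS a) = τ a := fun a => rfl
  have hτSinj : Function.Injective τS := Subtype.val_injective
  letI : Algebra T S := mkS.toRingHom.toAlgebra
  haveI : IsScalarTower C T S := IsScalarTower.of_algebraMap_eq fun r => (mkS.commutes r).symm
  haveI : Algebra.FiniteType T S := Algebra.FiniteType.of_surjective (Algebra.ofId T S) hmkS
  let 𝔮 : Ideal S := (maximalIdeal W).comap τS
  haveI : 𝔮.IsPrime := inferInstanceAs ((maximalIdeal W).comap τS.toRingHom).IsPrime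
  let L := Localization.AtPrime 𝔮
  have hunit : ∀ y : 𝔮.primeCompl, IsUnit (τS y) := fun y => by
    by_contra h
    exact y.2 h
  let lam : L →ₐ[C] W := IsLocalization.liftAlgHom (M := 𝔮.primeCompl) (f := τS) hunit
  have hlam : ∀ a, lam (algebraMap S L a) = τS a := fun a => IsLocalization.lift_eq _ a
  have hlaminj : Function.Injective lam := by
    rw [injective_iff_map_eq_zero]
    intro a ha
    obtain ⟨a, s, rfl⟩ := IsLocalization.exists_mk'_eq 𝔮.primeCompl a
    have h1 : τS a = 0 := by
      rw [← hlam, ← IsLocalization.mk'_spec L a s, map_mul, ha, zero_mul]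
    rw [hτSinj (h1.trans (map_zero _).symm), IsLocalization.mk'_zero]
  haveI : IsLocalHom lam.toRingHom := ⟨fun a ha => by
    obtain ⟨a, s, rfl⟩ := IsLocalization.exists_mk'_eq 𝔮.primeCompl a
    rw [IsLocalization.AtPrime.isUnit_mk'_iff L 𝔮]
    intro h
    have h1 : IsUnit (τS a) := by
      have := ha.mul (hunit s)
      change IsUnit (lam _ * τS s) at this
      rwa [← hlam, ← map_mul, IsLocalization.mk'_spec, hlam] at this
    exact h h1⟩
  haveI : Algebra.EssFiniteType C (C ⊗[A] B) := inferInstance
  haveI : Algebra.EssFiniteType C T := Algebra.EssFiniteType.comp C (C ⊗[A] B) T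
  haveI : Algebra.EssFiniteType C S := Algebra.EssFiniteType.comp C T S
  haveI : Algebra.EssFiniteType S L := Algebra.EssFiniteType.of_isLocalization L 𝔮.primeCompl
  haveI : Algebra.EssFiniteType C L := Algebra.EssFiniteType.comp C S L
  haveI : IsLocalHom (algebraMap C L) := ⟨fun a ha => by
    refine IsUnit.of_map (algebraMap C W) a ?_
    rw [← lam.commutes]
    exact ha.map _⟩
  let toS : T → L := fun a => algebraMap S L (mkS a)
  let X' : L := toS Polynomial.X
  let ιB : B →ₐ[A] L :=
    ((IsScalarTower.toAlgHom C S L).comp (mkS.comp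
      (IsScalarTower.toAlgHom C (C ⊗[A] B) T))).restrictScalars A |>.comp
        Algebra.TensorProduct.includeRight
  letI : Algebra B L := ιB.toRingHom.toAlgebra
  haveI : IsScalarTower A B L := IsScalarTower.of_algebraMap_eq fun a => (ιB.commutes a).symm
  haveI : SMulCommClass C B L := ⟨fun r s z => by
    rw [Algebra.smul_def, Algebra.smul_def, Algebra.smul_def, Algebra.smul_def]; ring⟩
  have hlamB : ∀ b, lam (algebraMap B L b) = algebraMap B W b := fun b => by
    show lam (algebraMap S L (mkS (Polynomial.C (1 ⊗ₜ b)))) = _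
    rw [hlam, hτS]
    show Polynomial.eval₂ _ x (Polynomial.C _) = _
    rw [Polynomial.eval₂_C]
    exact (toW_tmul 1 b).trans (by rw [map_one, one_mul])
  have hlamX : lam X' = x := by
    rw [hlam, hτS]
    exact Polynomial.eval₂_X _ _
  have hrel1 : algebraMap C L ϖ₁ ^ k * X' = algebraMap B L ϖ := hlaminj (by
    rw [map_mul, map_pow, lam.commutes, hlamX, hlamB]; exact hx)
  have hrel2 : X' ^ e = algebraMap B L c * algebraMap C L v := hlaminj (by
    rw [map_pow, map_mul, lam.commutes, hlamX, hlamB]; exact hxe)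
  -- the differentials vanish
  let D := KaehlerDifferential.D C L
  have hDB : ∀ b : B, ∃ r : L, D (algebraMap B L b) = r • D (algebraMap B L ϖ) := by
    intro b
    have h1 : KaehlerDifferential.D A B b ∈ Submodule.span B {KaehlerDifferential.D A B ϖ} := by
      rw [← kaehler_eq_span ϖ hϖ]; trivial
    obtain ⟨r, hr⟩ := Submodule.mem_span_singleton.mp h1
    refine ⟨algebraMap B L r, ?_⟩
    have h2 := congrArg (KaehlerDifferential.map A C B L) hr
    rw [map_smul, KaehlerDifferential.map_D, KaehlerDifferential.map_D] at h2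
    rw [← h2]
    exact (algebraMap_smul L r (D (algebraMap B L ϖ))).symm
  have hpL : algebraMap C L ϖ₁ ∈ maximalIdeal L := fun hu =>
    (hϖ₁.ge (Ideal.mem_span_singleton_self ϖ₁) : ϖ₁ ∈ maximalIdeal C) (IsUnit.of_map (algebraMap C L) _ hu)
  have hDϖ : D (algebraMap B L ϖ) = (algebraMap C L ϖ₁ ^ k) • D X' := by
    rw [← hrel1, Derivation.leibniz, ← map_pow, Derivation.map_algebraMap, smul_zero, add_zero]
  have hXu : IsUnit X' := by
    refine (‹IsLocalHom lam.toRingHom›).map_nonunit X' ?_
    show IsUnit (lam X')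
    rw [hlamX]; exact hxu
  have hDX : D X' = 0 := by
    obtain ⟨r, hr⟩ := hDB c
    have h2 := congrArg D hrel2
    rw [Derivation.leibniz_pow, Derivation.leibniz, Derivation.map_algebraMap, smul_zero, zero_add,
      hr, hDϖ, ← Nat.cast_smul_eq_nsmul L] at h2
    have h4 : ((e : L) * X' ^ (e - 1) - algebraMap C L v * r * algebraMap C L ϖ₁ ^ k) • D X' = 0 := by
      refine (sub_smul ((e : L) * X' ^ (e - 1)) (algebraMap C L v * r * algebraMap C L ϖ₁ ^ k) (D X')).trans (sub_eq_zero.mpr ?_)
      refine (mul_smul _ _ _).trans (h2.trans ?_)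
      rw [mul_smul, mul_smul]
    have hu : IsUnit ((e : L) * X' ^ (e - 1) -
        algebraMap C L v * r * algebraMap C L ϖ₁ ^ k) := by
      by_contra hc'
      have hm : (e : L) * X' ^ (e - 1) ∈ maximalIdeal L := by
        have h3 : algebraMap C L v * r * algebraMap C L ϖ₁ ^ k ∈ maximalIdeal L :=
          Ideal.mul_mem_left _ _ (Ideal.pow_mem_of_mem _ hpL k hk)
        simpa using (maximalIdeal L).add_mem (hc' : _ ∈ maximalIdeal L) h3
      exact hm (((by simpa using he.map (algebraMap A C) : IsUnit (e : C))).map (algebraMap C L) |>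
        (fun h => by simpa using h) |> fun h => IsUnit.mul h (hXu.pow _))
    exact hu.smul_eq_zero.mp h4
  have hDB0 : ∀ b : B, D (algebraMap B L b) = 0 := by
    intro b
    obtain ⟨r, hr⟩ := hDB b
    have h0 : D (algebraMap B L ϖ) = 0 := by
      rw [← hrel1, Derivation.leibniz, ← map_pow, Derivation.map_algebraMap, hDX]
      simp
    rw [hr, h0]
    exact smul_zero (A := Ω[L⁄C]) r
  have hDT : ∀ a : T, D (toS a) = 0 := by
    intro a
    induction a using Polynomial.induction_on with
    | C z =>
      induction z using TensorProduct.induction_on with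
      | zero =>
        show D (algebraMap S L (mkS (Polynomial.C 0))) = 0
        rw [map_zero, map_zero, map_zero, map_zero]
      | tmul r b =>
        have : toS (Polynomial.C (r ⊗ₜ b)) = algebraMap C L r * algebraMap B L b := hlaminj (by
          rw [map_mul, lam.commutes, hlamB]
          show lam (algebraMap S L _) = _
          rw [hlam, hτS]
          show Polynomial.eval₂ _ x (Polynomial.C _) = _
          rw [Polynomial.eval₂_C]
          exact toW_tmul r b)
        rw [this, Derivation.leibniz, Derivation.map_algebraMap, hDB0, smul_zero, smul_zero, add_zero]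
      | add y z hy hz =>
        simp only [toS, map_add] at hy hz ⊢
        rw [hy, hz, add_zero]
    | add y z hy hz =>
      simp only [toS, map_add] at hy hz ⊢
      rw [hy, hz, add_zero]
    | monomial n z h =>
      rw [pow_succ, ← mul_assoc]
      simp only [toS, map_mul] at h ⊢
      rw [Derivation.leibniz, h, smul_zero, add_zero]
      rw [show algebraMap S L (mkS Polynomial.X) = X' from rfl, hDX, smul_zero]
  haveI : Algebra.FormallyUnramified C L := by
    constructor
    refine subsingleton_of_forall_eq 0 fun y => ?_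
    have hy : y ∈ Submodule.span L (Set.range D) := by
      rw [KaehlerDifferential.span_range_derivation]; trivial
    induction hy using Submodule.span_induction with
    | mem y hy =>
      obtain ⟨a, rfl⟩ := hy
      obtain ⟨a, s, rfl⟩ := IsLocalization.exists_mk'_eq 𝔮.primeCompl a
      obtain ⟨a, rfl⟩ := hmkS a
      obtain ⟨s, hs⟩ := s
      obtain ⟨s, rfl⟩ := hmkS s
      have h1 := congrArg D (IsLocalization.mk'_spec L (mkS a) (⟨mkS s, hs⟩ : 𝔮.primeCompl))
      rw [Derivation.leibniz] at h1
      have h3 : D (algebraMap S L (mkS s)) = 0 := hDT s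
      have h4 : D (algebraMap S L (mkS a)) = 0 := hDT a
      rw [h4] at h1
      have h5 : algebraMap S L (mkS s) •
          D (IsLocalization.mk' L (mkS a) (⟨mkS s, hs⟩ : 𝔮.primeCompl)) = 0 := by
        simpa [h3, -algebraMap_smul] using h1
      have hu5 : IsUnit (algebraMap S L (mkS s)) := IsLocalization.map_units L (⟨mkS s, hs⟩ : 𝔮.primeCompl)
      exact hu5.smul_eq_zero.mp h5
    | zero => rfl
    | add y z _ _ hy hz => rw [hy, hz, add_zero]
    | smul r y _ hy => rw [hy, smul_zero]
  -- the local ring is a discrete valuation ring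
  have hmaxL : maximalIdeal L = Ideal.span {algebraMap C L ϖ₁} := by
    rw [← Algebra.FormallyUnramified.map_maximalIdeal (R := C) (S := L), hϖ₁, Ideal.map_span,
      Set.image_singleton]
  haveI : IsNoetherianRing L := Algebra.EssFiniteType.isNoetherianRing C L
  have hpL0 : algebraMap C L ϖ₁ ≠ 0 := fun h => hp0 (by
    have := congrArg lam h; rwa [lam.commutes, map_zero] at this)
  haveI : IsDomain L := IsLocalization.isDomain_of_le_nonZeroDivisors _ 𝔮.primeCompl_le_nonZeroDivisors
  haveI : IsDiscreteValuationRing L := by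
    have hnf : ¬ IsField L := by
      rw [IsLocalRing.isField_iff_maximalIdeal_eq, hmaxL, Ideal.span_singleton_eq_bot]
      exact hpL0
    refine ((IsDiscreteValuationRing.TFAE L hnf).out 0 4).mpr ?_
    exact ⟨⟨_, hmaxL⟩⟩
  have hirr := (IsDiscreteValuationRing.irreducible_iff_uniformizer _).mpr hmaxL
  have hstruct : ∀ t : C ⊗[A] B, toW (W := W) t ≠ 0 →
      ∃ (m : ℕ) (u : Lˣ), toW (W := W) t = lam (u : L) * p ^ m := by
    intro t ht
    have e1 : lam (toS (Polynomial.C t)) = toW (W := W) t := by
      show lam (algebraMap S L _) = _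
      rw [hlam, hτS]
      exact Polynomial.eval₂_C _ _
    obtain ⟨m, u, hu⟩ := IsDiscreteValuationRing.eq_unit_mul_pow_irreducible
      (x := toS (Polynomial.C t)) (fun h0 => ht (by rw [← e1, h0, map_zero])) hirr
    exact ⟨m, u, by rw [← e1, hu, map_mul, map_pow, lam.commutes]⟩
  have hall : ∀ z : W, z = 0 ∨ ∃ (m : ℕ) (u : Lˣ), z = lam (u : L) * p ^ m := by
    intro z
    by_cases hz : z = 0
    · exact Or.inl hz
    obtain ⟨t, s, hs, hts⟩ := hgen z
    obtain ⟨m, u, hu⟩ := hstruct s hs
    obtain ⟨n, w, hw⟩ := hstruct t (hts ▸ mul_ne_zero hz hs)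
    rw [hu, hw] at hts
    have hwu : lam (w : L) = lam ((w * u⁻¹ : Lˣ) : L) * lam (u : L) := by
      rw [← map_mul, ← Units.val_mul, inv_mul_cancel_right]
    have h1 : z * p ^ m = lam ((w * u⁻¹ : Lˣ) : L) * p ^ n := by
      refine mul_left_cancel₀ ((u.isUnit.map lam).ne_zero) ?_
      linear_combination hts + p ^ n * hwu
    have hmn : m ≤ n := by
      by_contra hlt
      push Not at hlt
      have h2 : z * p ^ (m - n) = lam ((w * u⁻¹ : Lˣ) : L) := by
        refine mul_right_cancel₀ (pow_ne_zero n hp0) ?_
        rw [mul_assoc, ← pow_add, Nat.sub_add_cancel hlt.le, h1]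
      have hu' : IsUnit (z * p ^ (m - n)) := h2 ▸ (w * u⁻¹).isUnit.map lam
      exact hpm ((isUnit_pow_iff (by omega)).mp (isUnit_of_mul_isUnit_right hu'))
    refine Or.inr ⟨n - m, w * u⁻¹, mul_right_cancel₀ (pow_ne_zero m hp0) ?_⟩
    rw [h1, mul_assoc, ← pow_add, Nat.sub_add_cancel hmn]
  refine ⟨le_antisymm (((local_hom_TFAE (algebraMap C W)).out 0 2 rfl rfl).mp inferInstance) fun z hz => ?_, ?_⟩
  · rw [hϖ₁, Ideal.map_span, Set.image_singleton, Ideal.mem_span_singleton]
    rcases hall z with h | ⟨m, u, h⟩
    · exact h ▸ dvd_zero _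
    · rcases m with _ | m
      · exact absurd (by rw [h, pow_zero, mul_one]; exact u.isUnit.map lam) hz
      · exact ⟨lam (u : L) * p ^ m, by rw [h, pow_succ]; ring⟩
  · letI : Algebra L W := lam.toRingHom.toAlgebra
    haveI : IsLocalHom (algebraMap L W) := ‹IsLocalHom lam.toRingHom›
    haveI : IsScalarTower C L W := IsScalarTower.of_algebraMap_eq fun r => (lam.commutes r).symm
    haveI : Algebra.IsSeparable (ResidueField C) (ResidueField L) := inferInstance
    have hsurj : Function.Surjective (algebraMap (ResidueField L) (ResidueField W)) := by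
      intro z
      obtain ⟨z, rfl⟩ := residue_surjective z
      rcases hall z with h | ⟨m, u, h⟩
      · exact ⟨0, by rw [h, map_zero, map_zero]⟩
      · rcases m with _ | m
        · exact ⟨residue L u, by rw [h, pow_zero, mul_one]; rfl⟩
        · refine ⟨0, ?_⟩
          rw [map_zero, eq_comm, residue_eq_zero_iff, h, pow_succ, ← mul_assoc]
          exact Ideal.mul_mem_left _ _ hpm
    let φ : ResidueField L ≃ₐ[ResidueField C] ResidueField W :=
      AlgEquiv.ofBijective (IsScalarTower.toAlgHom _ _ _) ⟨RingHom.injective _, hsurj⟩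
    exact AlgEquiv.Algebra.isSeparable φ

end GrothLib.TameAbh21
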