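import Groth.Agent.Lib.DVRExt.Ramification
import Groth.Agent.Lib.N2.MoriNagata
import Groth.Agent.Lib.FEt21.FreeCodimOne
import Groth.Prelude.Def_EtRam
import Mathlib.RingTheory.Unramified.LocalRing
import Mathlib.RingTheory.EssentialFiniteness
import Mathlib

/-!
Height one primes of a finite normal extension as valuation subrings.
-/

set_option autoImplicit false
set_option linter.style.haveILetI false

universe u

open IsLocalRing

namespace GrothLib.TameAbh21

variable {E M : Type u} [CommRing E] [IsDomain E] [Field M] [Algebra E M] [IsFractionRing E M]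

/-- A valuation subring centered at a prime with valuation ring localization is that localization. -/
theorem isLocalization_center (Q : Ideal E) [Q.IsPrime] [ValuationRing (Localization.AtPrime Q)]
    (W : ValuationSubring M) (hE : ∀ e : E, algebraMap E M e ∈ W)
    (hc : ∀ e : E, W.valuation (algebraMap E M e) < 1 ↔ e ∈ Q) :
    @IsLocalization.AtPrime E _ W _ (RingHom.codRestrict (algebraMap E M) W hE).toAlgebra Q _ := by
  letI : Algebra E W := (RingHom.codRestrict (algebraMap E M) W hE).toAlgebra
  have hu : ∀ b : E, b ∉ Q → IsUnit (algebraMap E W b) := fun b hb => by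
    by_contra h
    exact hb ((hc b).mp ((ValuationSubring.valuation_lt_one_iff W _).mp h))
  show IsLocalization Q.primeCompl W
  rw [isLocalization_iff]
  refine ⟨fun b => hu b.1 b.2, fun w => ?_, fun {a b} hab => ?_⟩
  · obtain ⟨a, b, hb, hab⟩ := IsFractionRing.div_surjective E (w : M)
    have hb0 : algebraMap E M b ≠ 0 := IsFractionRing.to_map_ne_zero_of_mem_nonZeroDivisors hb
    rcases ValuationRing.dvd_total (algebraMap E (Localization.AtPrime Q) b)
      (algebraMap E (Localization.AtPrime Q) a) with ⟨c, hc'⟩ | ⟨c, hc'⟩
    · obtain ⟨r, d, rfl⟩ := IsLocalization.exists_mk'_eq Q.primeCompl c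
      refine ⟨(r, d), Subtype.ext ?_⟩
      have h1 : a * (d : E) = b * r := by
        refine IsLocalization.injective (Localization.AtPrime Q) Q.primeCompl_le_nonZeroDivisors ?_
        rw [map_mul, map_mul, hc', mul_assoc, IsLocalization.mk'_spec]
      show (w : M) * algebraMap E M d = algebraMap E M r
      rw [← hab, div_mul_eq_mul_div, div_eq_iff hb0, ← map_mul, ← map_mul, h1, mul_comm]
    · obtain ⟨r, d, rfl⟩ := IsLocalization.exists_mk'_eq Q.primeCompl c
      have h1 : b * (d : E) = a * r := by
        refine IsLocalization.injective (Localization.AtPrime Q) Q.primeCompl_le_nonZeroDivisors ?_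
        rw [map_mul, map_mul, hc', mul_assoc, IsLocalization.mk'_spec]
      have h2 : algebraMap E M (d : E) = (w : M) * algebraMap E M r := by
        refine mul_left_cancel₀ hb0 ?_
        rw [← map_mul, h1, map_mul, ← mul_assoc, ← hab, mul_div_cancel₀ _ hb0]
      have hr : r ∉ Q := fun hr => d.2 ((hc _).mp (by
        rw [h2, map_mul]
        exact (mul_le_mul' ((ValuationSubring.valuation_le_one_iff W _).mpr w.2) le_rfl).trans_lt
          (by rw [one_mul]; exact (hc r).mpr hr)))
      exact ⟨((d : E), ⟨r, hr⟩), Subtype.ext h2.symm⟩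
  · exact ⟨1, by rw [(IsFractionRing.injective E M) (congrArg (fun w : W => (w : M)) hab)]⟩

variable {B L : Type u} [CommRing B] [IsDomain B] [IsIntegrallyClosed B] [IsNoetherianRing B] [Field L]
  [Algebra B L] [IsFractionRing B L] [Algebra B E] [Module.Finite B E] [FaithfulSMul B E]
  [IsIntegrallyClosed E] [Algebra L M] [Algebra B M] [IsScalarTower B L M] [IsScalarTower B E M]

/-- Unramifiedness in codimension one can be tested on valuation subrings. -/
theorem isUnramifiedAt_of_valuation (Q : Ideal E) [Q.IsPrime] (hQ : Q.height = 1)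
    (h : ∀ W : ValuationSubring M, (∀ e : E, algebraMap E M e ∈ W) →
      (∀ e : E, W.valuation (algebraMap E M e) < 1 ↔ e ∈ Q) →
      letI : Algebra (W.comap (algebraMap L M)) W := (EtRam.inclOfComap W (algebraMap L M)).toAlgebra
      ∀ [IsLocalHom (algebraMap (W.comap (algebraMap L M)) W)],
        EtRam.IsWeaklyUnramified (W.comap (algebraMap L M)) W ∧
          Algebra.IsSeparable (ResidueField (W.comap (algebraMap L M))) (ResidueField W)) :
    Algebra.IsUnramifiedAt B Q := by
  classical
  haveI : IsNoetherianRing E := IsNoetherianRing.of_finite B E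
  haveI := GrothLib.MoriNagata.isDiscreteValuationRing_of_height_one Q hQ
  set P := Q.under B
  have hP1 : P.height = 1 := by
    refine le_antisymm ?_ (hQ ▸ GrothLib.FEt21.height_le_under (R := B) Q)
    haveI : Module.IsTorsionFree B E := Module.isTorsionFree_iff_faithfulSMul.mpr inferInstance
    rw [← hQ, Ideal.height_eq_height_add_of_liesOver_of_hasGoingDown P Q]
    exact le_self_add
  haveI := GrothLib.MoriNagata.isDiscreteValuationRing_of_height_one P hP1
  -- a valuation subring centered at `Q`
  let g : Localization.AtPrime Q →+* M := IsLocalization.lift (g := algebraMap E M) fun s : Q.primeCompl =>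
    isUnit_iff_ne_zero.mpr ((map_ne_zero_iff _ (IsFractionRing.injective E M)).mpr fun h0 => s.2 (h0 ▸ Q.zero_mem))
  obtain ⟨W, hW, hWloc⟩ := exists_factor_valuationRing g
  have hE : ∀ e : E, algebraMap E M e ∈ W := fun e => IsLocalization.lift_eq (M := Q.primeCompl) (S := Localization.AtPrime Q) (g := algebraMap E M) _ e ▸ hW _
  have hc : ∀ e : E, W.valuation (algebraMap E M e) < 1 ↔ e ∈ Q := fun e => by
    rw [← IsLocalization.AtPrime.to_map_mem_maximal_iff (Localization.AtPrime Q) Q e,
      ← ValuationSubring.valuation_lt_one_iff W ⟨_, hE e⟩]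
    have he : (⟨_, hE e⟩ : W) = g.codRestrict W.toSubring hW (algebraMap E _ e) :=
      Subtype.ext (IsLocalization.lift_eq _ e).symm
    rw [he]
    exact ⟨fun h1 hu => h1 (hu.map _), fun h1 hu => h1 (hWloc.map_nonunit _ hu)⟩
  set C := W.comap (algebraMap L M)
  letI : Algebra C W := (EtRam.inclOfComap W (algebraMap L M)).toAlgebra
  haveI : IsLocalHom (algebraMap C W) := EtRam.isLocalHom_inclOfComap W (algebraMap L M)
  obtain ⟨hwu, hsep⟩ := h W hE hc
  letI : Algebra E W := (RingHom.codRestrict (algebraMap E M) W hE).toAlgebra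
  haveI hlocW : IsLocalization.AtPrime W Q := isLocalization_center Q W hE hc
  have hBC : ∀ b : B, algebraMap B L b ∈ C := fun b => by
    show algebraMap L M (algebraMap B L b) ∈ W
    rw [← IsScalarTower.algebraMap_apply, IsScalarTower.algebraMap_apply B E M]
    exact hE _
  letI : Algebra B C := (RingHom.codRestrict (algebraMap B L) C hBC).toAlgebra
  letI : Algebra B W := ((algebraMap E W).comp (algebraMap B E)).toAlgebra
  haveI : IsScalarTower B E W := IsScalarTower.of_algebraMap_eq fun _ => rfl
  haveI : IsScalarTower B C W := IsScalarTower.of_algebraMap_eq fun b => Subtype.ext (by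
    show algebraMap E M (algebraMap B E b) = algebraMap L M (algebraMap B L b)
    rw [← IsScalarTower.algebraMap_apply, ← IsScalarTower.algebraMap_apply])
  have hmemP : ∀ b : B, algebraMap B C b ∈ maximalIdeal C ↔ b ∈ P := fun b => by
    have h1 : b ∈ P ↔ algebraMap B W b ∈ maximalIdeal W := by
      rw [show (b ∈ P ↔ algebraMap B E b ∈ Q) from Iff.rfl |> fun h => h, IsScalarTower.algebraMap_apply B E W,
        IsLocalization.AtPrime.to_map_mem_maximal_iff W Q]
    rw [h1, IsScalarTower.algebraMap_apply B C W]
    exact ⟨fun hb hu => hb ((EtRam.isLocalHom_inclOfComap W (algebraMap L M)).map_nonunit _ hu),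
      fun hb hu => hb (hu.map _)⟩
  haveI : IsLocalization P.primeCompl C := by
    rw [isLocalization_iff]
    refine ⟨fun s => by_contra fun h => s.2 ((hmemP _).mp h), fun c => ?_, fun {a b} hab => ?_⟩
    · obtain ⟨a, s, hs, has⟩ := IsFractionRing.div_surjective B (c : L)
      have hs0 : algebraMap B L s ≠ 0 := IsFractionRing.to_map_ne_zero_of_mem_nonZeroDivisors hs
      rcases ValuationRing.dvd_total (algebraMap B (Localization.AtPrime P) s)
        (algebraMap B (Localization.AtPrime P) a) with ⟨v, hv⟩ | ⟨v, hv⟩
      · obtain ⟨r, d, rfl⟩ := IsLocalization.exists_mk'_eq P.primeCompl v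
        refine ⟨(r, d), Subtype.ext ?_⟩
        have h1 : a * (d : B) = s * r := by
          refine IsLocalization.injective (Localization.AtPrime P) P.primeCompl_le_nonZeroDivisors ?_
          rw [map_mul, map_mul, hv, mul_assoc, IsLocalization.mk'_spec]
        show (c : L) * algebraMap B L d = algebraMap B L r
        rw [← has, div_mul_eq_mul_div, div_eq_iff hs0, ← map_mul, ← map_mul, h1, mul_comm]
      · obtain ⟨r, d, rfl⟩ := IsLocalization.exists_mk'_eq P.primeCompl v
        have h1 : s * (d : B) = a * r := by
          refine IsLocalization.injective (Localization.AtPrime P) P.primeCompl_le_nonZeroDivisors ?_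
          rw [map_mul, map_mul, hv, mul_assoc, IsLocalization.mk'_spec]
        have h2 : algebraMap B L (d : B) = (c : L) * algebraMap B L r := by
          refine mul_left_cancel₀ hs0 ?_
          rw [← map_mul, h1, map_mul, ← mul_assoc, ← has, mul_div_cancel₀ _ hs0]
        have h3 : algebraMap B C d = c * algebraMap B C r := Subtype.ext h2
        have hr : r ∉ P := fun hr => d.2 ((hmemP _).mp (h3 ▸ Ideal.mul_mem_left _ c ((hmemP r).mpr hr)))
        exact ⟨((d : B), ⟨r, hr⟩), h3.symm⟩
    · exact ⟨1, by rw [(IsFractionRing.injective B L) (congrArg (fun w : C => (w : L)) hab)]⟩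
  haveI : Algebra.EssFiniteType E W := Algebra.EssFiniteType.of_isLocalization W Q.primeCompl
  haveI : Algebra.EssFiniteType B W := Algebra.EssFiniteType.comp B E W
  haveI : Algebra.EssFiniteType C W := Algebra.EssFiniteType.of_comp B C W
  haveI : Algebra.FormallyUnramified C W :=
    Algebra.FormallyUnramified.iff_map_maximalIdeal_eq.mpr ⟨hsep, hwu⟩
  haveI : Algebra.FormallyUnramified B C := Algebra.FormallyUnramified.of_isLocalization P.primeCompl
  haveI : Algebra.FormallyUnramified B W := Algebra.FormallyUnramified.comp B C W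
  exact Algebra.FormallyUnramified.of_equiv
    ((IsLocalization.algEquiv Q.primeCompl W (Localization.AtPrime Q)).restrictScalars B)

end GrothLib.TameAbh21
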