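import Groth.Agent.Lib.TameAbh21.RecognizePoint
import Groth.Agent.Lib.DVRExt.Independent
import Groth.Agent.Lib.WildQuot.LiftAut

/-!
Tameness in residue characteristic zero; points of split covers.
-/

set_option autoImplicit false
set_option linter.style.haveILetI false
set_option linter.unusedSectionVars false

universe u

open IsLocalRing TensorProduct

namespace GrothLib.TameAbh21

/-- The residue fields of the extensions are algebraic. -/
theorem finite_residue {A K L : Type u} [CommRing A] [IsDomain A] [IsDiscreteValuationRing A]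
    [Field K] [Algebra A K] [IsFractionRing A K] [Field L] [Algebra K L] [Algebra A L] [IsScalarTower A K L]
    [FiniteDimensional K L] (V : ValuationSubring L) [IsDiscreteValuationRing V] [Algebra A V]
    [IsScalarTower A V L] [IsLocalHom (algebraMap A V)] (hinj : Function.Injective (algebraMap A V)) :
    Module.Finite (ResidueField A) (ResidueField V) := by
  classical
  have key : ∀ s : Finset (ResidueField V), LinearIndependent (ResidueField A) (fun i : s => (i : ResidueField V)) →
      s.card ≤ Module.finrank K L := fun s hs => by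
    choose b hb using fun i : s => residue_surjective (R := V) (i : ResidueField V)
    obtain ⟨ϖ, hϖ⟩ := IsDiscreteValuationRing.exists_irreducible V
    have h1 := GrothLib.DVRExt.linearIndependent_mul_pow (A := A) hinj b (by simpa [hb] using hs) hϖ
    have hpos := (GrothLib.DVRExt.map_maximalIdeal_eq_pow (A := A) (B := V) hinj).1
    have h2 := h1.comp (fun i : s => ((⟨0, hpos⟩ : Fin _), i)) (fun i j h => (Prod.ext_iff.mp h).2)
    have h3 := h2.map' (IsScalarTower.toAlgHom A V L).toLinearMap (LinearMap.ker_eq_bot.mpr Subtype.val_injective)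
    have h4 := (LinearIndependent.iff_fractionRing A K).mp h3
    simpa using h4.fintype_card_le_finrank
  exact Module.rank_lt_aleph0_iff.mp ((rank_le key).trans_lt (Cardinal.natCast_lt_aleph0))

/-- Residue characteristic zero implies tameness. -/
theorem isTamelyRamified_of_charZero {A K L : Type u} [CommRing A] [IsDomain A] [IsDiscreteValuationRing A]
    [CharZero (ResidueField A)] [Field K] [Algebra A K] [IsFractionRing A K] [Field L] [Algebra K L]
    [FiniteDimensional K L] [Algebra.IsSeparable K L] :
    EtRam.IsTamelyRamified A ((algebraMap K L).comp (algebraMap A K)) := by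
  intro V h
  letI : Algebra A V := (RingHom.codRestrict ((algebraMap K L).comp (algebraMap A K)) V h.1).toAlgebra
  intro hloc
  obtain ⟨hd, hinj, -⟩ := GrothLib.DVRExt.dominates_algebra A K L V h
  haveI := hd
  letI : Algebra A L := ((algebraMap K L).comp (algebraMap A K)).toAlgebra
  haveI : IsScalarTower A K L := IsScalarTower.of_algebraMap_eq fun _ => rfl
  haveI : IsScalarTower A V L := IsScalarTower.of_algebraMap_eq fun _ => rfl
  haveI := finite_residue (K := K) V hinj
  refine ⟨inferInstance, fun p hp hc => ?_⟩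
  haveI := hc
  exact absurd (CharP.eq (ResidueField A) hc (CharP.ofCharZero _)) hp.ne_zero

/-- A field-valued point of a finite étale algebra over a strictly henselian domain is rational. -/
theorem range_le_of_strict {R E L : Type u} [CommRing R] [HenselianLocalRing R] [IsSepClosed (ResidueField R)]
    [CommRing E] [Algebra R E] [Module.Finite R E] [Algebra.Etale R E] [Field L] [Algebra R L] (θ : E →ₐ[R] L)
    (e : E) : ∃ a : R, algebraMap R L a = θ e := by
  haveI : (RingHom.ker θ.toRingHom).IsPrime := RingHom.ker_isPrime _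
  let P := RingHom.ker θ.toRingHom
  haveI : Module.Finite R (E ⧸ P) := Module.Finite.of_surjective (Ideal.Quotient.mkₐ R P).toLinearMap
    Ideal.Quotient.mk_surjective
  haveI : IsLocalRing (E ⧸ P) := GrothLib.WildQuot.LiftAut.isLocalRing_of_finite_domain R (E ⧸ P)
  haveI : Algebra.FormallyUnramified R (E ⧸ P) :=
    Algebra.FormallyUnramified.of_surjective (Ideal.Quotient.mkₐ R P) Ideal.Quotient.mk_surjective
  haveI : Algebra.IsIntegral R (E ⧸ P) := Algebra.IsIntegral.of_finite R _
  have hc : (maximalIdeal (E ⧸ P)).comap (algebraMap R (E ⧸ P)) = maximalIdeal R :=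
    eq_maximalIdeal (Ideal.isMaximal_comap_of_isIntegral_of_isMaximal (R := R) _)
  haveI : IsLocalHom (algebraMap R (E ⧸ P)) := ((IsLocalRing.local_hom_TFAE _).out 0 4 rfl rfl).mpr hc
  have hsep : Algebra.IsSeparable (ResidueField R) (ResidueField (E ⧸ P)) :=
    ((Algebra.FormallyUnramified.iff_map_maximalIdeal_eq (R := R) (S := E ⧸ P)).mp inferInstance).1
  have hmax := ((Algebra.FormallyUnramified.iff_map_maximalIdeal_eq (R := R) (S := E ⧸ P)).mp inferInstance).2
  haveI := hsep
  have hsurjκ := IsSepClosed.algebraMap_surjective (ResidueField R) (ResidueField (E ⧸ P))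
  have htop : LinearMap.range (Algebra.linearMap R (E ⧸ P)) = ⊤ := by
    refine eq_top_iff.mpr (Submodule.le_of_le_smul_of_le_jacobson_bot (I := maximalIdeal R) Module.Finite.fg_top
      (IsLocalRing.maximalIdeal_le_jacobson _) fun z _ => ?_)
    obtain ⟨a, ha⟩ := hsurjκ (residue _ z)
    obtain ⟨a, rfl⟩ := residue_surjective a
    rw [← sub_add_cancel z (algebraMap R (E ⧸ P) a), add_comm]
    refine Submodule.add_mem_sup ⟨a, rfl⟩ ?_
    rw [Ideal.smul_top_eq_map, hmax, Submodule.restrictScalars_mem, ← residue_eq_zero_iff, map_sub, ← ha]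
    exact sub_self _
  obtain ⟨a, ha⟩ : Ideal.Quotient.mk P e ∈ LinearMap.range (Algebra.linearMap R (E ⧸ P)) := htop ▸ Submodule.mem_top
  refine ⟨a, ?_⟩
  rw [← θ.commutes, eq_comm, ← sub_eq_zero, ← map_sub]
  exact Ideal.Quotient.eq.mp ha.symm

/-- A field-valued point of a cover split by a strictly henselian domain. -/
theorem exists_div_of_split {A R B E L : Type u} [CommRing A] [CommRing R] [HenselianLocalRing R]
    [IsSepClosed (ResidueField R)] [Algebra A R] [CommRing B] [Algebra A B] [CommRing E] [Algebra R E]
    [Module.Finite R E] [Algebra.Etale R E] {P : R} (ρ : E →ₐ[R] R ⊗[A] B)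
    (hρ : @IsLocalization.Away E _ (algebraMap R E P) (R ⊗[A] B) _ ρ.toRingHom.toAlgebra)
    [Field L] [Algebra A L] [Algebra R L] [IsScalarTower A R L] (χ : B →ₐ[A] L) (b : B) :
    ∃ (a : R) (k : ℕ), χ b * algebraMap R L P ^ k = algebraMap R L a := by
  letI := ρ.toRingHom.toAlgebra
  haveI := hρ
  obtain ⟨⟨e, ⟨_, k, rfl⟩⟩, he⟩ := IsLocalization.surj (Submonoid.powers (algebraMap R E P)) ((1 : R) ⊗ₜ[A] b)
  let μ : R ⊗[A] B →ₐ[R] L := Algebra.TensorProduct.lift (Algebra.ofId R L) χ fun _ _ => Commute.all _ _
  obtain ⟨a, ha⟩ := range_le_of_strict (μ.comp ρ) e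
  refine ⟨a, k, ?_⟩
  have he' : ((1 : R) ⊗ₜ[A] b) * ρ (algebraMap R E P ^ k) = ρ e := he
  have h := congrArg μ he'
  rw [map_mul, Algebra.TensorProduct.lift_tmul, map_one, one_mul, map_pow, map_pow, ρ.commutes, μ.commutes] at h
  rw [ha, h]; rfl

end GrothLib.TameAbh21
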