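import Groth.Agent.Lib.TameAbh21.TraceMod
import Mathlib.RingTheory.Localization.NormTrace
import Mathlib.RingTheory.DiscreteValuationRing.TFAE
import Mathlib.RingTheory.UniqueFactorizationDomain.Ideal
import Mathlib.RingTheory.Ideal.GoingUp

/-!
The trace of a finite free algebra modulo a principal prime of the base.
-/

set_option autoImplicit false
set_option linter.style.haveILetI false

universe u

open IsLocalRing

namespace GrothLib.TameAbh21

/-- The localization at a principal prime of a Noetherian domain is a discrete valuation ring. -/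
theorem isDVR_atPrime_span {R : Type u} [CommRing R] [IsDomain R] [IsNoetherianRing R] {π : R} (hπ : π ≠ 0)
    [(Ideal.span {π}).IsPrime] :
    IsDiscreteValuationRing (Localization.AtPrime (Ideal.span {π})) := by
  let O := Localization.AtPrime (Ideal.span {π})
  haveI : IsNoetherianRing O := IsLocalization.isNoetherianRing (Ideal.span {π}).primeCompl O inferInstance
  haveI : IsDomain O := IsLocalization.isDomain_of_le_nonZeroDivisors _ (Ideal.span {π}).primeCompl_le_nonZeroDivisors
  have hmax : maximalIdeal O = Ideal.span {algebraMap R O π} := by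
    rw [← IsLocalization.AtPrime.map_eq_maximalIdeal (Ideal.span {π}) O, Ideal.map_span, Set.image_singleton]
  have h0 : algebraMap R O π ≠ 0 := fun h => hπ <|
    (IsLocalization.injective O (Ideal.span {π}).primeCompl_le_nonZeroDivisors (h.trans (map_zero _).symm))
  have hnf : ¬ IsField O := by
    rw [IsLocalRing.isField_iff_maximalIdeal_eq, hmax, Ideal.span_singleton_eq_bot]
    exact h0
  refine ((IsDiscreteValuationRing.TFAE O hnf).out 0 4).mpr ?_
  exact ⟨⟨_, hmax⟩⟩

variable {R E : Type u} [CommRing R] [IsDomain R] [IsNoetherianRing R] [CommRing E] [IsDomain E]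
  [Algebra R E] [Module.Finite R E] [Module.Free R E]

/-- A residue of the trace is `e` times a residual trace when the element vanishes at the other primes. -/
theorem trace_residue {π : R} (hπ : π ≠ 0) [(Ideal.span {π}).IsPrime]
    (Q : Ideal E) [Q.IsPrime] [Q.LiesOver (Ideal.span {π})] [IsDiscreteValuationRing (Localization.AtPrime Q)]
    (z : E) (hz : ∀ P : Ideal E, P.IsPrime → P.under R = Ideal.span {π} → P ≠ Q → z ∈ P) :
    letI := Localization.AtPrime.algebraOfLiesOver (Ideal.span {π}) Q
    residue (Localization.AtPrime (Ideal.span {π})) (algebraMap R _ (Algebra.trace R E z)) =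
      Ideal.ramificationIdx' (maximalIdeal (Localization.AtPrime (Ideal.span {π})))
          (maximalIdeal (Localization.AtPrime Q)) •
        Algebra.trace (ResidueField (Localization.AtPrime (Ideal.span {π}))) (ResidueField (Localization.AtPrime Q))
          (residue _ (algebraMap E (Localization.AtPrime Q) z)) := by
  classical
  set p := Ideal.span {π}
  letI := Localization.AtPrime.algebraOfLiesOver p Q
  haveI : IsDiscreteValuationRing (Localization.AtPrime p) := isDVR_atPrime_span hπ
  let O := Localization.AtPrime p
  let B := Localization.AtPrime Q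
  let M := Algebra.algebraMapSubmonoid E p.primeCompl
  let S := Localization M
  letI : Algebra O S := localizationAlgebra p.primeCompl E
  haveI : IsScalarTower R O S :=
    IsScalarTower.of_algebraMap_eq'
      (by rw [RingHom.algebraMap_toAlgebra, IsLocalization.map_comp, ← IsScalarTower.algebraMap_eq])
  haveI : Module.Finite O S := Module.Finite.of_isLocalization R E p.primeCompl
  haveI : Module.Free O S := Module.free_of_isLocalizedModule (R := R) (Rₛ := O) p.primeCompl
    (IsScalarTower.toAlgHom R E S).toLinearMap
  have hinjE : Function.Injective (algebraMap R E) := FaithfulSMul.algebraMap_injective R E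
  have hM0 : M ≤ nonZeroDivisors E := by
    rintro _ ⟨r, hr, rfl⟩
    exact mem_nonZeroDivisors_of_ne_zero ((map_ne_zero_iff _ hinjE).mpr fun h => hr (h ▸ p.zero_mem))
  haveI : IsDomain S := IsLocalization.isDomain_of_le_nonZeroDivisors _ hM0
  have hle : M ≤ Q.primeCompl := by
    rintro _ ⟨r, hr, rfl⟩ hrQ
    exact hr (by rw [(Ideal.LiesOver.over : p = Q.under R)]; exact hrQ)
  letI : Algebra S B := IsLocalization.localizationAlgebraOfSubmonoidLe _ _ _ _ hle
  haveI : IsScalarTower E S B := IsLocalization.localization_isScalarTower_of_submonoid_le _ _ _ _ hle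
  haveI : IsScalarTower O S B := IsScalarTower.of_algebraMap_eq' <| by
    refine IsLocalization.ringHom_ext p.primeCompl (RingHom.ext fun r => ?_)
    simp only [RingHom.comp_apply, ← IsScalarTower.algebraMap_apply R O B, ← IsScalarTower.algebraMap_apply R O S]
    rw [IsScalarTower.algebraMap_apply R E S, ← IsScalarTower.algebraMap_apply E S B,
      ← IsScalarTower.algebraMap_apply R E B]
  let Q' : Ideal S := (maximalIdeal B).comap (algebraMap S B)
  haveI : Q'.IsPrime := Ideal.IsPrime.comap _
  have hQ'E : ∀ a, algebraMap E S a ∈ Q' ↔ a ∈ Q := fun a => by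
    rw [Ideal.mem_comap, ← IsScalarTower.algebraMap_apply, IsLocalization.AtPrime.to_map_mem_maximal_iff B Q a]
  haveI hloc0 := IsLocalization.isLocalization_of_submonoid_le S B _ _ hle
  haveI : IsLocalization.AtPrime B Q' := by
    refine IsLocalization.isLocalization_of_is_exists_mul_mem B (Q.primeCompl.map (algebraMap E S)) Q'.primeCompl ?_ ?_
    · rintro _ ⟨a, ha, rfl⟩
      exact fun h => ha ((hQ'E a).mp h)
    · rintro ⟨s, hs⟩
      obtain ⟨a, m, rfl⟩ := IsLocalization.exists_mk'_eq M s
      refine ⟨algebraMap E S m, a, fun haQ => hs ?_, (IsLocalization.mk'_spec' S a m).symm⟩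
      have h2 : algebraMap E S a ∈ Q' := (hQ'E a).mpr haQ
      rw [← IsLocalization.mk'_spec S a m] at h2
      exact (Ideal.IsPrime.mem_or_mem inferInstance h2).resolve_right fun h => hle m.2 ((hQ'E m).mp h)
  haveI : IsLocalHom (algebraMap O B) := Localization.isLocalHom_localRingHom p Q _ _
  have hinjB : Function.Injective (algebraMap O B) := by
    refine IsLocalization.injective_of_map_algebraMap_zero (M := p.primeCompl) O (algebraMap O B) fun r hr => ?_
    rw [← IsScalarTower.algebraMap_apply, IsScalarTower.algebraMap_apply R E B] at hr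
    rw [hinjE ((IsLocalization.injective B Q.primeCompl_le_nonZeroDivisors (hr.trans (map_zero _).symm)).trans
      (map_zero (algebraMap R E)).symm), map_zero]
  have h := residue_trace_eq (O := O) (S := S) Q' (B := B) hinjB (algebraMap E S z) fun P hP hmP hne => by
    let P₀ : Ideal E := P.comap (algebraMap E S)
    haveI : P₀.IsPrime := Ideal.IsPrime.comap _
    have hunder : P₀.under R = p := by
      refine le_antisymm (fun r hr => ?_) (fun r hr => ?_)
      · by_contra hrp
        exact hP.ne_top (Ideal.eq_top_of_isUnit_mem _ (show algebraMap E S (algebraMap R E r) ∈ P from hr)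
          (IsLocalization.map_units S (⟨_, r, hrp, rfl⟩ : M)))
      · show algebraMap E S (algebraMap R E r) ∈ P
        rw [← IsScalarTower.algebraMap_apply, IsScalarTower.algebraMap_apply R O S]
        refine hmP (Ideal.mem_map_of_mem _ ?_)
        rw [← IsLocalization.AtPrime.map_eq_maximalIdeal p O]
        exact Ideal.mem_map_of_mem _ hr
    refine hz P₀ inferInstance hunder fun h0 => hne ?_
    rw [← IsLocalization.map_under M S P, ← IsLocalization.map_under M S Q']
    exact congrArg (Ideal.map (algebraMap E S)) (h0.trans (Ideal.ext hQ'E).symm)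
  rw [Algebra.trace_localization R p.primeCompl z, ← IsScalarTower.algebraMap_apply] at h
  exact h

end GrothLib.TameAbh21
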