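import Groth.Agent.Lib.TameAbh21.Center
import Groth.Agent.Lib.TameAbh21.Local
import Groth.Agent.Lib.TameAbh21.TraceLoc
import Groth.Agent.Lib.TameKum21.Basic
import Groth.Agent.Lib.UnrMono.Compositum

/-!
Unramifiedness in codimension one of the pullback of a tame cover to a Kummer covering.
-/

set_option autoImplicit false
set_option linter.style.haveILetI false

universe u

open IsLocalRing TensorProduct

namespace GrothLib.TameAbh21

/-- Outside the divisor the pullback is unramified. -/
theorem isUnramifiedAt_away {A C R E L M : Type u} [CommRing A] [CommRing C] [Algebra A C] [Algebra.Etale A C]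
    (P₀ : A) (hu : IsUnit (algebraMap A C P₀)) (hint : ∀ c : C, ∃ k : ℕ, IsIntegral A (P₀ ^ k • c))
    [CommRing R] [IsDomain R] [IsIntegrallyClosed R] [Algebra A R] [Field L] [Algebra R L] [IsFractionRing R L]
    [Field M] [Algebra L M] [Algebra R M] [Algebra A M] [IsScalarTower R L M] [IsScalarTower A R M]
    [CommRing E] [IsDomain E] [Algebra R E] [Algebra E M] [IsFractionRing E M] [IsScalarTower R E M]
    [IsIntegralClosure E R M]
    (χ : C →ₐ[A] M) (hgen : IntermediateField.adjoin L (Set.range χ) = ⊤)
    (Q : Ideal E) [Q.IsPrime] (hQ : algebraMap R E (algebraMap A R P₀) ∉ Q) :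
    Algebra.IsUnramifiedAt R Q := by
  classical
  have hinjRM : Function.Injective (algebraMap R M) := by
    rw [IsScalarTower.algebraMap_eq R L M]
    exact (algebraMap L M).injective.comp (IsFractionRing.injective R L)
  set P := algebraMap A R P₀
  have hP0 : algebraMap R M P ≠ 0 := by
    rw [← IsScalarTower.algebraMap_apply, ← χ.commutes]
    exact (hu.map χ).ne_zero
  have hPR : P ≠ 0 := fun h => hP0 (by rw [h, map_zero])
  let R' := Localization.Away P
  letI : Algebra R' M := (IsLocalization.Away.lift (g := algebraMap R M) P (isUnit_iff_ne_zero.mpr hP0)).toAlgebra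
  haveI : IsScalarTower R R' M := IsScalarTower.of_algebraMap_eq' (IsLocalization.Away.lift_comp P _).symm
  haveI : IsScalarTower A R' M := IsScalarTower.of_algebraMap_eq fun a => by
    rw [IsScalarTower.algebraMap_apply A R R', ← IsScalarTower.algebraMap_apply R R' M, ← IsScalarTower.algebraMap_apply]
  have hle : Submonoid.powers P ≤ nonZeroDivisors R := powers_le_nonZeroDivisors_of_noZeroDivisors hPR
  haveI : IsDomain R' := IsLocalization.isDomain_of_le_nonZeroDivisors _ hle
  haveI : IsIntegrallyClosed R' := isIntegrallyClosed_of_isLocalization R' _ hle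
  have hinj' : Function.Injective (algebraMap R' M) := by
    refine IsLocalization.injective_of_map_algebraMap_zero (M := Submonoid.powers P) _ _ fun r hr => ?_
    rw [← IsScalarTower.algebraMap_apply] at hr
    rw [(map_eq_zero_iff _ hinjRM).mp hr, map_zero]
  let T := R' ⊗[A] C
  haveI : Algebra.Etale R' T := inferInstance
  haveI : Algebra.IsIntegral R' T := ⟨fun x => by
    induction x using TensorProduct.induction_on with
    | zero => exact isIntegral_zero
    | add a b ha hb => exact ha.add hb
    | tmul r c =>
      obtain ⟨k, hk⟩ := hint c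
      have h1 : IsIntegral R' ((1 : R') ⊗ₜ[A] (P₀ ^ k • c) : T) :=
        (hk.map (Algebra.TensorProduct.includeRight (R := A) (A := R') (B := C))).tower_top
      obtain ⟨u, hu'⟩ := (IsLocalization.map_units R' (⟨P, Submonoid.mem_powers P⟩ : Submonoid.powers P)).pow k
      have h2 : (r ⊗ₜ[A] c : T) = algebraMap R' T (r * ↑u⁻¹) * ((1 : R') ⊗ₜ[A] (P₀ ^ k • c)) := by
        rw [TensorProduct.tmul_smul, TensorProduct.smul_tmul', Algebra.TensorProduct.algebraMap_apply,
          Algebra.TensorProduct.tmul_mul_tmul, Algebra.smul_def, map_pow, mul_one, one_mul, Algebra.algebraMap_self_apply]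
        congr 1
        rw [IsScalarTower.algebraMap_apply A R R', ← hu', mul_assoc, Units.inv_mul, mul_one]
      rw [h2]
      exact isIntegral_algebraMap.mul h1⟩
  haveI : Algebra.FiniteType R' T := inferInstance
  haveI : Module.Finite R' T := Algebra.IsIntegral.finite
  let ψ : T →ₐ[R'] M := Algebra.TensorProduct.lift (Algebra.ofId R' M) χ fun _ _ => Commute.all _ _
  obtain ⟨het, hnorm⟩ := GrothLib.UnrMono.etale_range hinj' ψ
  haveI := het
  haveI := hnorm
  let T' := ψ.range
  haveI : Algebra.IsIntegral R' T' := Algebra.IsIntegral.of_surjective ψ.rangeRestrict ψ.rangeRestrict_surjective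
  have hRT' : ∀ r : R, algebraMap R M r ∈ T' := fun r => by
    rw [IsScalarTower.algebraMap_apply R R' M]; exact T'.algebraMap_mem _
  have hχT' : ∀ c, χ c ∈ T' := fun c => ⟨1 ⊗ₜ c, by
    show ψ _ = _
    rw [Algebra.TensorProduct.lift_tmul, map_one, one_mul]⟩
  haveI : IsFractionRing T' M := by
    refine IsFractionRing.of_field T' M fun x => ?_
    let Φ : IntermediateField L M :=
      { Subfield.closure (T' : Set M) with
        algebraMap_mem' := fun l => by
          obtain ⟨a, b, -, rfl⟩ := IsFractionRing.div_surjective R l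
          rw [map_div₀, ← IsScalarTower.algebraMap_apply, ← IsScalarTower.algebraMap_apply]
          exact div_mem (Subfield.subset_closure (hRT' a)) (Subfield.subset_closure (hRT' b)) }
    have hx : x ∈ Φ := (show ⊤ ≤ Φ by
      rw [← hgen, IntermediateField.adjoin_le_iff]
      rintro _ ⟨c, rfl⟩
      exact Subfield.subset_closure (hχT' c)) IntermediateField.mem_top
    obtain ⟨y, hy, z, hz, rfl⟩ := Subfield.mem_closure_iff.mp hx
    rw [show Subring.closure (T' : Set M) = T'.toSubring from T'.toSubring.closure_eq] at hy hz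
    exact ⟨⟨y, hy⟩, ⟨z, hz⟩, rfl⟩
  have hET : ∀ e : E, algebraMap E M e ∈ T' := fun e => by
    have h1 : IsIntegral R' (algebraMap E M e) :=
      ((IsIntegralClosure.isIntegral R M e).map (IsScalarTower.toAlgHom R E M)).tower_top
    obtain ⟨y, hy⟩ := IsIntegrallyClosed.algebraMap_eq_of_integral (R := T') (K := M) (h1.tower_top (A := T'))
    rw [← hy]
    exact y.2
  -- the localization at `Q` receives `T'`
  let EQ := Localization.AtPrime Q
  let g : EQ →+* M := IsLocalization.lift (g := algebraMap E M) fun s : Q.primeCompl =>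
    isUnit_iff_ne_zero.mpr ((map_ne_zero_iff _ (IsFractionRing.injective E M)).mpr fun h0 => s.2 (h0 ▸ Q.zero_mem))
  have hg : ∀ e, g (algebraMap E EQ e) = algebraMap E M e := fun e => IsLocalization.lift_eq _ e
  have hginj : Function.Injective g := by
    refine IsLocalization.injective_of_map_algebraMap_zero (M := Q.primeCompl) _ _ fun r hr => ?_
    rw [hg] at hr
    rw [(map_eq_zero_iff _ (IsFractionRing.injective E M)).mp hr, map_zero]
  have hT'g : ∀ t : T', (t : M) ∈ g.range := fun t => by
    obtain ⟨⟨_, k, rfl⟩, hm⟩ := IsIntegral.exists_multiple_integral_of_isLocalization (Submonoid.powers P)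
      (t : M) ((Algebra.IsIntegral.isIntegral (R := R') t).map T'.val)
    obtain ⟨e, he⟩ := IsIntegralClosure.isIntegral_iff (A := E).mp hm
    obtain ⟨u, hu'⟩ := (IsLocalization.map_units EQ (⟨algebraMap R E P, hQ⟩ : Q.primeCompl)).pow k
    refine ⟨↑u⁻¹ * algebraMap E EQ e, ?_⟩
    refine mul_left_cancel₀ (pow_ne_zero k hP0) ?_
    have h3 : g ↑u = algebraMap R M P ^ k := by
      rw [hu', map_pow, hg, ← IsScalarTower.algebraMap_apply]
    rw [← h3, ← map_mul, Units.mul_inv_cancel_left, hg, he, h3, Submonoid.smul_def, Algebra.smul_def, map_pow]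
  let ge : EQ ≃+* g.range := RingEquiv.ofBijective g.rangeRestrict
    ⟨fun a b h => hginj (congrArg Subtype.val h), RingHom.rangeRestrict_surjective g⟩
  let θ : T' →+* EQ := ge.symm.toRingHom.comp (T'.val.toRingHom.codRestrict g.range hT'g)
  have hθ : ∀ t, g (θ t) = t := fun t => congrArg Subtype.val (ge.apply_symm_apply _)
  letI : Algebra T' EQ := θ.toAlgebra
  letI : Algebra E T' := ((algebraMap E M).codRestrict T' hET).toAlgebra
  letI : Algebra R T' := ((algebraMap R' T').comp (algebraMap R R')).toAlgebra
  haveI : IsScalarTower R R' T' := IsScalarTower.of_algebraMap_eq fun _ => rfl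
  haveI : IsScalarTower E T' EQ := IsScalarTower.of_algebraMap_eq fun e => hginj ((hg e).trans (hθ (algebraMap E T' e)).symm)
  haveI : IsScalarTower R T' EQ := IsScalarTower.of_algebraMap_eq fun r => hginj (by
    rw [IsScalarTower.algebraMap_apply R E EQ, hg, ← IsScalarTower.algebraMap_apply, IsScalarTower.algebraMap_apply R R' M]
    exact (hθ (algebraMap R T' r)).symm)
  haveI : Algebra.FormallyUnramified R R' := Algebra.FormallyUnramified.of_isLocalization (Submonoid.powers P)
  haveI : Algebra.FormallyUnramified R T' := Algebra.FormallyUnramified.comp R R' T'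
  haveI : Algebra.FormallyUnramified E EQ := Algebra.FormallyUnramified.of_isLocalization Q.primeCompl
  haveI : Algebra.FormallyUnramified T' EQ := Algebra.FormallyUnramified.of_restrictScalars E T' EQ
  exact Algebra.FormallyUnramified.comp R T' EQ

/-- A valuation subring centered over the prime `(f)` dominates `A_(f)`. -/
theorem dominates_of_center {A M E : Type u} [CommRing A] [Field M] [CommRing E] [Algebra A E] [Algebra E M]
    [Algebra A M] [IsScalarTower A E M] (p : Ideal A) [p.IsPrime] [Algebra (Localization.AtPrime p) M]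
    [IsScalarTower A (Localization.AtPrime p) M]
    (Q : Ideal E) (hQA : Q.comap (algebraMap A E) = p) (W : ValuationSubring M)
    (hE : ∀ e : E, algebraMap E M e ∈ W) (hc : ∀ e : E, W.valuation (algebraMap E M e) < 1 ↔ e ∈ Q) :
    EtRam.Dominates (Localization.AtPrime p) (algebraMap (Localization.AtPrime p) M) W := by
  have hval : ∀ (a : A) (s : p.primeCompl), W.valuation (algebraMap (Localization.AtPrime p) M
      (IsLocalization.mk' _ a s)) = W.valuation (algebraMap A M a) := fun a s => by
    have h1 : algebraMap (Localization.AtPrime p) M (IsLocalization.mk' _ a s) * algebraMap A M s = algebraMap A M a := by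
      rw [IsScalarTower.algebraMap_apply A (Localization.AtPrime p) M, ← map_mul, IsLocalization.mk'_spec,
        ← IsScalarTower.algebraMap_apply]
    have h2 : W.valuation (algebraMap A M s) = 1 := by
      rw [IsScalarTower.algebraMap_apply A E M]
      refine le_antisymm ((W.valuation_le_one_iff _).mpr (hE _)) (not_lt.mp fun hlt => s.2 ?_)
      show (s : A) ∈ p
      exact hQA.le ((hc _).mp hlt)
    rw [← h1, map_mul, h2, mul_one]
  refine ⟨fun a => ?_, fun a ha => ?_⟩
  · obtain ⟨a, s, rfl⟩ := IsLocalization.exists_mk'_eq p.primeCompl a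
    rw [← ValuationSubring.valuation_le_one_iff, hval, IsScalarTower.algebraMap_apply A E M]
    exact (W.valuation_le_one_iff _).mpr (hE _)
  · obtain ⟨a, s, rfl⟩ := IsLocalization.exists_mk'_eq p.primeCompl a
    rw [hval, IsScalarTower.algebraMap_apply A E M, hc]
    have hap : a ∈ p := (IsLocalization.AtPrime.mk'_mem_maximal_iff _ p a s).mp ha
    rw [← hQA] at hap
    exact hap

/-- Over the divisor the pullback is unramified when the exponent absorbs the ramification. -/
theorem kummer_unramified {A : Type u} [CommRing A] [IsDomain A] [IsNoetherianRing A]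
    {r : ℕ} (f : Fin r → A) (i : Fin r) (hfi : f i ≠ 0) [(Ideal.span {f i}).IsPrime]
    (hno : ∀ j, j ≠ i → f j ∉ Ideal.span {f i})
    (n : Fin r → ℕ) (hn : ∀ j, 1 ≤ n j)
    (hnu : ∀ j, IsUnit ((n j : ℕ) : Localization.AtPrime (Ideal.span {f i})))
    {K : Type u} [Field K] [Algebra (Localization.AtPrime (Ideal.span {f i})) K]
    [IsFractionRing (Localization.AtPrime (Ideal.span {f i})) K]
    {κ L M : Type u} [Field κ] [Algebra K κ] [FiniteDimensional K κ] [Algebra.IsSeparable K κ]
    [IsDiscreteValuationRing (Localization.AtPrime (Ideal.span {f i}))]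
    (htame : EtRam.IsTamelyRamified (Localization.AtPrime (Ideal.span {f i}))
      ((algebraMap K κ).comp (algebraMap (Localization.AtPrime (Ideal.span {f i})) K)))
    [Field L] [Algebra K L] [FiniteDimensional K L] [Algebra.IsSeparable K L]
    [Field M] [Algebra L M] [Algebra K M] [IsScalarTower K L M] [FiniteDimensional K M] [Algebra.IsSeparable K M]
    (t : Fin r → L)
    (ht : ∀ j, t j ^ n j = algebraMap K L (algebraMap _ K (algebraMap A (Localization.AtPrime (Ideal.span {f i})) (f j))))
    (hgenL : letI : Algebra (Localization.AtPrime (Ideal.span {f i})) L :=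
        ((algebraMap K L).comp (algebraMap _ K)).toAlgebra
      ∀ x : L, ∃ a b : Algebra.adjoin (Localization.AtPrime (Ideal.span {f i})) (Set.range t), (b : L) ≠ 0 ∧ x = (a : L) / (b : L))
    (ι : κ →ₐ[K] M) (hgen : IntermediateField.adjoin L (Set.range ι) = ⊤)
    (hdiv : ∀ (V : ValuationSubring κ) (h : EtRam.Dominates (Localization.AtPrime (Ideal.span {f i}))
        ((algebraMap K κ).comp (algebraMap (Localization.AtPrime (Ideal.span {f i})) K)) V),
      letI : Algebra (Localization.AtPrime (Ideal.span {f i})) V :=
        (RingHom.codRestrict ((algebraMap K κ).comp (algebraMap (Localization.AtPrime (Ideal.span {f i})) K)) V h.1).toAlgebra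
      Ideal.ramificationIdx' (maximalIdeal (Localization.AtPrime (Ideal.span {f i}))) (maximalIdeal V) ∣ n i)
    (W : ValuationSubring M)
    (hW : EtRam.Dominates (Localization.AtPrime (Ideal.span {f i}))
      ((algebraMap K M).comp (algebraMap (Localization.AtPrime (Ideal.span {f i})) K)) W) :
    letI : Algebra (W.comap (algebraMap L M)) W := (EtRam.inclOfComap W (algebraMap L M)).toAlgebra
    ∀ [IsLocalHom (algebraMap (W.comap (algebraMap L M)) W)],
      EtRam.IsWeaklyUnramified (W.comap (algebraMap L M)) W ∧
        Algebra.IsSeparable (ResidueField (W.comap (algebraMap L M))) (ResidueField W) := by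
  classical
  set p := Ideal.span {f i}
  let O := Localization.AtPrime p
  let π : O := algebraMap A O (f i)
  have hπmax : maximalIdeal O = Ideal.span {π} := by
    rw [← IsLocalization.AtPrime.map_eq_maximalIdeal p O, Ideal.map_span, Set.image_singleton]
  have hπ : Irreducible π := (IsDiscreteValuationRing.irreducible_iff_uniformizer π).mpr hπmax
  set C := W.comap (algebraMap L M)
  letI : Algebra C W := (EtRam.inclOfComap W (algebraMap L M)).toAlgebra
  intro hloc
  have hC : EtRam.Dominates O ((algebraMap K L).comp (algebraMap O K)) C :=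
    GrothLib.DVRExt.dominates_comap O K M W hW
  letI : Algebra O C := (RingHom.codRestrict ((algebraMap K L).comp (algebraMap O K)) C hC.1).toAlgebra
  obtain ⟨hdC, hinjC, hlC⟩ := GrothLib.DVRExt.dominates_algebra O K L C hC
  haveI := hdC
  haveI : IsLocalHom (algebraMap O C) := hlC
  obtain ⟨-, heC⟩ := @GrothLib.TameKum21.ramification O _ _ _ L _ ((algebraMap K L).comp (algebraMap O K))
    ((algebraMap K L).injective.comp (IsFractionRing.injective O K)) π hπ r t n i hn hnu (ht i)
    (fun j hj => ⟨algebraMap A O (f j), IsLocalization.map_units O (⟨f j, hno j hj⟩ : p.primeCompl), ht j⟩)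
    hgenL C hC hlC
  let gC : C →+* M := (algebraMap L M).comp C.subtype
  have hgCinj : Function.Injective gC := (algebraMap L M).injective.comp Subtype.val_injective
  have hcomm : gC.comp (algebraMap O C) = ι.toRingHom.comp ((algebraMap K κ).comp (algebraMap O K)) :=
    RingHom.ext fun a => (IsScalarTower.algebraMap_apply K L M (algebraMap O K a)).symm.trans
      (ι.commutes (algebraMap O K a)).symm
  have hgenM : Subfield.closure (Set.range gC ∪ Set.range ι.toRingHom) = ⊤ := by
    rw [eq_top_iff]
    set Φ := Subfield.closure (Set.range gC ∪ Set.range ι.toRingHom)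
    have hL : ∀ x : L, algebraMap L M x ∈ Φ := fun x => by
      rcases C.mem_or_inv_mem x with h | h
      · exact Subfield.subset_closure (Or.inl ⟨⟨x, h⟩, rfl⟩)
      · have := Φ.inv_mem (Subfield.subset_closure (Or.inl ⟨⟨x⁻¹, h⟩, rfl⟩) : gC ⟨x⁻¹, h⟩ ∈ Φ)
        rwa [show gC ⟨x⁻¹, h⟩ = algebraMap L M x⁻¹ from rfl, map_inv₀, inv_inv] at this
    let G : IntermediateField L M := { Φ with algebraMap_mem' := hL }
    have hG : G = ⊤ := by
      rw [eq_top_iff, ← hgen, IntermediateField.adjoin_le_iff]
      rintro _ ⟨y, rfl⟩
      exact Subfield.subset_closure (Or.inr ⟨y, rfl⟩)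
    intro x _
    exact (hG ▸ IntermediateField.mem_top : x ∈ G)
  have hWC : EtRam.Dominates C gC W :=
    ⟨fun c => c.2, fun c hc => (ValuationSubring.valuation_lt_one_iff W ⟨_, c.2⟩).mp fun hu =>
      hc ((EtRam.isLocalHom_inclOfComap W (algebraMap L M)).map_nonunit c hu)⟩
  exact @compositum O _ _ _ K _ _ _ κ _ _ _ _ htame C _ _ _ _ hlC hinjC M _ gC hgCinj ι.toRingHom hcomm hgenM W hWC
    (fun h'' => by rw [heC]; exact hdiv _ h'') hloc

end GrothLib.TameAbh21
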