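import Groth.Agent.Lib.TameAbh21.TraceLoc
import Groth.Agent.Lib.N2.MoriNagata
import Groth.Agent.Lib.HB26.MCM
import Groth.Agent.Lib.FEt21.FreeCodimOne
import Mathlib.RingTheory.Unramified.LocalRing
import Mathlib.RingTheory.Ideal.KrullsHeightTheorem

/-!
No wild ramification along a regular divisor of residue characteristic zero: a finite normal extension
of a two-dimensional regular local ring, unramified outside a regular divisor whose generic point has
residue characteristic zero, has ramification indices prime to the residue characteristic.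
-/

set_option autoImplicit false
set_option linter.style.haveILetI false

universe u

open IsLocalRing

namespace GrothLib.TameAbh21

variable {R E : Type u} [CommRing R] [IsDomain R] [IsNoetherianRing R] [UniqueFactorizationMonoid R]
  [CommRing E] [IsDomain E] [IsIntegrallyClosed E] [Algebra R E] [Module.Finite R E] [FaithfulSMul R E]

theorem height_under_le (Q : Ideal E) [Q.IsPrime] : (Q.under R).height ≤ Q.height := by
  haveI : IsNoetherianRing E := IsNoetherianRing.of_finite R E
  rw [Ideal.height_eq_height_add_of_liesOver_of_hasGoingDown (Q.under R) Q]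
  exact le_self_add

omit [IsIntegrallyClosed E] in
/-- Below a height one prime lies a principal prime. -/
theorem exists_span_eq_under (Q : Ideal E) [Q.IsPrime] (h : (Q.under R).height ≤ 1) (h0 : Q ≠ ⊥) :
    ∃ π : R, π ≠ 0 ∧ Q.under R = Ideal.span {π} := by
  have hne : Q.under R ≠ ⊥ := mt Ideal.eq_bot_of_comap_eq_bot h0
  obtain ⟨π, hπ, hp⟩ := Ideal.IsPrime.exists_mem_prime_of_ne_bot inferInstance hne
  haveI : (Ideal.span {π}).IsPrime := (Ideal.span_singleton_prime hp.ne_zero).mpr hp
  refine ⟨π, hp.ne_zero, (((Ideal.span_singleton_le_iff_mem _).mpr hπ).eq_of_not_lt fun hlt => ?_).symm⟩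
  have h1 := Ideal.height_strict_mono_of_isPrime_of_isPrime hlt
  have h2 : (1 : ℕ∞) ≤ (Ideal.span {π}).height := by
    have := Ideal.height_strict_mono_of_isPrime_of_isPrime (I := (⊥ : Ideal R)) (J := Ideal.span {π})
      (bot_lt_iff_ne_bot.mpr (by rw [Ne, Ideal.span_singleton_eq_bot]; exact hp.ne_zero))
    exact Order.one_le_iff_pos.mpr (zero_le.trans_lt this)
  exact absurd (h1.trans_le h) (not_lt.mpr h2)

/-- Division by `x` in `E` can be tested off `(x)`. -/
theorem dvd_of_mul {x : R} (hx : x ≠ 0) [(Ideal.span {x}).IsPrime] {c : R} (hc : c ∉ Ideal.span {x})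
    {e w : E} (h : algebraMap R E c * e = algebraMap R E x * w) : algebraMap R E x ∣ e := by
  haveI : IsNoetherianRing E := IsNoetherianRing.of_finite R E
  have hxE : algebraMap R E x ≠ 0 := (map_ne_zero_iff _ (FaithfulSMul.algebraMap_injective R E)).mpr hx
  let K := FractionRing E
  have hxK : algebraMap E K (algebraMap R E x) ≠ 0 := (map_ne_zero_iff _ (IsFractionRing.injective E K)).mpr hxE
  obtain ⟨v, hv⟩ := GrothLib.NormalSerre.mem_range_of_forall_height_one
    (algebraMap E K e / algebraMap E K (algebraMap R E x)) fun Q hQ hQ1 => by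
      by_cases hxQ : algebraMap R E x ∈ Q
      · refine ⟨w, algebraMap R E c, fun hcQ => hc ?_, ?_⟩
        · have h0 : Q ≠ ⊥ := fun h0 => by rw [h0, Ideal.height_bot] at hQ1; exact zero_ne_one hQ1
          obtain ⟨π, hπ0, hπ⟩ := exists_span_eq_under (R := R) Q ((height_under_le Q).trans hQ1.le) h0
          have h1 : x ∈ Q.under R := hxQ
          have h2 : c ∈ Q.under R := hcQ
          haveI : (Ideal.span {π}).IsPrime := hπ ▸ inferInstance
          rw [hπ] at h1 h2
          have h3 : Ideal.span {x} ≤ Ideal.span {π} := (Ideal.span_singleton_le_iff_mem _).mpr h1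
          rw [Ideal.span_singleton_le_span_singleton] at h3
          have hxp : Prime x := (Ideal.span_singleton_prime hx).mp inferInstance
          have hπp : Prime π := (Ideal.span_singleton_prime hπ0).mp inferInstance
          exact Ideal.mem_span_singleton.mpr
            (((hπp.associated_of_dvd hxp h3).dvd_iff_dvd_left).mp (Ideal.mem_span_singleton.mp h2))
        · rw [div_mul_eq_mul_div, eq_div_iff hxK, ← map_mul, ← map_mul, mul_comm w, ← h, mul_comm]
      · exact ⟨e, algebraMap R E x, hxQ, (div_mul_cancel₀ _ hxK).symm⟩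
  refine ⟨v, IsFractionRing.injective E K ?_⟩
  rw [map_mul, hv, mul_div_cancel₀ _ hxK]

/-- `E` is free when it is torsion free modulo a regular divisor with one-dimensional regular quotient. -/
theorem free_of_dvr_quotient [IsLocalRing R] {x : R} (hx : x ≠ 0) (hxm : x ∈ maximalIdeal R)
    [(Ideal.span {x}).IsPrime] [IsPrincipalIdealRing (R ⧸ Ideal.span {x})] : Module.Free R E := by
  let I := Ideal.span {x}
  let N := E ⧸ (I • ⊤ : Submodule R E)
  haveI : Module.Finite (R ⧸ I) N := Module.Finite.of_restrictScalars_finite R _ _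
  have hmem : ∀ e : E, (Submodule.Quotient.mk e : N) = 0 ↔ algebraMap R E x ∣ e := fun e => by
    rw [Submodule.Quotient.mk_eq_zero, Submodule.ideal_span_singleton_smul,
      Submodule.mem_smul_pointwise_iff_exists]
    exact ⟨fun ⟨w, _, hw⟩ => ⟨w, by rw [← hw, Algebra.smul_def]⟩,
      fun ⟨w, hw⟩ => ⟨w, trivial, by rw [hw, Algebra.smul_def]⟩⟩
  haveI : Module.IsTorsionFree (R ⧸ I) N := .of_smul_eq_zero fun c v h => or_iff_not_imp_left.2 fun hc => by
    obtain ⟨c, rfl⟩ := Ideal.Quotient.mk_surjective c
    obtain ⟨v, rfl⟩ := Submodule.Quotient.mk_surjective _ v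
    replace h : (Submodule.Quotient.mk (c • v) : N) = 0 := h
    rw [hmem] at h ⊢
    obtain ⟨w, hw⟩ := h
    exact dvd_of_mul hx (fun h' => hc (Ideal.Quotient.eq_zero_iff_mem.mpr h')) (by rw [← hw, Algebra.smul_def])
  haveI : Module.Free (R ⧸ I) N := Module.free_of_finite_type_torsion_free'
  refine GrothLib.HB26.free_of_quotient hxm (isSMulRegular_iff_right_eq_zero_of_smul.mpr fun z hz => ?_)
  rw [Algebra.smul_def, mul_eq_zero] at hz
  exact hz.resolve_left ((map_ne_zero_iff _ (FaithfulSMul.algebraMap_injective R E)).mpr hx)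

variable [Module.Free R E]

omit [UniqueFactorizationMonoid R] [IsIntegrallyClosed E] in
/-- At a tame prime an element whose trace pairing is divisible by the prime below vanishes. -/
theorem detect {π : R} (hπ : π ≠ 0) [(Ideal.span {π}).IsPrime]
    (Q : Ideal E) [Q.IsPrime] [Q.LiesOver (Ideal.span {π})] [IsDiscreteValuationRing (Localization.AtPrime Q)]
    (hs : letI := Localization.AtPrime.algebraOfLiesOver (Ideal.span {π}) Q
      Algebra.IsSeparable (ResidueField (Localization.AtPrime (Ideal.span {π}))) (ResidueField (Localization.AtPrime Q)))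
    (he : letI := Localization.AtPrime.algebraOfLiesOver (Ideal.span {π}) Q
      ((Ideal.ramificationIdx' (maximalIdeal (Localization.AtPrime (Ideal.span {π})))
        (maximalIdeal (Localization.AtPrime Q)) : ℕ) : ResidueField (Localization.AtPrime (Ideal.span {π}))) ≠ 0)
    (b : E) (hb : ∀ w : E, π ∣ Algebra.trace R E (b * w)) : b ∈ Q := by
  classical
  by_contra hbQ
  set p := Ideal.span {π}
  letI := Localization.AtPrime.algebraOfLiesOver p Q
  let k := ResidueField (Localization.AtPrime p)
  let l := ResidueField (Localization.AtPrime Q)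
  haveI : IsScalarTower R k l := IsScalarTower.of_algebraMap_eq fun r => by
    show residue _ (algebraMap R _ r) = ResidueField.map _ (residue _ (algebraMap R _ r))
    rw [ResidueField.map_residue, ← IsScalarTower.algebraMap_apply]
  haveI : FiniteDimensional k l := inferInstanceAs (Module.Finite p.ResidueField Q.ResidueField)
  -- an element vanishing at the other primes but not at `Q`
  have hfin : {P : Ideal E | P.IsPrime ∧ P.under R = p ∧ P ≠ Q}.Finite :=
    (Algebra.QuasiFinite.finite_primesOver (S := E) p).subset fun P hP => ⟨hP.1, ⟨hP.2.1.symm⟩⟩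
  obtain ⟨u, hu, huQ⟩ : ∃ u, u ∈ hfin.toFinset.inf id ∧ u ∉ Q := by
    refine SetLike.not_le_iff_exists.mp fun hle => ?_
    obtain ⟨P, hP, hPQ⟩ := (Ideal.IsPrime.inf_le' (s := hfin.toFinset) (f := id) inferInstance).mp hle
    obtain ⟨hP1, hP2, hP3⟩ := hfin.mem_toFinset.mp hP
    haveI := hP1
    exact hP3 (Algebra.QuasiFinite.eq_of_le_of_under_eq (R := R) P Q hPQ (hP2.trans (Ideal.LiesOver.over (P := Q))))
  let res : E →+* l := (residue (Localization.AtPrime Q)).comp (algebraMap E _)
  have hres : ∀ a : E, a ∉ Q → res a ≠ 0 := fun a ha => by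
    rw [RingHom.comp_apply, residue_ne_zero_iff_isUnit]
    exact IsLocalization.map_units (Localization.AtPrime Q) (⟨a, ha⟩ : Q.primeCompl)
  have key : ∀ w : E, Algebra.trace k l (res (b * u) * res w) = 0 := by
    intro w
    have h := trace_residue hπ Q (b * u * w) fun P hP h1 h2 => Ideal.mul_mem_right _ _
      (Ideal.mul_mem_left _ _ ((Finset.inf_le (hfin.mem_toFinset.mpr ⟨hP, h1, h2⟩) : _ ≤ P) hu))
    obtain ⟨t, ht⟩ := hb (u * w)
    rw [mul_assoc, ht, map_mul, map_mul, (residue_eq_zero_iff _).mpr ?_, zero_mul, nsmul_eq_mul] at h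
    · rw [← map_mul, mul_assoc]
      exact (mul_eq_zero.mp h.symm).resolve_left he
    · rw [← IsLocalization.AtPrime.map_eq_maximalIdeal p (Localization.AtPrime p)]
      exact Ideal.mem_map_of_mem _ (Ideal.mem_span_singleton_self π)
  have hne : res (b * u) ≠ 0 := hres _ fun h => (Ideal.IsPrime.mem_or_mem inferInstance h).elim hbQ huQ
  obtain ⟨y, hy⟩ := DFunLike.ne_iff.mp (Algebra.trace_ne_zero k l)
  obtain ⟨a, ha⟩ : ∃ a : E, ∃ r : R, r ∉ p ∧ y / res (b * u) * algebraMap R l r = res a := by
    obtain ⟨c, hc⟩ := residue_surjective (y / res (b * u))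
    obtain ⟨a, s, rfl⟩ := IsLocalization.exists_mk'_eq Q.primeCompl c
    -- a denominator from the base
    obtain ⟨r, hr, v, hv⟩ : ∃ r : R, r ∉ p ∧ ∃ v : E, res (algebraMap R E r) = res ((s : E) * v) := by
      have hQmax : ¬ (Ideal.span {(s : E)} ⊔ Q).under R ≤ p := fun hle => by
        obtain ⟨P, hP1, hP2, hP3⟩ := Ideal.exists_ideal_over_prime_of_isIntegral p
          (Ideal.span {(s : E)} ⊔ Q) hle
        haveI := hP2
        have := Algebra.QuasiFinite.eq_of_le_of_under_eq (R := R) Q P (le_sup_right.trans hP1)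
          ((Ideal.LiesOver.over (P := Q)).symm.trans hP3.symm)
        exact s.2 (this.ge (hP1 (Ideal.mem_sup_left (Ideal.mem_span_singleton_self _))))
      obtain ⟨r, hr, hrp⟩ := SetLike.not_le_iff_exists.mp hQmax
      obtain ⟨a1, ha1, q, hq, hrq⟩ := Submodule.mem_sup.mp (show algebraMap R E r ∈ _ from hr)
      obtain ⟨v, rfl⟩ := Ideal.mem_span_singleton'.mp ha1
      refine ⟨r, hrp, v, ?_⟩
      rw [← hrq, map_add, mul_comm v, add_eq_left]
      exact (residue_eq_zero_iff _).mpr ((IsLocalization.AtPrime.to_map_mem_maximal_iff _ Q q).mpr hq)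
    refine ⟨a * v, r, hr, ?_⟩
    rw [← hc, show algebraMap R l r = res (algebraMap R E r) from IsScalarTower.algebraMap_apply R (Localization.AtPrime Q) l r ▸ by
      show residue _ (algebraMap R _ r) = residue _ (algebraMap E _ (algebraMap R E r))
      rw [← IsScalarTower.algebraMap_apply]]
    rw [hv, RingHom.comp_apply, RingHom.comp_apply, map_mul, map_mul, map_mul, map_mul, ← mul_assoc,
      ← map_mul (residue _) (IsLocalization.mk' (Localization.AtPrime Q) a s), IsLocalization.mk'_spec]
  obtain ⟨r, hr, har⟩ := ha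
  have h1 := key a
  rw [← har, ← mul_assoc, mul_div_cancel₀ _ hne, IsScalarTower.algebraMap_apply R k l, mul_comm,
    ← Algebra.smul_def, map_smul, smul_eq_mul, mul_eq_zero] at h1
  refine hy (h1.resolve_left ?_)
  show residue (Localization.AtPrime p) (algebraMap R _ r) ≠ 0
  rw [residue_ne_zero_iff_isUnit]
  exact IsLocalization.map_units (Localization.AtPrime p) (⟨r, hr⟩ : p.primeCompl)

/-- The hypothesis on the prime below, uniformly: tame, and unramified outside `x`. -/
def TameOutside (x : R) (E : Type u) [CommRing E] [IsDomain E] [Algebra R E] : Prop :=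
  ∀ (π : R), π ≠ 0 → ∀ [(Ideal.span {π}).IsPrime] (Q : Ideal E) [Q.IsPrime] [Q.LiesOver (Ideal.span {π})],
    Q.height = 1 →
    letI := Localization.AtPrime.algebraOfLiesOver (Ideal.span {π}) Q
    Algebra.IsSeparable (ResidueField (Localization.AtPrime (Ideal.span {π}))) (ResidueField (Localization.AtPrime Q)) ∧
      ((Ideal.ramificationIdx' (maximalIdeal (Localization.AtPrime (Ideal.span {π})))
        (maximalIdeal (Localization.AtPrime Q)) : ℕ) : ResidueField (Localization.AtPrime (Ideal.span {π}))) ≠ 0 ∧
      (Ideal.span {π} ≠ Ideal.span {x} →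
        Ideal.map (algebraMap R (Localization.AtPrime Q)) (Ideal.span {π}) = maximalIdeal (Localization.AtPrime Q))

/-- The inverse different is contained in `x⁻¹ E`. -/
theorem dvd_of_trace_dvd {x : R} [(Ideal.span {x}).IsPrime] (ht : TameOutside x E)
    {a : E} {s : R} (hs : s ≠ 0) (h : ∀ w : E, s ∣ Algebra.trace R E (a * w)) :
    algebraMap R E s ∣ algebraMap R E x * a := by
  classical
  haveI : IsNoetherianRing E := IsNoetherianRing.of_finite R E
  have hinjE := FaithfulSMul.algebraMap_injective R E
  let K := FractionRing E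
  have hsK : algebraMap E K (algebraMap R E s) ≠ 0 :=
    (map_ne_zero_iff _ (IsFractionRing.injective E K)).mpr ((map_ne_zero_iff _ hinjE).mpr hs)
  obtain ⟨v, hv⟩ := GrothLib.NormalSerre.mem_range_of_forall_height_one
    (algebraMap E K (algebraMap R E x * a) / algebraMap E K (algebraMap R E s)) fun Q hQ hQ1 => by
      have h0 : Q ≠ ⊥ := fun h0 => by rw [h0, Ideal.height_bot] at hQ1; exact zero_ne_one hQ1
      obtain ⟨π, hπ0, hπ⟩ := exists_span_eq_under (R := R) Q ((height_under_le Q).trans hQ1.le) h0
      haveI : (Ideal.span {π}).IsPrime := hπ ▸ inferInstance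
      haveI : Q.LiesOver (Ideal.span {π}) := ⟨hπ.symm⟩
      haveI := GrothLib.MoriNagata.isDiscreteValuationRing_of_height_one Q hQ1
      obtain ⟨hsep, he, hunr⟩ := ht π hπ0 Q hQ1
      let B := Localization.AtPrime Q
      suffices ∃ r d : E, d ∉ Q ∧ algebraMap R E x * a * d = algebraMap R E s * r by
        obtain ⟨r, d, hd, e⟩ := this
        refine ⟨r, d, hd, ?_⟩
        rw [div_mul_eq_mul_div, eq_div_iff hsK, ← map_mul, ← map_mul, e, mul_comm]
      -- `π a` is a multiple of `s` strictly
      have hnot : ¬ algebraMap E B (algebraMap R E π * a) ∣ algebraMap E B (algebraMap R E s) := by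
        rintro ⟨c, hc⟩
        obtain ⟨c, d, rfl⟩ := IsLocalization.exists_mk'_eq Q.primeCompl c
        have h1 : algebraMap R E s * (d : E) = algebraMap R E π * a * c := by
          refine IsLocalization.injective B Q.primeCompl_le_nonZeroDivisors ?_
          rw [map_mul, hc, mul_assoc, IsLocalization.mk'_spec, ← map_mul]
        refine d.2 (detect hπ0 Q hsep he (d : E) fun w => ?_)
        obtain ⟨t, ht⟩ := h (c * w)
        refine ⟨t, mul_left_cancel₀ hs ?_⟩
        calc s * Algebra.trace R E ((d : E) * w) = Algebra.trace R E (algebraMap R E s * (d : E) * w) := by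
              rw [mul_assoc, ← Algebra.smul_def, map_smul, smul_eq_mul]
          _ = Algebra.trace R E (algebraMap R E π * (a * (c * w))) := by rw [h1]; ring_nf
          _ = s * (π * t) := by rw [← Algebra.smul_def, map_smul, smul_eq_mul, ht]; ring
      obtain ⟨u, hu⟩ := (ValuationRing.dvd_total (algebraMap E B (algebraMap R E s))
        (algebraMap E B (algebraMap R E π * a))).resolve_right hnot
      have hum : u ∈ maximalIdeal B := fun hu' => hnot ⟨↑(hu'.unit⁻¹), by rw [hu, mul_assoc, IsUnit.mul_val_inv, mul_one]⟩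
      obtain ⟨r, d, rfl⟩ : ∃ (r : E) (d : Q.primeCompl), IsLocalization.mk' B r d = u := IsLocalization.exists_mk'_eq _ u
      by_cases hxπ : Ideal.span {π} = Ideal.span {x}
      · obtain ⟨c, hc⟩ := Ideal.mem_span_singleton'.mp (hxπ.symm.le (Ideal.mem_span_singleton_self x))
        refine ⟨algebraMap R E c * r, d, d.2, IsLocalization.injective B Q.primeCompl_le_nonZeroDivisors ?_⟩
        have h2 : algebraMap E B (algebraMap R E π * a) * algebraMap E B d =
            algebraMap E B (algebraMap R E s) * algebraMap E B r := by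
          rw [hu, mul_assoc, IsLocalization.mk'_spec]
        rw [← hc]
        simp only [map_mul] at h2 ⊢
        linear_combination algebraMap E B (algebraMap R E c) * h2
      · have hum' := hum
        rw [← hunr hxπ, Ideal.map_span, Set.image_singleton, Ideal.mem_span_singleton] at hum'
        obtain ⟨v, hv⟩ := hum'
        obtain ⟨v', d', rfl⟩ := IsLocalization.exists_mk'_eq Q.primeCompl v
        refine ⟨algebraMap R E x * v', d', d'.2, IsLocalization.injective B Q.primeCompl_le_nonZeroDivisors ?_⟩
        have hπB : algebraMap E B (algebraMap R E π) ≠ 0 := by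
          rw [Ne, map_eq_zero_iff _ (IsLocalization.injective B Q.primeCompl_le_nonZeroDivisors)]
          exact (map_ne_zero_iff _ hinjE).mpr hπ0
        have h2 : algebraMap E B a * algebraMap E B d' = algebraMap E B (algebraMap R E s) * algebraMap E B v' := by
          refine mul_left_cancel₀ hπB ?_
          rw [map_mul, hv, IsScalarTower.algebraMap_apply R E B π] at hu
          rw [← mul_assoc, hu, mul_assoc, mul_assoc, IsLocalization.mk'_spec]
          ring
        simp only [map_mul]
        linear_combination algebraMap E B (algebraMap R E x) * h2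
  refine ⟨v, IsFractionRing.injective E K ?_⟩
  rw [map_mul (algebraMap E K) (algebraMap R E s), hv, mul_div_cancel₀ _ hsK]

/-- The trace pairing is nondegenerate. -/
theorem eq_zero_of_trace [IsLocalRing R] {x : R} (hx : x ≠ 0) (hxm : x ∈ maximalIdeal R)
    [(Ideal.span {x}).IsPrime] (ht : TameOutside x E) {a : E}
    (h : ∀ w : E, Algebra.trace R E (a * w) = 0) : a = 0 := by
  haveI : IsNoetherianRing E := IsNoetherianRing.of_finite R E
  have hinjE := FaithfulSMul.algebraMap_injective R E
  have hxE : algebraMap R E x ≠ 0 := (map_ne_zero_iff _ hinjE).mpr hx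
  have hnu : ¬ IsUnit (algebraMap R E x) := fun hu =>
    hxm ((Algebra.IsIntegral.isLocalHom R E).map_nonunit x hu)
  have h1 : algebraMap R E x * a ∈ (⨅ n : ℕ, Ideal.span {algebraMap R E x} ^ n) := Submodule.mem_iInf _ |>.mpr fun n => by
    rw [Ideal.span_singleton_pow, Ideal.mem_span_singleton, ← map_pow]
    exact dvd_of_trace_dvd ht (pow_ne_zero n hx) fun w => by rw [h w]; exact dvd_zero _
  rw [Ideal.iInf_pow_eq_bot_of_isDomain _ (by rwa [Ne, Ideal.span_singleton_eq_top]), Ideal.mem_bot] at h1
  exact (mul_eq_zero.mp h1).resolve_left hxE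

omit [UniqueFactorizationMonoid R] [IsIntegrallyClosed E] in
/-- Every functional is, up to one denominator, a trace pairing. -/
theorem exists_dual (hnd : ∀ a : E, (∀ w : E, Algebra.trace R E (a * w) = 0) → a = 0) :
    ∃ s : R, s ≠ 0 ∧ ∀ φ : Module.Dual R E, ∃ a : E, ∀ w : E, Algebra.trace R E (a * w) = s * φ w := by
  classical
  let b := Module.Free.chooseBasis R E
  let M : Matrix (Module.Free.ChooseBasisIndex R E) (Module.Free.ChooseBasisIndex R E) R :=
    Matrix.of fun i j => Algebra.trace R E (b j * b i)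
  have hM : ∀ (v : Module.Free.ChooseBasisIndex R E → R) i,
      Algebra.trace R E ((∑ j, v j • b j) * b i) = (M.mulVec v) i := fun v i => by
    rw [Finset.sum_mul, map_sum]
    exact Finset.sum_congr rfl fun j _ => by rw [smul_mul_assoc, map_smul, smul_eq_mul, mul_comm]; rfl
  have hext : ∀ (a : E) (φ : Module.Dual R E), (∀ i, Algebra.trace R E (a * b i) = φ (b i)) →
      ∀ w, Algebra.trace R E (a * w) = φ w := fun a φ h w =>
    LinearMap.congr_fun (b.ext (f₁ := (Algebra.trace R E).comp (LinearMap.mulLeft R a)) (f₂ := φ) h) w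
  refine ⟨M.det, fun h0 => ?_, fun φ => ⟨∑ j, (M.adjugate.mulVec fun i => φ (b i)) j • b j, ?_⟩⟩
  · obtain ⟨v, hv0, hv⟩ := Matrix.exists_mulVec_eq_zero_iff.mpr h0
    refine hv0 (funext fun j => ?_)
    have ha := hnd (∑ j, v j • b j) (hext _ 0 fun i => by rw [hM, hv]; rfl)
    exact Fintype.linearIndependent_iff.mp b.linearIndependent v ha j
  · refine hext _ (M.det • φ) fun i => ?_
    rw [hM, Matrix.mulVec_mulVec, Matrix.mul_adjugate, Matrix.smul_mulVec, Matrix.one_mulVec]
    rfl

/-- The trace form modulo the maximal ideal only kills what vanishes on the divisor. -/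
theorem exists_mem_of_trace [IsLocalRing R] {x : R} (hx : x ≠ 0) (hxm : x ∈ maximalIdeal R)
    [(Ideal.span {x}).IsPrime] (ht : TameOutside x E) {g : R} (hg : g ∉ Ideal.span {x})
    {z : E} (hz : ∀ w : E, Algebra.trace R E (z * w) ∈ Ideal.span {x} ⊔ Ideal.span {g}) :
    ∃ j v : E, z = j + algebraMap R E g * v ∧ ∀ w : E, x ∣ Algebra.trace R E (j * w) := by
  classical
  obtain ⟨s, hs, hdual⟩ := exists_dual fun a h => eq_zero_of_trace hx hxm ht h
  let b := Module.Free.chooseBasis R E
  have hz' : ∀ i, ∃ α β, Algebra.trace R E (z * b i) = x * α + g * β := fun i => by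
    obtain ⟨p, hp, q, hq, e⟩ := Submodule.mem_sup.mp (hz (b i))
    obtain ⟨α, rfl⟩ := Ideal.mem_span_singleton'.mp hp
    obtain ⟨β, rfl⟩ := Ideal.mem_span_singleton'.mp hq
    exact ⟨α, β, by rw [← e]; ring⟩
  choose α β hαβ using hz'
  obtain ⟨a₁, h₁⟩ := hdual (b.constr R α)
  obtain ⟨a₂, h₂⟩ := hdual (b.constr R β)
  have hT : ∀ w, Algebra.trace R E (z * w) = x * b.constr R α w + g * b.constr R β w := fun w => by
    exact LinearMap.congr_fun (b.ext (f₁ := (Algebra.trace R E).comp (LinearMap.mulLeft R z))
      (f₂ := x • b.constr R α + g • b.constr R β) fun i => by simp [hαβ]) w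
  have htr : ∀ (r : R) (a : E), Algebra.trace R E (algebraMap R E r * a) = r * Algebra.trace R E a :=
    fun r a => by rw [← Algebra.smul_def, map_smul, smul_eq_mul]
  have key : algebraMap R E s * z = algebraMap R E x * a₁ + algebraMap R E g * a₂ := by
    rw [← sub_eq_zero]
    refine eq_zero_of_trace hx hxm ht fun w => ?_
    rw [sub_mul, add_mul, map_sub, map_add, mul_assoc, mul_assoc, mul_assoc, htr, htr, htr, hT, h₁, h₂]
    ring
  obtain ⟨z₁, e₁⟩ := dvd_of_trace_dvd ht hs (a := a₁) fun w => ⟨_, h₁ w⟩
  obtain ⟨z₂, e₂⟩ := dvd_of_trace_dvd ht hs (a := a₂) fun w => ⟨_, h₂ w⟩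
  have hinjE := FaithfulSMul.algebraMap_injective R E
  have hsE : algebraMap R E s ≠ 0 := (map_ne_zero_iff _ hinjE).mpr hs
  have hxu : algebraMap R E g * z₂ = algebraMap R E x * (z - z₁) := by
    refine mul_left_cancel₀ hsE ?_
    linear_combination (-algebraMap R E x) * key - (algebraMap R E x) * e₁ - (algebraMap R E g) * e₂
  obtain ⟨z₃, rfl⟩ := dvd_of_mul hx hg hxu
  refine ⟨z₁, z₃, ?_, fun w => ⟨b.constr R α w, mul_left_cancel₀ hs ?_⟩⟩
  · have hxE : algebraMap R E x ≠ 0 := (map_ne_zero_iff _ hinjE).mpr hx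
    refine mul_left_cancel₀ hxE ?_
    linear_combination -hxu
  · calc s * Algebra.trace R E (z₁ * w) = Algebra.trace R E (algebraMap R E x * (a₁ * w)) := by
          rw [← htr, ← mul_assoc, ← mul_assoc, e₁]
      _ = s * (x * b.constr R α w) := by rw [htr, h₁]; ring

/-- **No wild ramification along a regular divisor of residue characteristic zero.** -/
theorem not_dvd_ramificationIdx {R E : Type u} [CommRing R] [IsDomain R] [IsNoetherianRing R] [IsLocalRing R]
    [UniqueFactorizationMonoid R] [CommRing E] [IsDomain E] [IsIntegrallyClosed E] [Algebra R E]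
    [Module.Finite R E] [FaithfulSMul R E]
    {x : R} (hx : x ≠ 0) (hxm : x ∈ maximalIdeal R) [(Ideal.span {x}).IsPrime]
    [IsDiscreteValuationRing (R ⧸ Ideal.span {x})]
    (p : ℕ) (hp : p.Prime) (hpm : (p : R) ∈ maximalIdeal R) (hpx : (p : R) ∉ Ideal.span {x})
    (hunr : ∀ (Q : Ideal E) [Q.IsPrime], Q.height = 1 → algebraMap R E x ∉ Q → Algebra.IsUnramifiedAt R Q)
    (Q₀ : Ideal E) [Q₀.IsPrime] [Q₀.LiesOver (Ideal.span {x})] :
    letI := Localization.AtPrime.algebraOfLiesOver (Ideal.span {x}) Q₀
    ¬ p ∣ Ideal.ramificationIdx' (maximalIdeal (Localization.AtPrime (Ideal.span {x})))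
      (maximalIdeal (Localization.AtPrime Q₀)) := by
  classical
  set P := Ideal.span {x}
  letI := Localization.AtPrime.algebraOfLiesOver P Q₀
  intro hpe
  haveI : IsNoetherianRing E := IsNoetherianRing.of_finite R E
  have hinjE := FaithfulSMul.algebraMap_injective R E
  haveI : Module.Free R E := free_of_dvr_quotient hx hxm
  let k := ResidueField (Localization.AtPrime P)
  -- the residue characteristic at `x` is zero
  haveI : CharZero k := by
    refine charZero_of_inj_zero fun n hn => ?_
    by_contra hn0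
    obtain ⟨a, m, hm, rfl⟩ := Nat.exists_eq_pow_mul_and_not_dvd hn0 p hp.ne_one
    have hmu : IsUnit (m : R) := by
      by_contra hmm
      have hco : Nat.Coprime p m := (hp.coprime_iff_not_dvd).mpr hm
      have h1 : ((Nat.gcd p m : ℤ) : R) ∈ maximalIdeal R := by
        rw [Nat.gcd_eq_gcd_ab]
        push_cast
        exact add_mem (Ideal.mul_mem_right _ _ hpm) (Ideal.mul_mem_right _ _ hmm)
      rw [hco.gcd_eq_one] at h1
      exact (maximalIdeal.isMaximal R).ne_top ((Ideal.eq_top_iff_one _).mpr (by simpa using h1))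
    have hu : IsUnit (((p ^ a * m : ℕ) : Localization.AtPrime P)) := by
      rw [← map_natCast (algebraMap R (Localization.AtPrime P))]
      refine IsLocalization.map_units _ (⟨((p ^ a * m : ℕ) : R), ?_⟩ : P.primeCompl)
      push_cast
      refine fun h => (Ideal.IsPrime.mem_or_mem inferInstance h).elim (fun h' => hpx (Ideal.IsPrime.mem_of_pow_mem inferInstance a h'))
        fun h' => ?_
      exact (Ideal.IsPrime.ne_top inferInstance) (Ideal.eq_top_of_isUnit_mem _ h' hmu)
    exact (hu.map (residue _)).ne_zero (by rw [map_natCast]; exact hn)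
  have ht : TameOutside x E := by
    intro π hπ _ Q _ _ hQ1
    letI := Localization.AtPrime.algebraOfLiesOver (Ideal.span {π}) Q
    haveI := GrothLib.MoriNagata.isDiscreteValuationRing_of_height_one Q hQ1
    haveI := isDVR_atPrime_span hπ
    haveI : IsLocalHom (algebraMap (Localization.AtPrime (Ideal.span {π})) (Localization.AtPrime Q)) :=
      Localization.isLocalHom_localRingHom _ _ _ _
    have hinj : Function.Injective (algebraMap (Localization.AtPrime (Ideal.span {π})) (Localization.AtPrime Q)) := by
      refine IsLocalization.injective_of_map_algebraMap_zero (M := (Ideal.span {π}).primeCompl) _ _ fun r hr => ?_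
      rw [← IsScalarTower.algebraMap_apply, IsScalarTower.algebraMap_apply R E] at hr
      rw [hinjE ((IsLocalization.injective _ Q.primeCompl_le_nonZeroDivisors (hr.trans (map_zero _).symm)).trans
        (map_zero (algebraMap R E)).symm), map_zero]
    by_cases hπx : Ideal.span {π} = Ideal.span {x}
    · haveI : CharZero (ResidueField (Localization.AtPrime (Ideal.span {π}))) := by
        have key : ∀ (I : Ideal R) (hI : I.IsPrime), I = P → CharZero (ResidueField (Localization.AtPrime I)) := by
          rintro I _ rfl; infer_instance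
        exact key _ inferInstance hπx
      haveI : FiniteDimensional (ResidueField (Localization.AtPrime (Ideal.span {π})))
          (ResidueField (Localization.AtPrime Q)) :=
        inferInstanceAs (Module.Finite (Ideal.span {π}).ResidueField Q.ResidueField)
      exact ⟨inferInstance, Nat.cast_ne_zero.mpr (GrothLib.DVRExt.map_maximalIdeal_eq_pow hinj).1.ne',
        fun h => absurd hπx h⟩
    · have hxQ : algebraMap R E x ∉ Q := fun h => hπx (by
        have h1 : x ∈ Ideal.span {π} := by rw [(Ideal.LiesOver.over : Ideal.span {π} = Q.under R)]; exact h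
        have hp1 : Prime x := (Ideal.span_singleton_prime hx).mp inferInstance
        have hp2 : Prime π := (Ideal.span_singleton_prime hπ).mp inferInstance
        exact Ideal.span_singleton_eq_span_singleton.mpr (hp2.associated_of_dvd hp1 (Ideal.mem_span_singleton.mp h1)))
      haveI := hunr Q hQ1 hxQ
      obtain ⟨hs, hm⟩ := (Algebra.isUnramifiedAt_iff_map_eq (p := Ideal.span {π}) _ _).mp (hunr Q hQ1 hxQ)
      refine ⟨hs, ?_, fun _ => hm⟩
      have he1 := (GrothLib.DVRExt.weaklyUnramified_iff hinj).mp (by
        rw [← IsLocalization.AtPrime.map_eq_maximalIdeal (Ideal.span {π}) (Localization.AtPrime (Ideal.span {π})),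
          Ideal.map_map, ← IsScalarTower.algebraMap_eq]
        exact hm)
      rw [he1, Nat.cast_one]
      exact one_ne_zero
  -- heights
  have hQ1 : ∀ (Q : Ideal E) [Q.IsPrime], Q.under R = P → Q.height = 1 := fun Q _ hQ => by
    refine le_antisymm ((GrothLib.FEt21.height_le_under (R := R) Q).trans ?_) ?_
    · rw [hQ]
      have h1 : P.spanFinrank ≤ 1 :=
        (Submodule.spanFinrank_span_le_ncard_of_finite (R := R) (Set.finite_singleton x)).trans (Set.ncard_singleton x).le
      exact (Ideal.height_le_spanFinrank P (Ideal.IsPrime.ne_top inferInstance)).trans (by exact_mod_cast h1)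
    · refine (Order.one_le_iff_pos.mpr ?_)
      have h0 : (⊥ : Ideal E) < Q := bot_lt_iff_ne_bot.mpr fun h0 => by
        have : x ∈ Q.under R := hQ.symm ▸ Ideal.mem_span_singleton_self x
        rw [h0] at this
        exact hx (hinjE (((Ideal.mem_bot).mp this).trans (map_zero _).symm))
      exact zero_le.trans_lt (Ideal.height_strict_mono_of_isPrime_of_isPrime h0)
  haveI := GrothLib.MoriNagata.isDiscreteValuationRing_of_height_one Q₀ (hQ1 Q₀ (Ideal.LiesOver.over (P := Q₀)).symm)
  -- a generator of the maximal ideal modulo `x`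
  obtain ⟨gb, hgb⟩ := IsDiscreteValuationRing.exists_irreducible (R ⧸ P)
  obtain ⟨g, rfl⟩ := Ideal.Quotient.mk_surjective gb
  have hg : g ∉ P := fun h => hgb.ne_zero (Ideal.Quotient.eq_zero_iff_mem.mpr h)
  have hmle : maximalIdeal R ≤ P ⊔ Ideal.span {g} := fun r hr => by
    have h1 : Ideal.Quotient.mk P r ∈ maximalIdeal (R ⧸ P) := by
      intro hu
      obtain ⟨t, ht'⟩ := hu.exists_right_inv
      obtain ⟨t, rfl⟩ := Ideal.Quotient.mk_surjective t
      rw [← map_mul, ← map_one (Ideal.Quotient.mk P), Ideal.Quotient.eq] at ht'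
      have : (1 : R) ∈ maximalIdeal R := by
        have h2 := (maximalIdeal R).sub_mem ((maximalIdeal R).mul_mem_right t hr)
          ((Ideal.span_singleton_le_iff_mem _).mpr hxm ht')
        simpa using h2
      exact (maximalIdeal.isMaximal R).ne_top ((Ideal.eq_top_iff_one _).mpr this)
    rw [hgb.maximalIdeal_eq, Ideal.mem_span_singleton'] at h1
    obtain ⟨c, hc⟩ := h1
    obtain ⟨c, rfl⟩ := Ideal.Quotient.mk_surjective c
    rw [← map_mul, Ideal.Quotient.eq] at hc
    exact Submodule.mem_sup.mpr ⟨r - c * g, by simpa using P.neg_mem hc, c * g,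
      Ideal.mul_mem_left _ _ (Ideal.mem_span_singleton_self g), sub_add_cancel r _⟩
  -- the primes over `x`
  have hfin : {Q : Ideal E | Q.IsPrime ∧ Q.under R = P}.Finite :=
    (Algebra.QuasiFinite.finite_primesOver (S := E) P).subset fun Q hQ => ⟨hQ.1, ⟨hQ.2.symm⟩⟩
  let T := hfin.toFinset.filter fun Q => Q ≠ Q₀
  let H : Ideal E := T.inf id
  let J : Ideal E := hfin.toFinset.inf id
  have hJH : J ≤ H := Finset.inf_mono (Finset.filter_subset _ _)
  have hstep : H ≤ J ⊔ Ideal.span {algebraMap R E g} • H := by
    intro z hz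
    have hzQ : ∀ Q, Q ∈ T → z ∈ Q := fun Q hQ => (Finset.inf_le hQ : H ≤ Q) hz
    have htrz : ∀ w : E, Algebra.trace R E (z * w) ∈ P ⊔ Ideal.span {g} := by
      intro w
      have h := trace_residue hx Q₀ (z * w) fun Q hQ h1 h2 => Ideal.mul_mem_right _ _
        (hzQ Q (Finset.mem_filter.mpr ⟨hfin.mem_toFinset.mpr ⟨hQ, h1⟩, h2⟩))
      let l := ResidueField (Localization.AtPrime Q₀)
      haveI : IsScalarTower R k l := IsScalarTower.of_algebraMap_eq fun r => by
        show residue _ (algebraMap R _ r) = ResidueField.map _ (residue _ (algebraMap R _ r))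
        rw [ResidueField.map_residue, ← IsScalarTower.algebraMap_apply]
      haveI : FiniteDimensional k l := inferInstanceAs (Module.Finite P.ResidueField Q₀.ResidueField)
      haveI : Algebra.IsSeparable k l := inferInstance
      set t := Algebra.trace k l (residue _ (algebraMap E (Localization.AtPrime Q₀) (z * w)))
      have ht : IsIntegral R t := by
        refine Algebra.isIntegral_trace ?_
        let ψ : E →ₐ[R] l :=
          { toRingHom := (residue _).comp (algebraMap E (Localization.AtPrime Q₀))
            commutes' := fun r => by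
              show residue _ (algebraMap E _ (algebraMap R E r)) = _
              rw [← IsScalarTower.algebraMap_apply]; rfl }
        exact (Algebra.IsIntegral.isIntegral (R := R) (z * w)).map ψ
      obtain ⟨d, hd⟩ := (IsIntegrallyClosed.isIntegral_iff (R := R ⧸ P) (K := k)).mp
        (ht.tower_top (A := R ⧸ P))
      obtain ⟨d, rfl⟩ := Ideal.Quotient.mk_surjective d
      obtain ⟨e', he'⟩ := hpe
      rw [he', nsmul_eq_mul] at h
      have h2 : Algebra.trace R E (z * w) - ((p * e' : ℕ) : R) * d ∈ P := by
        have h3 : algebraMap R k (Algebra.trace R E (z * w) - ((p * e' : ℕ) : R) * d) = 0 := by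
          rw [map_sub, map_mul (algebraMap R k) ((p * e' : ℕ) : R) d, map_natCast, sub_eq_zero]
          exact h.trans (by rw [← hd]; rfl)
        rwa [← Ideal.algebraMap_residueField_eq_zero]
      have h4 : ((p * e' : ℕ) : R) * d ∈ P ⊔ Ideal.span {g} := by
        push_cast
        exact Ideal.mul_mem_right _ _ (Ideal.mul_mem_right _ _ (hmle hpm))
      simpa using add_mem (Submodule.mem_sup_left h2) h4
    obtain ⟨j, v, rfl, hj⟩ := exists_mem_of_trace hx hxm ht hg htrz
    have hjJ : j ∈ J := by
      refine Submodule.mem_finsetInf.mpr fun Q hQ => ?_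
      obtain ⟨hQp, hQP⟩ := hfin.mem_toFinset.mp hQ
      haveI := hQp
      haveI : Q.LiesOver P := ⟨hQP.symm⟩
      haveI := GrothLib.MoriNagata.isDiscreteValuationRing_of_height_one Q (hQ1 Q hQP)
      obtain ⟨hs, he, -⟩ := ht x hx Q (hQ1 Q hQP)
      exact detect hx Q hs he j hj
    refine Submodule.add_mem_sup hjJ (Submodule.smul_mem_smul (Ideal.mem_span_singleton_self _) ?_)
    refine Submodule.mem_finsetInf.mpr fun Q hQ => ?_
    obtain ⟨hQp, hQP⟩ := hfin.mem_toFinset.mp (Finset.mem_filter.mp hQ).1
    haveI := hQp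
    have h1 : algebraMap R E g * v ∈ Q := by
      simpa using sub_mem (hzQ Q hQ) ((Finset.inf_le (Finset.mem_filter.mp hQ).1 : J ≤ Q) hjJ)
    exact (hQp.mem_or_mem h1).resolve_left fun h => hg (by rw [← hQP]; exact h)
  have hjac : Ideal.span {algebraMap R E g} ≤ Ideal.jacobson ⊥ := by
    rw [Ideal.span_singleton_le_iff_mem, Ideal.jacobson, Submodule.mem_sInf]
    rintro M ⟨-, hM⟩
    haveI := hM
    have := eq_maximalIdeal (Ideal.isMaximal_comap_of_isIntegral_of_isMaximal (R := R) M)
    have hgm : g ∈ maximalIdeal R := fun hu => hgb.not_isUnit (hu.map _)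
    rw [← this] at hgm
    exact hgm
  have hHJ : H ≤ J := Submodule.le_of_le_smul_of_le_jacobson_bot (IsNoetherian.noetherian _) hjac hstep
  have hHQ : H ≤ Q₀ := hHJ.trans
    (Finset.inf_le (f := id) (hfin.mem_toFinset.mpr ⟨inferInstance, (Ideal.LiesOver.over (P := Q₀)).symm⟩))
  obtain ⟨Q, hQ, hQle⟩ := (Ideal.IsPrime.inf_le' (s := T) (f := id) inferInstance).mp hHQ
  obtain ⟨hQ', hne⟩ := Finset.mem_filter.mp hQ
  obtain ⟨hQp, hQP⟩ := hfin.mem_toFinset.mp hQ'
  haveI := hQp
  exact hne (Algebra.QuasiFinite.eq_of_le_of_under_eq (R := R) Q Q₀ hQle (hQP.trans (Ideal.LiesOver.over (P := Q₀))))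

end GrothLib.TameAbh21
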