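import Groth.Agent.Lib.TameAbh21.Geom
import Groth.Agent.Lib.Hensel.Sections
import Groth.Agent.Lib.Hensel.EssEtale
import Mathlib.AlgebraicGeometry.Morphisms.UniversallyOpen
import Mathlib.AlgebraicGeometry.Morphisms.Flat

/-!
Covers dominated by a strictly local finite extension.
-/

set_option autoImplicit false
set_option linter.style.haveILetI false

universe u

open AlgebraicGeometry CategoryTheory CategoryTheory.Limits TensorProduct IsLocalRing

namespace GrothLib.TameAbh21

/-- A nonzero finite étale algebra over a strictly henselian ring has a point. -/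
theorem exists_algHom_of_strict {B : Type u} [CommRing B] [HenselianLocalRing B] [IsSepClosed (ResidueField B)]
    (E : Type u) [CommRing E] [Algebra B E] [Module.Finite B E] [Algebra.Etale B E] [Nontrivial E] :
    Nonempty (E →ₐ[B] B) := by
  obtain ⟨Q, hQ⟩ := Ideal.exists_maximal E
  letI := Ideal.Quotient.field Q
  haveI : Algebra.IsIntegral B E := Algebra.IsIntegral.of_finite B E
  have hc : Q.comap (algebraMap B E) = maximalIdeal B :=
    eq_maximalIdeal (Ideal.isMaximal_comap_of_isIntegral_of_isMaximal (R := B) Q)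
  letI : Algebra (ResidueField B) (E ⧸ Q) := (Ideal.Quotient.lift (maximalIdeal B)
    ((Ideal.Quotient.mk Q).comp (algebraMap B E)) fun b hb => by
      rw [RingHom.comp_apply, Ideal.Quotient.eq_zero_iff_mem]
      rw [← hc] at hb; exact hb).toAlgebra
  haveI : IsScalarTower B (ResidueField B) (E ⧸ Q) := IsScalarTower.of_algebraMap_eq fun _ => rfl
  obtain ⟨σ, -⟩ := GrothLib.Hensel.exists_point_factor_of_isSepClosed (K := ResidueField B)
    (Ideal.Quotient.mkₐ B Q)
  let g : Spec (CommRingCat.of E) ⟶ Spec (CommRingCat.of B) := Spec.map (CommRingCat.ofHom (algebraMap B E))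
  haveI : Etale g := (HasRingHomProperty.Spec_iff (P := @Etale)).mpr (RingHom.etale_algebraMap.mpr inferInstance)
  obtain ⟨s, hs, -⟩ := GrothLib.Hensel.exists_section_extending g (Spec.map (CommRingCat.ofHom σ.toRingHom)) (by
    rw [← Spec.map_comp, ← CommRingCat.ofHom_comp]
    congr 2
    exact RingHom.ext fun b => σ.commutes b)
  obtain ⟨a, rfl⟩ := Spec.map_surjective s
  rw [← Spec.map_comp, ← Spec.map_id] at hs
  exact ⟨{ a.hom with commutes' := fun b => congr($(congrArg CommRingCat.Hom.hom (Spec.map_injective hs)) b) }⟩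

variable {A : Type u} [CommRing A] {B : Type u} [CommRing B] [Algebra A B]

/-- A point of the extended cover gives a point of the cover. -/
theorem exists_point {P : A} (C : Type u) [CommRing C] [Algebra A C] (E : Type u) [CommRing E] [Algebra B E]
    (ρ : E →ₐ[B] B ⊗[A] C)
    (hρ : @IsLocalization.Away E _ (algebraMap B E (algebraMap A B P)) (B ⊗[A] C) _ ρ.toRingHom.toAlgebra)
    (s : E →ₐ[B] B) : Nonempty (C →ₐ[A] Localization.Away (algebraMap A B P)) := by
  letI := ρ.toRingHom.toAlgebra
  haveI := hρ
  let g : E →+* Localization.Away (algebraMap A B P) := (algebraMap B _).comp s.toRingHom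
  have hg : IsUnit (g (algebraMap B E (algebraMap A B P))) := by
    show IsUnit (algebraMap B _ (s (algebraMap B E (algebraMap A B P))))
    rw [AlgHom.commutes]
    exact IsLocalization.Away.algebraMap_isUnit (algebraMap A B P)
  let ψ : B ⊗[A] C →+* Localization.Away (algebraMap A B P) :=
    IsLocalization.Away.lift (algebraMap B E (algebraMap A B P)) hg
  have hψ : ∀ e, ψ (ρ e) = g e := fun e => IsLocalization.Away.lift_eq _ hg e
  refine ⟨{ ψ.comp (Algebra.TensorProduct.includeRight (R := A) (A := B) (B := C)).toRingHom with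
    commutes' := fun a => ?_ }⟩
  show ψ (Algebra.TensorProduct.includeRight (R := A) (A := B) (B := C) (algebraMap A C a)) = _
  rw [AlgHom.commutes, IsScalarTower.algebraMap_apply A B (B ⊗[A] C), ← ρ.commutes, hψ]
  show algebraMap B _ (s (algebraMap B E (algebraMap A B a))) = _
  rw [AlgHom.commutes]
  exact (IsScalarTower.algebraMap_apply A B _ a).symm

variable (P : A) (B)

theorem nontrivial_away [IsDomain B] (h : algebraMap A B P ≠ 0) : Nontrivial (Localization.Away (algebraMap A B P)) :=
  (IsLocalization.injective (M := Submonoid.powers (algebraMap A B P)) (Localization.Away (algebraMap A B P))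
    (powers_le_nonZeroDivisors_of_noZeroDivisors h)).nontrivial

/-- The cover is dominated by the restriction of `Spec B`. -/
theorem exists_surjective [Module.Finite A B] (V : FEt.Cat ((SGA1.specBasicOpen A P) : Scheme.{u}))
    [ConnectedSpace V.left] [Nontrivial (Localization.Away (algebraMap A B P))]
    (het : (Localization.awayMap (algebraMap A B) P).Etale)
    (h : letI := (coverMap P V).toAlgebra
      Nonempty (Γ(V.left, ⊤) →ₐ[A] Localization.Away (algebraMap A B P))) :
    ∃ φ : (↑((Spec.map (CommRingCat.ofHom (algebraMap A B))) ⁻¹ᵁ (SGA1.specBasicOpen A P)) : Scheme.{u}) ⟶ V.left,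
      φ ≫ V.hom = (Spec.map (CommRingCat.ofHom (algebraMap A B))) ∣_ (SGA1.specBasicOpen A P) ∧ Surjective φ := by
  haveI := isAffine_cover P V
  letI := (coverMap P V).toAlgebra
  obtain ⟨s⟩ := h
  let π : Spec (CommRingCat.of B) ⟶ Spec (CommRingCat.of A) := Spec.map (CommRingCat.ofHom (algebraMap A B))
  let U' := π ⁻¹ᵁ (SGA1.specBasicOpen A P)
  let eU : (U' : Scheme.{u}) ≅ Spec (CommRingCat.of (Localization.Away (algebraMap A B P))) :=
    IsOpenImmersion.isoOfRangeEq U'.ι
      (Spec.map (CommRingCat.ofHom (algebraMap B (Localization.Away (algebraMap A B P))))) (by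
      rw [Scheme.Opens.range_ι]
      exact (PrimeSpectrum.localization_away_comap_range _ (algebraMap A B P)).symm)
  have heU : eU.hom ≫ Spec.map (CommRingCat.ofHom (algebraMap B (Localization.Away (algebraMap A B P)))) = U'.ι :=
    IsOpenImmersion.isoOfRangeEq_hom_fac _ _ _
  have hres : (π ∣_ SGA1.specBasicOpen A P) ≫ (basicOpenIso P).hom =
      eU.hom ≫ Spec.map (CommRingCat.ofHom (Localization.awayMap (algebraMap A B) P)) := by
    rw [← cancel_mono (Spec.map (CommRingCat.ofHom (algebraMap A (Localization.Away P)))), Category.assoc,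
      basicOpenIso_hom, morphismRestrict_ι, Category.assoc, ← Spec.map_comp, ← CommRingCat.ofHom_comp,
      show (Localization.awayMap (algebraMap A B) P).comp (algebraMap A (Localization.Away P)) =
        (algebraMap B (Localization.Away (algebraMap A B P))).comp (algebraMap A B) from IsLocalization.map_comp _,
      CommRingCat.ofHom_comp, Spec.map_comp, reassoc_of% heU]
  haveI : Etale (Spec.map (CommRingCat.ofHom (Localization.awayMap (algebraMap A B) P))) :=
    (HasRingHomProperty.Spec_iff (P := @Etale)).mpr het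
  haveI : Etale (π ∣_ SGA1.specBasicOpen A P) := by
    rw [show π ∣_ SGA1.specBasicOpen A P =
      (eU.hom ≫ Spec.map (CommRingCat.ofHom (Localization.awayMap (algebraMap A B) P))) ≫ (basicOpenIso P).inv by
      rw [← hres, Category.assoc, Iso.hom_inv_id, Category.comp_id]]
    infer_instance
  haveI : IsFinite π := (IsFinite.SpecMap_iff _).mpr (RingHom.finite_algebraMap.mpr inferInstance)
  haveI : IsFinite (π ∣_ SGA1.specBasicOpen A P) := MorphismProperty.of_isPullback (isPullback_morphismRestrict π (SGA1.specBasicOpen A P)).flip ‹IsFinite π›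
  let g : V.left ⟶ ((SGA1.specBasicOpen A P) : Scheme.{u}) := V.hom
  haveI : IsFinite g := V.prop.1
  haveI : Etale g := V.prop.2
  let φ : (U' : Scheme.{u}) ⟶ V.left :=
    eU.hom ≫ Spec.map (CommRingCat.ofHom s.toRingHom) ≫ V.left.isoSpec.inv
  have hφ : φ ≫ g = π ∣_ SGA1.specBasicOpen A P := by
    rw [← cancel_mono (SGA1.specBasicOpen A P).ι, morphismRestrict_ι, Category.assoc]
    show (eU.hom ≫ Spec.map _ ≫ V.left.isoSpec.inv) ≫ V.hom ≫ (SGA1.specBasicOpen A P).ι = _
    rw [coverMap_spec, ← Scheme.isoSpec_hom, Category.assoc, Category.assoc, Iso.inv_hom_id_assoc,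
      ← Spec.map_comp, ← CommRingCat.ofHom_comp, ← heU, Category.assoc, ← Spec.map_comp, ← CommRingCat.ofHom_comp]
    congr 3
    exact RingHom.ext fun a => (s.commutes a).trans (IsScalarTower.algebraMap_apply A B _ a)
  haveI : IsFinite (φ ≫ g) := hφ ▸ inferInstance
  haveI : Etale (φ ≫ g) := hφ ▸ inferInstance
  haveI : IsFinite φ := IsFinite.of_comp φ g
  haveI : Etale φ := Etale.of_comp φ g
  refine ⟨φ, hφ, ⟨fun x => ?_⟩⟩
  have hclopen : IsClopen (Set.range φ) := ⟨φ.isClosedMap.isClosed_range, φ.isOpenMap.isOpen_range⟩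
  haveI : Nonempty (U' : Scheme.{u}) :=
    ⟨eU.inv (Nonempty.some (inferInstance : Nonempty (PrimeSpectrum (Localization.Away (algebraMap A B P)))))⟩
  exact (hclopen.eq_univ (Set.range_nonempty φ)).ge (Set.mem_univ x)

end GrothLib.TameAbh21
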