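import Groth.Prelude.Def_SGA1
import Groth.Prelude.Def_FEt
import Mathlib.AlgebraicGeometry.Morphisms.Finite
import Mathlib.AlgebraicGeometry.PullbackCarrier
import Mathlib.RingTheory.Localization.Integral

/-!
Affine description of a finite étale cover of a basic open.
-/

set_option autoImplicit false
set_option linter.style.haveILetI false

universe u

open AlgebraicGeometry CategoryTheory CategoryTheory.Limits TensorProduct

namespace GrothLib.TameAbh21

variable {A : Type u} [CommRing A] (P : A)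

theorem range_basicOpen_ι : Set.range (SGA1.specBasicOpen A P).ι =
    (PrimeSpectrum.basicOpen P : Set (PrimeSpectrum A)) :=
  Scheme.Opens.range_ι _

/-- `D(P)` as the spectrum of the localisation. -/
noncomputable def basicOpenIso :
    ((SGA1.specBasicOpen A P) : Scheme.{u}) ≅ Spec (CommRingCat.of (Localization.Away P)) :=
  IsOpenImmersion.isoOfRangeEq (SGA1.specBasicOpen A P).ι
    (Spec.map (CommRingCat.ofHom (algebraMap A (Localization.Away P)))) (by
      rw [range_basicOpen_ι]
      exact (PrimeSpectrum.localization_away_comap_range (Localization.Away P) P).symm)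

theorem basicOpenIso_hom : (basicOpenIso P).hom ≫
    Spec.map (CommRingCat.ofHom (algebraMap A (Localization.Away P))) = (SGA1.specBasicOpen A P).ι :=
  IsOpenImmersion.isoOfRangeEq_hom_fac _ _ _

variable (V : FEt.Cat ((SGA1.specBasicOpen A P) : Scheme.{u}))

theorem isAffine_cover : IsAffine V.left := by
  haveI : IsAffine ((SGA1.specBasicOpen A P) : Scheme.{u}) := IsAffine.of_isIso (basicOpenIso P).hom
  haveI : IsFinite V.hom := V.prop.1
  let g : V.left ⟶ ((SGA1.specBasicOpen A P) : Scheme.{u}) := V.hom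
  haveI : IsFinite g := V.prop.1
  exact isAffine_of_isAffineHom g

/-- The map on global sections defining the cover. -/
noncomputable abbrev coverMap : A →+* Γ(V.left, ⊤) :=
  ((V.hom ≫ (SGA1.specBasicOpen A P).ι).appTop).hom.comp (Scheme.ΓSpecIso (CommRingCat.of A)).inv.hom

theorem coverMap_spec : V.hom ≫ (SGA1.specBasicOpen A P).ι =
    V.left.toSpecΓ ≫ Spec.map (CommRingCat.ofHom (coverMap P V)) := by
  have h := Scheme.toSpecΓ_naturality (V.hom ≫ (SGA1.specBasicOpen A P).ι)
  rw [← SpecMap_ΓSpecIso_hom] at h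
  rw [show CommRingCat.ofHom (coverMap P V) = (Scheme.ΓSpecIso (CommRingCat.of A)).inv ≫
      (V.hom ≫ (SGA1.specBasicOpen A P).ι).appTop from rfl, Spec.map_comp, ← Category.assoc]
  erw [← h]
  rw [Category.assoc, ← Spec.map_comp, Iso.inv_hom_id, Spec.map_id]
  exact (Category.comp_id _).symm

theorem isUnit_coverMap : IsUnit (coverMap P V P) := by
  haveI := isAffine_cover P V
  by_contra hnu
  obtain ⟨M, hM, hPM⟩ := exists_max_ideal_of_mem_nonunits hnu
  let x : Spec Γ(V.left, ⊤) := ⟨M, hM.isPrime⟩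
  have h1 : (V.left.isoSpec.inv ≫ V.hom ≫ (SGA1.specBasicOpen A P).ι) x =
      Spec.map (CommRingCat.ofHom (coverMap P V)) x := by
    rw [coverMap_spec, ← Scheme.isoSpec_hom, Iso.inv_hom_id_assoc]
  have h2 : Spec.map (CommRingCat.ofHom (coverMap P V)) x ∈ (PrimeSpectrum.basicOpen P : Set (PrimeSpectrum A)) := by
    rw [← h1, ← range_basicOpen_ι, ← Category.assoc]
    exact ⟨(V.left.isoSpec.inv ≫ V.hom) x, rfl⟩
  exact h2 hPM

theorem cover_etale : (coverMap P V).Etale := by
  haveI := isAffine_cover P V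
  haveI : Etale V.hom := V.prop.2
  let g : V.left ⟶ Spec (CommRingCat.of A) := V.hom ≫ (SGA1.specBasicOpen A P).ι
  haveI : Etale g := inferInstanceAs (Etale (V.hom ≫ (SGA1.specBasicOpen A P).ι))
  have h1 : g.appTop.hom.Etale := HasRingHomProperty.appTop (P := @Etale) _ inferInstance
  exact RingHom.Etale.stableUnderComposition _ _
    (RingHom.Etale.of_bijective (Scheme.ΓSpecIso (CommRingCat.of A)).symm.commRingCatIsoToRingEquiv.bijective) h1

theorem cover_integral (c : Γ(V.left, ⊤)) :
    ∃ k : ℕ, (coverMap P V).IsIntegralElem (coverMap P V P ^ k * c) := by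
  haveI := isAffine_cover P V
  let φ := coverMap P V
  letI := φ.toAlgebra
  let l : Localization.Away P →+* Γ(V.left, ⊤) := IsLocalization.Away.lift P (isUnit_coverMap P V)
  have hl : l.comp (algebraMap A _) = φ := IsLocalization.Away.lift_comp P (isUnit_coverMap P V)
  have h1 : V.hom ≫ (basicOpenIso P).hom = V.left.toSpecΓ ≫ Spec.map (CommRingCat.ofHom l) := by
    rw [← cancel_mono (Spec.map (CommRingCat.ofHom (algebraMap A (Localization.Away P)))), Category.assoc,
      basicOpenIso_hom, Category.assoc, ← Spec.map_comp, ← CommRingCat.ofHom_comp, hl, coverMap_spec]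
  haveI : IsFinite V.hom := V.prop.1
  haveI : IsFinite (V.left.toSpecΓ ≫ Spec.map (CommRingCat.ofHom l)) := h1 ▸ inferInstance
  have h1' : IsFinite (Spec.map (CommRingCat.ofHom l)) := by
    rw [show Spec.map (CommRingCat.ofHom l) = V.left.isoSpec.inv ≫ V.left.toSpecΓ ≫ Spec.map (CommRingCat.ofHom l) by
      rw [← Scheme.isoSpec_hom, Iso.inv_hom_id_assoc]]
    infer_instance
  have h2 : l.Finite := (IsFinite.SpecMap_iff (CommRingCat.ofHom l)).mp h1'
  letI := l.toAlgebra
  haveI : IsScalarTower A (Localization.Away P) Γ(V.left, ⊤) :=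
    IsScalarTower.of_algebraMap_eq fun a => (RingHom.congr_fun hl a).symm
  haveI : Module.Finite (Localization.Away P) Γ(V.left, ⊤) := h2
  obtain ⟨⟨_, k, rfl⟩, hk⟩ := IsIntegral.exists_multiple_integral_of_isLocalization (R := A)
    (Rₘ := Localization.Away P) (Submonoid.powers P) c (Algebra.IsIntegral.isIntegral c)
  refine ⟨k, ?_⟩
  have h3 : IsIntegral A (P ^ k • c) := hk
  rwa [Algebra.smul_def, map_pow] at h3

variable {P V} {B : Type u} [CommRing B] [Algebra A B]

/-- Base change of a cover of `D(P)`. -/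
theorem exists_restrict_iso (E : Type u) [CommRing E] [Algebra B E] [Module.Finite B E] [Algebra.Etale B E]
    (h : letI := (coverMap P V).toAlgebra
      ∃ ρ : E →ₐ[B] B ⊗[A] Γ(V.left, ⊤),
        @IsLocalization.Away E _ (algebraMap B E (algebraMap A B P)) (B ⊗[A] Γ(V.left, ⊤)) _ ρ.toRingHom.toAlgebra) :
    ∃ W : FEt.Cat (Spec (CommRingCat.of B)), Nonempty
      ((FEt.restrict ((Spec.map (CommRingCat.ofHom (algebraMap A B))) ⁻¹ᵁ (SGA1.specBasicOpen A P)).ι).obj W ≅
        (FEt.restrict ((Spec.map (CommRingCat.ofHom (algebraMap A B))) ∣_ (SGA1.specBasicOpen A P))).obj V) := by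
  haveI := isAffine_cover P V
  letI := (coverMap P V).toAlgebra
  obtain ⟨ρ, hρ⟩ := h
  have hWp : FEt.prop (Spec.map (CommRingCat.ofHom (algebraMap B E))) :=
    ⟨(IsFinite.SpecMap_iff _).mpr (RingHom.finite_algebraMap.mpr inferInstance),
      (HasRingHomProperty.Spec_iff (P := @Etale)).mpr (RingHom.etale_algebraMap.mpr inferInstance)⟩
  let W : FEt.Cat (Spec (CommRingCat.of B)) := MorphismProperty.Over.mk ⊤ _ hWp
  refine ⟨W, ⟨?_⟩⟩
  let π : Spec (CommRingCat.of B) ⟶ Spec (CommRingCat.of A) := Spec.map (CommRingCat.ofHom (algebraMap A B))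
  let U' := π ⁻¹ᵁ (SGA1.specBasicOpen A P)
  let T := CommRingCat.of (B ⊗[A] Γ(V.left, ⊤))
  let tB : Spec T ⟶ Spec (CommRingCat.of B) :=
    Spec.map (CommRingCat.ofHom (algebraMap B (B ⊗[A] Γ(V.left, ⊤))))
  -- the side of `V`
  have hV : IsPullback (pullback.fst V.hom (π ∣_ SGA1.specBasicOpen A P) ≫ V.left.isoSpec.hom)
      (pullback.snd V.hom (π ∣_ SGA1.specBasicOpen A P) ≫ U'.ι)
      (Spec.map (CommRingCat.ofHom (coverMap P V))) π := by
    refine ((IsPullback.of_hasPullback V.hom (π ∣_ SGA1.specBasicOpen A P)).paste_vert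
      (isPullback_morphismRestrict π (SGA1.specBasicOpen A P))).of_iso (Iso.refl _) V.left.isoSpec
      (Iso.refl _) (Iso.refl _) ?_ ?_ ?_ ?_
    · simp
    · simp [U']
    · rw [Iso.refl_hom, Category.comp_id, coverMap_spec, Scheme.isoSpec_hom]
    · simp
  have hT : IsPullback (Spec.map (CommRingCat.ofHom (Algebra.TensorProduct.includeRight (R := A) (A := B)
      (B := Γ(V.left, ⊤))).toRingHom)) tB (Spec.map (CommRingCat.ofHom (coverMap P V))) π := by
    refine ((IsPullback.of_hasPullback π (Spec.map (CommRingCat.ofHom (coverMap P V)))).of_iso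
      (pullbackSpecIso A B Γ(V.left, ⊤)) (Iso.refl _) (Iso.refl _) (Iso.refl _) ?_ ?_ ?_ ?_).flip
    · rw [Iso.refl_hom, Category.comp_id]; exact (pullbackSpecIso_hom_fst A B Γ(V.left, ⊤)).symm
    · rw [Iso.refl_hom, Category.comp_id]; exact (pullbackSpecIso_hom_snd A B Γ(V.left, ⊤)).symm
    · simp [π]
    · simp
  let eV := hV.isoIsPullback _ _ hT
  have heV : eV.hom ≫ tB = pullback.snd V.hom (π ∣_ SGA1.specBasicOpen A P) ≫ U'.ι :=
    hV.isoIsPullback_hom_snd _ _ hT
  -- the side of `W`
  letI := ρ.toRingHom.toAlgebra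
  haveI := hρ
  haveI himm : IsOpenImmersion (Spec.map (CommRingCat.ofHom ρ.toRingHom)) :=
    IsOpenImmersion.of_isLocalization (R := E) (S := B ⊗[A] Γ(V.left, ⊤)) (algebraMap B E (algebraMap A B P))
  let w : Spec (CommRingCat.of E) ⟶ Spec (CommRingCat.of B) := Spec.map (CommRingCat.ofHom (algebraMap B E))
  have hρt : Spec.map (CommRingCat.ofHom ρ.toRingHom) ≫ w = tB := by
    show _ ≫ Spec.map _ = _
    rw [← Spec.map_comp, ← CommRingCat.ofHom_comp]
    congr 2
    exact RingHom.ext fun b => ρ.commutes b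
  let eW := @IsOpenImmersion.isoOfRangeEq _ _ _ (pullback.fst w U'.ι) (Spec.map (CommRingCat.ofHom ρ.toRingHom))
    inferInstance himm (by
    rw [Scheme.Pullback.range_fst, Scheme.Opens.range_ι]
    refine Eq.trans ?_ (PrimeSpectrum.localization_away_comap_range (B ⊗[A] Γ(V.left, ⊤))
      (algebraMap B E (algebraMap A B P))).symm
    rfl)
  have heW : eW.hom ≫ Spec.map (CommRingCat.ofHom ρ.toRingHom) = pullback.fst w U'.ι :=
    @IsOpenImmersion.isoOfRangeEq_hom_fac _ _ _ _ _ _ himm _
  refine MorphismProperty.Over.isoMk (eW ≪≫ eV.symm) ?_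
  show (eW.hom ≫ eV.inv) ≫ pullback.snd V.hom (π ∣_ SGA1.specBasicOpen A P) = pullback.snd w U'.ι
  rw [← cancel_mono U'.ι, Category.assoc, Category.assoc, ← heV, Iso.inv_hom_id_assoc, ← hρt, ← Category.assoc, heW]
  exact pullback.condition

end GrothLib.TameAbh21
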