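import Groth.Agent.Lib.TameAbh21.Local
import Groth.Agent.Lib.TameKum21.Basic

/-!
Extensions of discrete valuation rings by roots of a uniformizer, and base change of tame extensions.
-/

set_option autoImplicit false
set_option linter.style.haveILetI false

universe u

open IsLocalRing TensorProduct

namespace GrothLib.TameAbh21

/-- In `K(z)` with `z^e = π` the residue extensions are separable and the index is `e`. -/
theorem rootExt {A : Type u} [CommRing A] [IsDomain A] [IsDiscreteValuationRing A]
    (K : Type u) [Field K] [Algebra A K] [IsFractionRing A K]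
    {L : Type u} [Field L] [Algebra K L] [Algebra A L] [IsScalarTower A K L]
    (z : L) (hz : IntermediateField.adjoin K {z} = ⊤) (e : ℕ) (he : 1 ≤ e) (heu : IsUnit (e : A))
    (π : A) (hπ : Irreducible π) (hzp : z ^ e = algebraMap A L π)
    (V : ValuationSubring L) (h : EtRam.Dominates A (algebraMap A L) V) :
    letI : Algebra A V := (RingHom.codRestrict (algebraMap A L) V h.1).toAlgebra
    ∀ [IsLocalHom (algebraMap A V)], Algebra.IsSeparable (ResidueField A) (ResidueField V) ∧
      Ideal.ramificationIdx' (maximalIdeal A) (maximalIdeal V) = e := by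
  classical
  have hinj : Function.Injective (algebraMap A L) := by
    rw [IsScalarTower.algebraMap_eq A K L]
    exact (algebraMap K L).injective.comp (IsFractionRing.injective A K)
  letI : Algebra A V := (RingHom.codRestrict (algebraMap A L) V h.1).toAlgebra
  intro _
  refine GrothLib.TameKum21.ramification (algebraMap A L) hinj π hπ (fun _ : Fin 1 => z)
    (fun _ => e) 0 (fun _ => he) (fun _ => heu) hzp (fun j hj => absurd (Subsingleton.elim j 0) hj) ?_ V h
  have hint : IsIntegral K z := ⟨Polynomial.X ^ e - Polynomial.C (algebraMap A K π),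
    Polynomial.monic_X_pow_sub_C _ (by omega), by
      simp only [Polynomial.eval₂_sub, Polynomial.eval₂_X_pow, Polynomial.eval₂_C]
      rw [← IsScalarTower.algebraMap_apply, hzp]; exact sub_self _⟩
  intro x
  have hx : x ∈ IntermediateField.adjoin K {z} := hz ▸ IntermediateField.mem_top
  rw [← IntermediateField.mem_toSubalgebra,
    IntermediateField.adjoin_simple_toSubalgebra_of_isAlgebraic hint.isAlgebraic,
    Algebra.adjoin_singleton_eq_range_aeval] at hx
  obtain ⟨P, rfl⟩ := hx
  obtain ⟨b, hb, hQ⟩ := IsLocalization.integerNormalization_spec (nonZeroDivisors A) P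
  have hbL : algebraMap A L b ≠ 0 := fun h0 =>
    nonZeroDivisors.ne_zero hb (hinj (h0.trans (map_zero _).symm))
  set Q := IsLocalization.integerNormalization (nonZeroDivisors A) P
  rw [Algebra.smul_def, Polynomial.algebraMap_apply] at hQ
  have hmem : Polynomial.aeval z Q ∈ Algebra.adjoin A (Set.range fun _ : Fin 1 => z) :=
    (Algebra.adjoin_mono (R := A) (s := {z}) (show ({z} : Set L) ⊆ Set.range fun _ : Fin 1 => z from Set.singleton_subset_iff.mpr ⟨0, rfl⟩)) (Polynomial.aeval_mem_adjoin_singleton A z)
  have hval : Polynomial.aeval z P = Polynomial.aeval z Q / algebraMap A L b := by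
    rw [← Polynomial.aeval_map_algebraMap K z Q, hQ, map_mul, Polynomial.aeval_C,
      ← IsScalarTower.algebraMap_apply, mul_div_cancel_left₀ _ hbL]
  have hg : ((algebraMap A L).toAlgebra : Algebra A L) = ‹Algebra A L› :=
    Algebra.algebra_ext _ _ fun r => rfl
  show ∃ a b : Algebra.adjoin A (Set.range fun _ : Fin 1 => z), (b : L) ≠ 0 ∧
      Polynomial.aeval z P = (a : L) / (b : L)
  exact (⟨⟨_, hmem⟩, ⟨algebraMap A L b, Subalgebra.algebraMap_mem _ b⟩, hbL, hval⟩ :
    ∃ a b : Algebra.adjoin A (Set.range fun _ : Fin 1 => z), (b : L) ≠ 0 ∧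
      Polynomial.aeval z P = (a : L) / (b : L))

/-- A field generated over `L` by the image of a finite separable extension of `K` is finite separable over `L`. -/
theorem finiteSep {K L K' F : Type u} [Field K] [Field L] [Field K'] [Algebra K L]
    [Algebra K K'] [FiniteDimensional K K'] [Algebra.IsSeparable K K'] [Field F] [Algebra L F] (ι : K' →+* F)
    (hcomm : ι.comp (algebraMap K K') = (algebraMap L F).comp (algebraMap K L))
    (hgen : IntermediateField.adjoin L (Set.range ι) = ⊤) :
    FiniteDimensional L F ∧ Algebra.IsSeparable L F := by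
  classical
  -- `F` is finite separable over `L`
  letI : Algebra K F := ((algebraMap L F).comp (algebraMap K L)).toAlgebra
  haveI : IsScalarTower K L F := IsScalarTower.of_algebraMap_eq fun _ => rfl
  let ιa : K' →ₐ[K] F := { ι with commutes' := fun r => RingHom.congr_fun hcomm r }
  have hsepι : ∀ x ∈ Set.range ι, IsSeparable L x := by
    rintro _ ⟨y, rfl⟩
    have h1 : IsSeparable K (ιa y) :=
      (Algebra.IsSeparable.isSeparable K y).map ιa ιa.toRingHom.injective
    exact h1.tower_top L
  haveI : Algebra.IsSeparable L F := by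
    have h1 : Algebra.IsSeparable L (IntermediateField.adjoin L (Set.range ι)) :=
      (IntermediateField.isSeparable_adjoin_iff_isSeparable _ _).mpr hsepι
    rw [hgen] at h1
    exact AlgEquiv.Algebra.isSeparable IntermediateField.topEquiv
  haveI : FiniteDimensional L F := by
    let bK := Module.finBasis K K'
    have hfg : IntermediateField.adjoin L (Set.range fun i => ι (bK i)) = ⊤ := by
      rw [eq_top_iff, ← hgen, IntermediateField.adjoin_le_iff]
      rintro _ ⟨y, rfl⟩
      rw [← bK.sum_repr y, map_sum]
      refine sum_mem fun i _ => ?_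
      rw [Algebra.smul_def, map_mul]
      refine mul_mem ?_ (IntermediateField.subset_adjoin _ _ ⟨i, rfl⟩)
      rw [show ι (algebraMap K K' (bK.repr y i)) = algebraMap L F (algebraMap K L (bK.repr y i)) from
        RingHom.congr_fun hcomm _]
      exact IntermediateField.algebraMap_mem _ _
    haveI : FiniteDimensional L (IntermediateField.adjoin L (Set.range fun i => ι (bK i))) :=
      IntermediateField.finiteDimensional_adjoin fun x hx => by
        obtain ⟨i, rfl⟩ := hx
        exact (hsepι _ ⟨_, rfl⟩).isIntegral
    rw [hfg] at this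
    exact Module.Finite.equiv IntermediateField.topEquiv.toLinearEquiv
  exact ⟨inferInstance, inferInstance⟩

/-- Every valuation subring of a factor of `K' ⊗ L` is unramified over a root extension of `L`. -/
theorem baseChange {A B K L K' F : Type u} [CommRing A] [IsDomain A] [IsDiscreteValuationRing A]
    [CommRing B] [IsDomain B] [IsDiscreteValuationRing B] [Algebra A B] [IsLocalHom (algebraMap A B)]
    (hinj : Function.Injective (algebraMap A B))
    [Field K] [Field L] [Field K'] [Algebra A K] [IsFractionRing A K] [Algebra B L] [IsFractionRing B L]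
    [Algebra K L] [Algebra A L] [IsScalarTower A K L] [IsScalarTower A B L]
    [Algebra K K'] [FiniteDimensional K K'] [Algebra.IsSeparable K K']
    (htame : EtRam.IsTamelyRamified A ((algebraMap K K').comp (algebraMap A K)))
    [Field F] [Algebra L F] (ι : K' →+* F)
    (hcomm : ι.comp (algebraMap K K') = (algebraMap L F).comp (algebraMap K L))
    (hgen : IntermediateField.adjoin L (Set.range ι) = ⊤)
    (V : ValuationSubring F) (hV : EtRam.Dominates B ((algebraMap L F).comp (algebraMap B L)) V) :
    letI : Algebra B V := (RingHom.codRestrict ((algebraMap L F).comp (algebraMap B L)) V hV.1).toAlgebra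
    ∀ [IsLocalHom (algebraMap B V)],
      ∃ (V' : ValuationSubring K') (h' : EtRam.Dominates A ((algebraMap K K').comp (algebraMap A K)) V'),
        Algebra.IsSeparable (ResidueField B) (ResidueField V) ∧
        Ideal.ramificationIdx' (maximalIdeal B) (maximalIdeal V) ∣
          (letI : Algebra A V' := (RingHom.codRestrict ((algebraMap K K').comp (algebraMap A K)) V' h'.1).toAlgebra
           Ideal.ramificationIdx' (maximalIdeal A) (maximalIdeal V')) := by
  classical
  letI : Algebra B V := (RingHom.codRestrict ((algebraMap L F).comp (algebraMap B L)) V hV.1).toAlgebra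
  intro _
  obtain ⟨_, _⟩ := finiteSep ι hcomm hgen
  obtain ⟨hdvrV, hinjV, hlV⟩ := GrothLib.DVRExt.dominates_algebra B L F V hV
  haveI := hdvrV
  -- the valuation below
  let V' : ValuationSubring K' := V.comap ι
  have hcA : ∀ a : A, ι ((algebraMap K K').comp (algebraMap A K) a) =
      (algebraMap L F).comp (algebraMap B L) (algebraMap A B a) := fun a => by
    rw [RingHom.comp_apply, RingHom.comp_apply, ← IsScalarTower.algebraMap_apply A B L,
      IsScalarTower.algebraMap_apply A K L]
    exact RingHom.congr_fun hcomm _
  have hlocA : ∀ a ∈ maximalIdeal A, algebraMap A B a ∈ maximalIdeal B := fun a ha hu =>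
    ha (IsUnit.of_map (algebraMap A B) a hu)
  have h' : EtRam.Dominates A ((algebraMap K K').comp (algebraMap A K)) V' := by
    refine ⟨fun a => ?_, fun a ha => ?_⟩
    · show ι _ ∈ V
      rw [hcA]; exact hV.1 _
    · have hm : ι ((algebraMap K K').comp (algebraMap A K) a) ∈ V := by rw [hcA]; exact hV.1 _
      refine (ValuationSubring.valuation_lt_one_iff V' ⟨_, hm⟩).mp fun hu => ?_
      have h1 := (hu.map (EtRam.inclOfComap V ι))
      have h2 := (ValuationSubring.valuation_lt_one_iff V ⟨_, hm⟩).mpr
        (by show V.valuation (ι _) < 1; rw [hcA]; exact hV.2 _ (hlocA a ha))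
      exact h2 h1
  refine ⟨V', h', ?_⟩
  letI : Algebra A V' := (RingHom.codRestrict ((algebraMap K K').comp (algebraMap A K)) V' h'.1).toAlgebra
  obtain ⟨hdvr', hinj', hl'⟩ := GrothLib.DVRExt.dominates_algebra A K K' V' h'
  haveI := hdvr'
  haveI : IsLocalHom (algebraMap A V') := hl'
  obtain ⟨-, hp'⟩ := @htame V' h' hl'
  set e := Ideal.ramificationIdx' (maximalIdeal A) (maximalIdeal V') with hedef
  have he1 : 1 ≤ e := (GrothLib.DVRExt.map_maximalIdeal_eq_pow (A := A) (B := V') hinj').1
  have heA : IsUnit (e : A) := isUnit_natCast e he1 hp'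
  have heB : IsUnit (e : B) := by simpa using heA.map (algebraMap A B)
  obtain ⟨ϖ, hϖ⟩ := IsDiscreteValuationRing.exists_irreducible B
  -- adjoin a root of the uniformizer
  letI : Algebra B F := ((algebraMap L F).comp (algebraMap B L)).toAlgebra
  let Ω := AlgebraicClosure F
  obtain ⟨z, hz⟩ := IsAlgClosed.exists_pow_nat_eq (algebraMap F Ω (algebraMap B F ϖ)) he1
  let L1 : IntermediateField L Ω := IntermediateField.adjoin L {z}
  let S : Set Ω := insert z (Set.range (algebraMap F Ω))
  let M : IntermediateField L Ω := IntermediateField.adjoin L S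
  have hzBL : z ^ e = algebraMap L Ω (algebraMap B L ϖ) := by
    rw [hz, IsScalarTower.algebraMap_apply L F Ω]; rfl
  have hzsep : IsSeparable L z := by
    have hϖ0 : algebraMap B L ϖ ≠ 0 := (map_ne_zero_iff _ (IsFractionRing.injective B L)).mpr hϖ.ne_zero
    have heL : ((e : ℕ) : L) ≠ 0 := by
      have := (heB.map (algebraMap B L)).ne_zero; simpa using this
    refine (Polynomial.separable_X_pow_sub_C (algebraMap B L ϖ) heL hϖ0).of_dvd (minpoly.dvd L z ?_)
    simp [hzBL]
  have hzint : IsIntegral L z := hzsep.isIntegral
  haveI : Algebra.IsSeparable L M := (IntermediateField.isSeparable_adjoin_iff_isSeparable _ _).mpr fun x hx => by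
    rcases hx with rfl | ⟨y, rfl⟩
    · exact hzsep
    · exact (Algebra.IsSeparable.isSeparable L y).map (IsScalarTower.toAlgHom L F Ω) (IsScalarTower.toAlgHom L F Ω).toRingHom.injective
  haveI : FiniteDimensional L M := by
    let F0 : IntermediateField L Ω := (IsScalarTower.toAlgHom L F Ω).fieldRange
    haveI : FiniteDimensional L F0 := Module.Finite.of_surjective
      ((IsScalarTower.toAlgHom L F Ω).rangeRestrict.toLinearMap) (AlgHom.rangeRestrict_surjective _)
    haveI : FiniteDimensional L L1 := IntermediateField.adjoin.finiteDimensional hzint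
    have hM : M ≤ L1 ⊔ F0 := by
      rw [IntermediateField.adjoin_le_iff]
      rintro x (rfl | ⟨y, rfl⟩)
      · exact le_sup_left (a := L1) (IntermediateField.mem_adjoin_simple_self L _)
      · exact le_sup_right (a := L1) (show algebraMap F Ω y ∈ F0 from ⟨y, rfl⟩)
    exact Module.Finite.of_injective (IntermediateField.inclusion hM).toLinearMap
      (IntermediateField.inclusion hM).toRingHom.injective
  letI : Algebra F M := ((algebraMap F Ω).codRestrict M fun y =>
    IntermediateField.subset_adjoin L S (Set.mem_insert_of_mem z ⟨y, rfl⟩)).toAlgebra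
  haveI : IsScalarTower L F M := IsScalarTower.of_algebraMap_eq fun r => Subtype.ext
    (IsScalarTower.algebraMap_apply L F Ω r)
  have hL1M : L1 ≤ M := IntermediateField.adjoin.mono L _ _ (Set.singleton_subset_iff.mpr (Set.mem_insert z _))
  letI : Algebra L1 M := (IntermediateField.inclusion hL1M).toRingHom.toAlgebra
  haveI : IsScalarTower L L1 M := IsScalarTower.of_algebraMap_eq fun r => rfl
  haveI : FiniteDimensional L L1 := IntermediateField.adjoin.finiteDimensional hzint
  haveI : Algebra.IsSeparable L L1 := Algebra.isSeparable_tower_bot_of_isSeparable L L1 M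
  obtain ⟨W, hW, hWV⟩ := GrothLib.DVRExt.exists_extension B L M V hV
  let C : ValuationSubring L1 := W.comap (algebraMap L1 M)
  have hC : EtRam.Dominates B ((algebraMap L L1).comp (algebraMap B L)) C :=
    GrothLib.DVRExt.dominates_comap B L (L := L1) M W hW
  letI : Algebra B C := (RingHom.codRestrict ((algebraMap L L1).comp (algebraMap B L)) C hC.1).toAlgebra
  obtain ⟨hdC, hinjC, hlC⟩ := GrothLib.DVRExt.dominates_algebra B L L1 C hC
  haveI := hdC
  haveI : IsLocalHom (algebraMap B C) := hlC
  -- the root extension
  letI : Algebra B L1 := ((algebraMap L L1).comp (algebraMap B L)).toAlgebra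
  haveI : IsScalarTower B L L1 := IsScalarTower.of_algebraMap_eq fun _ => rfl
  let z1 : L1 := ⟨z, IntermediateField.mem_adjoin_simple_self L z⟩
  have hz1top : IntermediateField.adjoin L ({z1} : Set L1) = ⊤ := by
    apply IntermediateField.map_injective L1.val
    rw [IntermediateField.adjoin_map, Set.image_singleton, ← AlgHom.fieldRange_eq_map,
      IntermediateField.fieldRange_val]
    rfl
  obtain ⟨hsC, heC⟩ := @rootExt B _ _ _ L _ _ _ L1 _ _ _ _ z1 hz1top e he1 heB ϖ hϖ (Subtype.ext hzBL) C hC hlC
  -- the tame lemma
  letI : Algebra A C := ((algebraMap B C).comp (algebraMap A B)).toAlgebra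
  haveI : IsLocalHom (algebraMap A C) :=
    ⟨fun a ha => IsUnit.of_map (algebraMap A B) a (IsUnit.of_map (algebraMap B C) _ ha)⟩
  haveI : IsScalarTower A B C := IsScalarTower.of_algebraMap_eq fun _ => rfl
  let gC : C →+* M := (algebraMap L1 M).comp C.subtype
  let ιM : K' →+* M := (algebraMap F M).comp ι
  have hgCinj : Function.Injective gC := (algebraMap L1 M).injective.comp Subtype.val_injective
  have hcommM : gC.comp (algebraMap A C) = ιM.comp ((algebraMap K K').comp (algebraMap A K)) := by
    refine RingHom.ext fun a => ?_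
    show algebraMap L1 M (algebraMap L L1 (algebraMap B L (algebraMap A B a))) = algebraMap F M (ι _)
    rw [hcA, ← IsScalarTower.algebraMap_apply L L1 M, RingHom.comp_apply,
      ← IsScalarTower.algebraMap_apply L F M]
  have hgenM : Subfield.closure (Set.range gC ∪ Set.range ιM) = ⊤ := by
    rw [eq_top_iff]
    set Φ := Subfield.closure (Set.range gC ∪ Set.range ιM)
    have hL1 : ∀ x : L1, algebraMap L1 M x ∈ Φ := fun x => by
      rcases C.mem_or_inv_mem x with h | h
      · exact Subfield.subset_closure (Or.inl ⟨⟨x, h⟩, rfl⟩)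
      · have := Φ.inv_mem (Subfield.subset_closure (Or.inl ⟨⟨x⁻¹, h⟩, rfl⟩) : gC ⟨x⁻¹, h⟩ ∈ Φ)
        rwa [show gC ⟨x⁻¹, h⟩ = algebraMap L1 M x⁻¹ from rfl, map_inv₀, inv_inv] at this
    have hF : ∀ y : F, algebraMap F M y ∈ Φ := by
      let G : IntermediateField L F :=
        { (Φ.comap (algebraMap F M)) with
          algebraMap_mem' := fun r => by
            show algebraMap F M (algebraMap L F r) ∈ Φ
            rw [← IsScalarTower.algebraMap_apply L F M, IsScalarTower.algebraMap_apply L L1 M]
            exact hL1 _ }
      have hG : G = ⊤ := by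
        rw [eq_top_iff, ← hgen, IntermediateField.adjoin_le_iff]
        rintro _ ⟨y, rfl⟩
        exact Subfield.subset_closure (Or.inr ⟨y, rfl⟩)
      intro y
      exact (hG ▸ IntermediateField.mem_top : y ∈ G)
    intro x _
    let G' : IntermediateField L M :=
      { Φ with algebraMap_mem' := fun r => by rw [IsScalarTower.algebraMap_apply L L1 M]; exact hL1 _ }
    have hle : M ≤ IntermediateField.lift G' := by
      rw [IntermediateField.adjoin_le_iff]
      rintro _ (rfl | ⟨y, rfl⟩)
      · exact ⟨algebraMap L1 M z1, hL1 _, rfl⟩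
      · exact ⟨algebraMap F M y, hF y, rfl⟩
    obtain ⟨x', hx', e'⟩ := hle x.2
    exact (show x' = x from Subtype.ext e') ▸ hx'
  have hWC : EtRam.Dominates C gC W := by
    refine ⟨fun c => c.2, fun c hc => ?_⟩
    exact (ValuationSubring.valuation_lt_one_iff W ⟨_, c.2⟩).mp fun hu =>
      hc ((EtRam.isLocalHom_inclOfComap W (algebraMap L1 M)).map_nonunit c hu)
  have hVW : W.comap ιM = V' := by
    show W.comap ((algebraMap F M).comp ι) = V.comap ι
    rw [← hWV]; rfl
  have hdiv : ∀ h'' : EtRam.Dominates A ((algebraMap K K').comp (algebraMap A K)) (W.comap ιM),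
      letI : Algebra A (W.comap ιM) :=
        (RingHom.codRestrict ((algebraMap K K').comp (algebraMap A K)) (W.comap ιM) h''.1).toAlgebra
      Ideal.ramificationIdx' (maximalIdeal A) (maximalIdeal (W.comap ιM)) ∣
        Ideal.ramificationIdx' (maximalIdeal A) (maximalIdeal C) := by
    rw [hVW]
    intro h''
    refine ⟨Ideal.ramificationIdx' (maximalIdeal A) (maximalIdeal B), ?_⟩
    rw [GrothLib.DVRExt.ramificationIdx_tower (A := A) (B := B) (C := C) hinj hinjC, heC, mul_comm]
  letI : Algebra C W := (RingHom.codRestrict gC W hWC.1).toAlgebra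
  haveI : IsLocalHom (algebraMap C W) := EtRam.isLocalHom_inclOfComap W (algebraMap L1 M)
  obtain ⟨hwu, hsW⟩ := compositum (C := C) K htame (hinjC.comp hinj) gC hgCinj ιM hcommM hgenM W hWC hdiv
  obtain ⟨hdW, hinjW, hlW⟩ := GrothLib.DVRExt.dominates_algebra B L M W hW
  haveI := hdW
  letI : Algebra B W := (RingHom.codRestrict ((algebraMap L M).comp (algebraMap B L)) W hW.1).toAlgebra
  haveI : IsLocalHom (algebraMap B W) := hlW
  haveI : IsScalarTower B C W := IsScalarTower.of_algebraMap_eq fun b => Subtype.ext
    (IsScalarTower.algebraMap_apply L L1 M (algebraMap B L b))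
  have hinjCW : Function.Injective (algebraMap C W) := fun x y hxy => hgCinj (congrArg Subtype.val hxy)
  have heW : Ideal.ramificationIdx' (maximalIdeal B) (maximalIdeal W) = e := by
    rw [GrothLib.DVRExt.ramificationIdx_tower (A := B) (B := C) (C := W) hinjC hinjCW, heC,
      (GrothLib.DVRExt.weaklyUnramified_iff (A := C) (B := W) hinjCW).mp hwu, mul_one]
  haveI := hsC
  haveI := hsW
  haveI : Algebra.IsSeparable (ResidueField B) (ResidueField W) :=
    Algebra.IsSeparable.trans (ResidueField B) (ResidueField C) (ResidueField W)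
  subst hWV
  letI : Algebra (W.comap (algebraMap F M)) W := (EtRam.inclOfComap W (algebraMap F M)).toAlgebra
  haveI : IsLocalHom (algebraMap (W.comap (algebraMap F M)) W) := EtRam.isLocalHom_inclOfComap _ _
  haveI : IsScalarTower B (W.comap (algebraMap F M)) W := IsScalarTower.of_algebraMap_eq fun b =>
    Subtype.ext (by
      show algebraMap L M (algebraMap B L b) = algebraMap F M (algebraMap L F (algebraMap B L b))
      rw [← IsScalarTower.algebraMap_apply L F M])
  have hinjVW : Function.Injective (algebraMap (W.comap (algebraMap F M)) W) := fun x y hxy =>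
    Subtype.ext ((algebraMap F M).injective (congrArg Subtype.val hxy))
  refine ⟨Algebra.isSeparable_tower_bot_of_isSeparable (ResidueField B)
    (ResidueField (W.comap (algebraMap F M))) (ResidueField W), ?_⟩
  refine dvd_trans ?_ heW.dvd
  exact ⟨_, GrothLib.DVRExt.ramificationIdx_tower (A := B) (B := W.comap (algebraMap F M)) (C := W) hinjV hinjVW⟩

end GrothLib.TameAbh21
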