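import Groth.Agent.Lib.TameAbh21.TraceLoc
import Groth.Agent.Lib.Kummer21.Basic
import Groth.Agent.Lib.TameAbh21.Root
import Groth.Agent.Lib.RegUFD.Basic
import Groth.Agent.Lib.RegLoc.Basic
import Groth.Agent.Lib.Serre.Regular
import Mathlib

/-!
Facts on regular parameters and Kummer algebras.
-/

set_option autoImplicit false
set_option linter.style.haveILetI false
set_option linter.unusedSectionVars false

universe u

open IsLocalRing

namespace GrothLib.TameAbh21

variable {A : Type u} [CommRing A] [IsRegularLocalRing A] [IsDomain A] {r : ℕ} {f : Fin r → A}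
  (hm : ∀ i, f i ∈ maximalIdeal A)
  (hf : LinearIndependent (ResidueField A) (fun i => (maximalIdeal A).toCotangent ⟨f i, hm i⟩))

include hm hf

theorem f_ne_zero (i : Fin r) : f i ≠ 0 := by
  intro h
  apply hf.ne_zero i
  show (maximalIdeal A).toCotangent ⟨f i, hm i⟩ = 0
  rw [show (⟨f i, hm i⟩ : maximalIdeal A) = 0 from Subtype.ext h, map_zero]

/-- The parameters are independent modulo the square of the maximal ideal. -/
theorem not_mem_span_sup_sq (k : Fin r) (S : Finset (Fin r)) (hk : k ∉ S) :
    f k ∉ Ideal.span (f '' S) ⊔ maximalIdeal A ^ 2 := by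
  intro h
  obtain ⟨a, ha, b, hb, hab⟩ := Submodule.mem_sup.mp h
  obtain ⟨c, rfl⟩ := (Submodule.mem_span_image_finset_iff_exists_fun A).mp (by simpa [Ideal.span] using ha)
  have h0 : (maximalIdeal A).toCotangent ⟨f k, hm k⟩ =
      ∑ j : S, residue A (c j) • (maximalIdeal A).toCotangent ⟨f j, hm j⟩ := by
    have hb' : b ∈ maximalIdeal A := Ideal.pow_le_self two_ne_zero hb
    have e : (⟨f k, hm k⟩ : maximalIdeal A) = (∑ j : S, c j • ⟨f j, hm j⟩) + ⟨b, hb'⟩ :=
      Subtype.ext (by simpa using hab.symm)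
    rw [e, map_add, map_sum, (Ideal.toCotangent_eq_zero _ _).mpr hb, add_zero]
    exact Finset.sum_congr rfl fun j _ => by rw [map_smul]; rfl
  have := hf.notMem_span_image (s := (S : Set (Fin r))) (x := k) (by simpa using hk)
  exact this (h0 ▸ Submodule.sum_mem _ fun j _ => Submodule.smul_mem _ _
    (Submodule.subset_span ⟨j, j.2, rfl⟩))

theorem not_mem_span (i j : Fin r) (h : j ≠ i) : f j ∉ Ideal.span {f i} := fun hmem =>
  not_mem_span_sup_sq hm hf j {i} (by simpa using h) (Ideal.mem_sup_left (by simpa using hmem))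

/-- Two of the parameters generate a prime ideal. -/
theorem isPrime_span_pair (i j : Fin r) (h : j ≠ i) : (Ideal.span {f i} ⊔ Ideal.span {f j}).IsPrime := by
  have h1 : f i ∉ maximalIdeal A ^ 2 := fun h' =>
    not_mem_span_sup_sq hm hf i ∅ (Finset.notMem_empty i) (Ideal.mem_sup_right h')
  obtain ⟨hR, -, -⟩ := GrothLib.RegLoc.quotient_isRegularLocalRing (hm i) h1
  haveI := hR
  let q := Ideal.Quotient.mk (Ideal.span {f i})
  have hj : q (f j) ∈ maximalIdeal (A ⧸ Ideal.span {f i}) := by
    rw [← GrothLib.RegLoc.map_maximalIdeal_quotient (I := Ideal.span {f i})]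
    exact Ideal.mem_map_of_mem _ (hm j)
  have hj2 : q (f j) ∉ maximalIdeal (A ⧸ Ideal.span {f i}) ^ 2 := fun h' => by
    rw [← GrothLib.RegLoc.map_maximalIdeal_quotient (I := Ideal.span {f i}), ← Ideal.map_pow, ← Ideal.mem_comap,
      Ideal.comap_map_of_surjective _ Ideal.Quotient.mk_surjective, ← RingHom.ker_eq_comap_bot, Ideal.mk_ker] at h'
    refine not_mem_span_sup_sq hm hf j {i} (by simpa using h) ?_
    rw [Finset.coe_singleton, Set.image_singleton, sup_comm]
    exact h'
  obtain ⟨hR', -, -⟩ := GrothLib.RegLoc.quotient_isRegularLocalRing hj hj2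
  haveI := hR'
  haveI := GrothLib.CMFree.isDomain_of_isRegularLocalRing ((A ⧸ Ideal.span {f i}) ⧸ Ideal.span {q (f j)})
  haveI : (Ideal.span {q (f j)}).IsPrime := (Ideal.Quotient.isDomain_iff_prime _).mp inferInstance
  have h3 : (Ideal.span {q (f j)}).comap q = Ideal.span {f i} ⊔ Ideal.span {f j} := by
    rw [show Ideal.span {q (f j)} = (Ideal.span {f j}).map q by rw [Ideal.map_span, Set.image_singleton],
      Ideal.comap_map_of_surjective _ Ideal.Quotient.mk_surjective,
      ← RingHom.ker_eq_comap_bot, Ideal.mk_ker, sup_comm]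
  exact h3 ▸ Ideal.IsPrime.comap q

/-- A height two prime contains at most one other parameter. -/
theorem eq_of_mem_height_two [∀ i, (Ideal.span {f i}).IsPrime] (P : Ideal A) [P.IsPrime] (hP : P.height ≤ 2)
    (i j k : Fin r) (hj : j ≠ i) (hk : k ≠ i) (hiP : f i ∈ P) (hjP : f j ∈ P) (hkP : f k ∈ P) : k = j := by
  by_contra hkj
  haveI := isPrime_span_pair hm hf i j hj
  set I := Ideal.span {f i} ⊔ Ideal.span {f j}
  have h0 : (⊥ : Ideal A) < Ideal.span {f i} :=
    bot_lt_iff_ne_bot.mpr (by rw [Ne, Ideal.span_singleton_eq_bot]; exact f_ne_zero hm hf i)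
  have h1 : Ideal.span {f i} < I := lt_of_le_of_ne le_sup_left fun e =>
    not_mem_span hm hf i j hj (e.symm.le (Ideal.mem_sup_right (Ideal.mem_span_singleton_self _)))
  have hkI : f k ∉ I := fun h => not_mem_span_sup_sq hm hf k {i, j} (by simp [hk, hkj]) (Ideal.mem_sup_left (by
    rw [Finset.coe_insert, Finset.coe_singleton, Set.image_pair, Ideal.span_insert]
    exact h))
  have h2 : I < P := lt_of_le_of_ne (sup_le ((Ideal.span_singleton_le_iff_mem _).mpr hiP)
    ((Ideal.span_singleton_le_iff_mem _).mpr hjP)) fun e => hkI (e.symm.le hkP)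
  have a0 := Ideal.height_strict_mono_of_isPrime_of_isPrime h0
  have a1 := Ideal.height_strict_mono_of_isPrime_of_isPrime h1
  have a2 := Ideal.height_strict_mono_of_isPrime_of_isPrime h2
  have b0 : (1 : ℕ∞) ≤ (Ideal.span {f i}).height := Order.one_le_iff_pos.mpr (zero_le.trans_lt a0)
  have b1 : (2 : ℕ∞) ≤ I.height := by
    rw [← one_add_one_eq_two]
    exact Order.add_one_le_of_lt (b0.trans_lt a1)
  exact absurd (a2.trans_le hP) (not_lt.mpr b1)

/-- An unmodified parameter is a regular parameter of the Kummer algebra. -/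
theorem not_mem_sq_kummer (n : Fin r → ℕ) (hn : ∀ j, 1 ≤ n j) (i : Fin r) (hi : n i = 1)
    [IsLocalRing (SGA1.kummerAlg A f n)] :
    algebraMap A (SGA1.kummerAlg A f n) (f i) ∉ maximalIdeal (SGA1.kummerAlg A f n) ^ 2 := by
  classical
  let B := SGA1.kummerAlg A f n
  haveI := GrothLib.Kummer21.finite_alg (f := f) hn
  haveI := GrothLib.Kummer21.isIntegral_alg (f := f) hn
  have hinj := GrothLib.Kummer21.injective_algebraMap (f := f) hn
  haveI : IsNoetherianRing B := IsNoetherianRing.of_finite A B
  obtain ⟨s, hcard, hs⟩ := GrothLib.Kummer21.exists_complement hm hf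
  intro hx
  rw [← GrothLib.Kummer21.root_pow f n i, hi, pow_one] at hx
  let T : Finset B := (Finset.univ.erase i).image (GrothLib.Kummer21.root f n) ∪ s.image (algebraMap A B)
  have hmax : maximalIdeal B = Ideal.span (T : Set B) := by
    refine GrothLib.RegLoc.eq_maximalIdeal_of_sup_sq ?_ ?_ |>.symm
    · rw [Ideal.span_le]
      intro b hb
      rw [GrothLib.Kummer21.maximal_eq_span hm hn hs (maximalIdeal B) inferInstance]
      refine Ideal.subset_span ?_
      simp only [T, Finset.coe_union, Finset.coe_image] at hb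
      rcases hb with ⟨j, -, rfl⟩ | hb
      · exact Or.inl ⟨j, rfl⟩
      · exact Or.inr hb
    · refine (GrothLib.Kummer21.maximal_eq_span hm hn hs (maximalIdeal B) inferInstance).le.trans
        (Ideal.span_le.mpr ?_)
      rintro _ (⟨j, rfl⟩ | ⟨a, ha, rfl⟩)
      · by_cases hj : j = i
        · subst hj; exact Ideal.mem_sup_right hx
        · exact Ideal.mem_sup_left (Ideal.subset_span (Finset.mem_union_left _
            (Finset.mem_image_of_mem _ (Finset.mem_erase.mpr ⟨hj, Finset.mem_univ j⟩))))
      · exact Ideal.mem_sup_left (Ideal.subset_span (Finset.mem_union_right _ (Finset.mem_image_of_mem _ ha)))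
  have h1 : (maximalIdeal B).spanFinrank ≤ T.card := by
    rw [hmax]
    exact (Submodule.spanFinrank_span_le_ncard_of_finite T.finite_toSet).trans (Set.ncard_coe_finset T).le
  haveI := GrothLib.Kummer21.isRegularLocalRing_alg hm hf hn
  have h2 := IsRegularLocalRing.spanFinrank_maximalIdeal (R := B)
  rw [GrothLib.Dim.ringKrullDim_eq_of_isIntegral hinj, ← (IsRegularLocalRing.iff_finrank_cotangentSpace A).1 ‹_›,
    ← hcard] at h2
  have h2' : (maximalIdeal B).spanFinrank = s.card + r := by exact_mod_cast h2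
  have h3 : T.card ≤ (r - 1) + s.card := by
    refine (Finset.card_union_le _ _).trans (Nat.add_le_add ?_ Finset.card_image_le)
    refine Finset.card_image_le.trans ?_
    rw [Finset.card_erase_of_mem (Finset.mem_univ i), Finset.card_univ, Fintype.card_fin]
  have := i.pos
  omega

end GrothLib.TameAbh21
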