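import Groth.Agent.Lib.TameAbh21.CharZeroTame
import Groth.Agent.Lib.TameAbh21.Absolute

/-!
Removing a root of degree the residue characteristic.
-/

set_option autoImplicit false
set_option linter.style.haveILetI false
set_option linter.unusedSectionVars false

universe u

open IsLocalRing TensorProduct

namespace GrothLib.TameAbh21

theorem not_mem_sq_of_regular_quotient {A : Type u} [CommRing A] [IsRegularLocalRing A] [IsDomain A] {f : A}
    (hf0 : f ≠ 0) (hfm : f ∈ maximalIdeal A) (hreg : IsRegularLocalRing (A ⧸ Ideal.span {f})) :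
    f ∉ maximalIdeal A ^ 2 := by
  intro h2
  haveI := hreg
  obtain ⟨d, hd, hspan⟩ : ∃ d : ℕ, ringKrullDim (A ⧸ Ideal.span {f}) = d ∧
      (maximalIdeal (A ⧸ Ideal.span {f})).spanFinrank = d :=
    ⟨_, (IsRegularLocalRing.spanFinrank_maximalIdeal (R := A ⧸ Ideal.span {f})).symm, rfl⟩
  obtain ⟨z, hz⟩ := Submodule.FG.exists_span_set_encard_eq_spanFinrank
    (R := A ⧸ Ideal.span {f}) (p := maximalIdeal (A ⧸ Ideal.span {f})) (IsNoetherian.noetherian _)
  have hzfin : z.Finite := Set.encard_ne_top_iff.mp (by rw [hz.1]; exact ENat.natCast_ne_top _)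
  choose l hl using fun y : A ⧸ Ideal.span {f} => Ideal.Quotient.mk_surjective (I := Ideal.span {f}) y
  let q := Ideal.Quotient.mk (Ideal.span {f})
  have hqm : Ideal.map q (maximalIdeal A) = maximalIdeal (A ⧸ Ideal.span {f}) :=
    GrothLib.RegLoc.map_maximalIdeal_quotient _
  have hc : (maximalIdeal (A ⧸ Ideal.span {f})).comap q = maximalIdeal A := by
    rw [← hqm, Ideal.comap_map_of_surjective _ Ideal.Quotient.mk_surjective, ← RingHom.ker_eq_comap_bot, Ideal.mk_ker,
      sup_eq_left, Ideal.span_singleton_le_iff_mem]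
    exact hfm
  have hm : Ideal.span (l '' z) = maximalIdeal A := by
    refine GrothLib.RegLoc.eq_maximalIdeal_of_sup_sq ?_ ?_
    · rw [Ideal.span_le]
      rintro _ ⟨y, hy : y ∈ z, rfl⟩
      rw [← hc]
      show q (l y) ∈ maximalIdeal (A ⧸ Ideal.span {f})
      rw [hl, ← hz.2]
      exact Ideal.subset_span hy
    · intro x hx
      have h1 : q x ∈ Ideal.map q (Ideal.span (l '' z)) := by
        rw [Ideal.map_span, ← Set.image_comp, show (q ∘ l) '' z = z from (Set.image_congr fun y _ => hl y).trans (Set.image_id z)]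
        rw [← hc] at hx
        rw [← hz.2] at hx
        exact hx
      rw [← Ideal.mem_comap, Ideal.comap_map_of_surjective _ Ideal.Quotient.mk_surjective, ← RingHom.ker_eq_comap_bot,
        Ideal.mk_ker] at h1
      exact (sup_le_sup le_rfl ((Ideal.span_singleton_le_iff_mem _).mpr h2)) h1
  have h3 : (maximalIdeal A).spanFinrank ≤ d := by
    rw [← hm]
    refine (Submodule.spanFinrank_span_le_ncard_of_finite (hzfin.image l)).trans ?_
    refine (Set.ncard_image_le hzfin).trans ?_
    rw [Set.ncard_def, hz.1, hspan]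
    simp
  have h4 := ringKrullDim_quotient_succ_le_of_nonZeroDivisor (R := A) (mem_nonZeroDivisors_of_ne_zero hf0)
  rw [← IsRegularLocalRing.spanFinrank_maximalIdeal (R := A), hd] at h4
  have h5 : d + 1 ≤ (maximalIdeal A).spanFinrank := by exact_mod_cast h4
  omega

/-- A root of degree `p` is not in a root extension of degree prime to `p`. -/
theorem no_pth_root {A D L : Type u} [CommRing A] [IsDomain A] [CommRing D] [IsDomain D] [IsIntegrallyClosed D]
    [Algebra A D] {x : D} (hx : Prime x) {n p : ℕ} {f : A} (hpow : x ^ n = algebraMap A D f) (hp : 1 ≤ p)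
    [Field L] [Algebra A L] (hinjL : Function.Injective (algebraMap A L)) (β : D →ₐ[A] L) (hβ : Function.Injective β)
    {c : A} (hc : c ≠ 0) {a : D} {z : L} (hz : z ^ p = algebraMap A L f) (hza : z * algebraMap A L c = β a) :
    ∃ k, n = k * p := by
  have h1 : a ^ p = x ^ n * algebraMap A D c ^ p := hβ (by
    rw [map_pow, ← hza, mul_pow, hz, map_mul, hpow, β.commutes, map_pow, β.commutes])
  obtain ⟨d, rfl⟩ := (IsIntegrallyClosed.pow_dvd_pow_iff (Nat.one_le_iff_ne_zero.mp hp)).mp
    (⟨x ^ n, by rw [h1, mul_comm]⟩ : algebraMap A D c ^ p ∣ a ^ p)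
  have hc0 : algebraMap A D c ≠ 0 := fun h => hc (hinjL (by rw [← β.commutes, h, map_zero, map_zero]))
  have h2 : d ^ p = x ^ n := mul_left_cancel₀ (pow_ne_zero p hc0) (by rw [← mul_pow, h1, mul_comm])
  obtain ⟨k, -, hk⟩ := (dvd_prime_pow hx n).mp (h2 ▸ dvd_pow_self d (Nat.one_le_iff_ne_zero.mp hp))
  have h3 : Associated (x ^ n) (x ^ (k * p)) := by
    rw [← h2, pow_mul]; exact hk.pow_pow
  exact ⟨k, le_antisymm ((pow_dvd_pow_iff hx.ne_zero hx.not_unit).mp h3.dvd)
    ((pow_dvd_pow_iff hx.ne_zero hx.not_unit).mp h3.symm.dvd)⟩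

/-- Tameness is automatic when the divisor has residue characteristic zero. -/
theorem isTameAlong_of_charZero {A C : Type u} [CommRing A] [IsRegularLocalRing A] [IsDomain A] [CommRing C]
    [Algebra A C] [Algebra.Etale A C] {r : ℕ} {f : Fin r → A} [∀ i, (Ideal.span {f i}).IsPrime] (hf0 : ∀ i, f i ≠ 0)
    {p : ℕ} (hp : p.Prime) (hpm : (p : A) ∈ maximalIdeal A) (hpf : ∀ i, (p : A) ∉ Ideal.span {f i}) :
    SGA1.IsTameAlong f (algebraMap A C) := by
  haveI := GrothLib.RegUFD.ufd_of_isRegularLocalRing A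
  intro i q _ hq
  let K := FractionRing A
  have hinjκ : Function.Injective (algebraMap A q.ResidueField) := by
    rw [injective_iff_map_eq_zero]
    intro a ha
    rw [IsScalarTower.algebraMap_apply A C q.ResidueField, Ideal.algebraMap_residueField_eq_zero] at ha
    have : a ∈ Ideal.comap (algebraMap A C) q := ha
    rwa [hq, Ideal.mem_bot] at this
  letI : Algebra K q.ResidueField := (IsFractionRing.lift hinjκ).toAlgebra
  haveI : IsScalarTower A K q.ResidueField :=
    IsScalarTower.of_algebraMap_eq fun a => (IsFractionRing.lift_algebraMap _ a).symm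
  obtain ⟨hκf, hκs⟩ := fibre_finite (A := A) K q
  haveI := hκf
  haveI := hκs
  letI := fracAlgebra K (Ideal.span {f i})
  haveI : IsScalarTower A (Localization.AtPrime (Ideal.span {f i})) K :=
    IsScalarTower.of_algebraMap_eq fun a => (IsLocalization.lift_eq _ a).symm
  haveI : IsFractionRing (Localization.AtPrime (Ideal.span {f i})) K :=
    IsFractionRing.isFractionRing_of_isLocalization (Ideal.span {f i}).primeCompl _ K
      (Ideal.span {f i}).primeCompl_le_nonZeroDivisors
  haveI : IsDiscreteValuationRing (Localization.AtPrime (Ideal.span {f i})) := isDVR_atPrime_span (hf0 i)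
  haveI : CharZero (ResidueField (Localization.AtPrime (Ideal.span {f i}))) :=
    charZero_of_inj_zero fun k hk => by
      by_contra hk0
      have h1 := (isUnit_natCast_atPrime hp hpm (Ideal.span {f i}) (hpf i) hk0).map
        (residue (Localization.AtPrime (Ideal.span {f i})))
      rw [map_natCast, hk] at h1
      exact h1.ne_zero rfl
  rw [genericResidueMap_eq K (Ideal.span {f i}) q hq]
  exact isTamelyRamified_of_charZero

set_option maxHeartbeats 800000 in
/-- A cover of the complement of a divisor split by root extensions of coprime degrees `n` and `p` extends. -/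
theorem exists_extension_of_two_roots {A : Type u} [CommRing A] [IsRegularLocalRing A] [IsDomain A]
    [IsIntegrallyClosed A] {f : A} (hf : Prime f)
    {B : Type u} [CommRing B] [Algebra A B] [Algebra.Etale A B] (hu : IsUnit (algebraMap A B f))
    (hint : ∀ b : B, ∃ k : ℕ, IsIntegral A (f ^ k • b))
    {p n : ℕ} (hp : p.Prime) (hn : 1 ≤ n) (hpn : ¬ p ∣ n)
    {R : Type u} [CommRing R] [IsDomain R] [HenselianLocalRing R] [IsSepClosed (ResidueField R)] [Algebra A R]
    [Module.Finite A R] (hinjR : Function.Injective (algebraMap A R)) {y : R} (hy : y ^ p = algebraMap A R f)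
    (hadjy : Algebra.adjoin A {y} = ⊤)
    (liftR : ∀ (L : Type u) [Field L] [Algebra A L] (z : L), z ^ p = algebraMap A L f → ∃ α : R →ₐ[A] L, α y = z)
    {E₁ : Type u} [CommRing E₁] [Algebra R E₁] [Module.Finite R E₁] [Algebra.Etale R E₁]
    (ρ₁ : E₁ →ₐ[R] R ⊗[A] B)
    (hρ₁ : @IsLocalization.Away E₁ _ (algebraMap R E₁ (algebraMap A R f)) (R ⊗[A] B) _ ρ₁.toRingHom.toAlgebra)
    {D : Type u} [CommRing D] [IsDomain D] [IsIntegrallyClosed D] [HenselianLocalRing D] [IsSepClosed (ResidueField D)]
    [Algebra A D] [Module.Finite A D] (hinjD : Function.Injective (algebraMap A D))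
    {x : D} (hxp : Prime x) (hx : x ^ n = algebraMap A D f) (hadjx : Algebra.adjoin A {x} = ⊤)
    (liftD : ∀ (L : Type u) [Field L] [Algebra A L] (z : L), z ^ n = algebraMap A L f → ∃ β : D →ₐ[A] L, β x = z)
    {E₂ : Type u} [CommRing E₂] [Algebra D E₂] [Module.Finite D E₂] [Algebra.Etale D E₂]
    (ρ₂ : E₂ →ₐ[D] D ⊗[A] B)
    (hρ₂ : @IsLocalization.Away E₂ _ (algebraMap D E₂ (algebraMap A D f)) (D ⊗[A] B) _ ρ₂.toRingHom.toAlgebra) :
    ∃ (E : Type u) (_ : CommRing E) (_ : Algebra A E), Module.Finite A E ∧ Algebra.Etale A E ∧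
      ∃ ρ : E →ₐ[A] B, @IsLocalization.Away E _ (algebraMap A E f) B _ ρ.toRingHom.toAlgebra := by
  let K := FractionRing A
  refine exists_extension (T := B) f hu hint K fun M _ _ _ _ _ _ χ hgen Q _ _ => ?_
  let Ω := AlgebraicClosure K
  let j : M →ₐ[K] Ω := IsAlgClosed.lift
  have hinjΩ : Function.Injective (algebraMap A Ω) := by
    rw [IsScalarTower.algebraMap_eq A K Ω]; exact (algebraMap K Ω).injective.comp (IsFractionRing.injective A K)
  obtain ⟨z, hz⟩ := IsAlgClosed.exists_pow_nat_eq (algebraMap A Ω f) hp.pos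
  obtain ⟨w, hw⟩ := IsAlgClosed.exists_pow_nat_eq (algebraMap A Ω f) (show 0 < n from hn)
  obtain ⟨α, hα⟩ := liftR Ω z hz
  obtain ⟨β, hβ⟩ := liftD Ω w hw
  haveI : Algebra.IsIntegral A D := Algebra.IsIntegral.of_finite A D
  have hβinj : Function.Injective β := injective_of_algHom hinjΩ β
  let Fz := IntermediateField.adjoin K ({z} : Set Ω)
  let Fw := IntermediateField.adjoin K ({w} : Set Ω)
  have himgR : ∀ a : R, α a ∈ Fz := fun a => by
    have ha : a ∈ Algebra.adjoin A {y} := hadjy ▸ Algebra.mem_top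
    induction ha using Algebra.adjoin_induction with
    | mem t ht => rw [Set.mem_singleton_iff] at ht; rw [ht, hα]; exact IntermediateField.mem_adjoin_simple_self K z
    | algebraMap c => rw [α.commutes, IsScalarTower.algebraMap_apply A K Ω]; exact Fz.algebraMap_mem _
    | add a b _ _ ha hb => rw [map_add]; exact add_mem ha hb
    | mul a b _ _ ha hb => rw [map_mul]; exact mul_mem ha hb
  have himgD : ∀ a : D, β a ∈ Fw := fun a => by
    have ha : a ∈ Algebra.adjoin A {x} := hadjx ▸ Algebra.mem_top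
    induction ha using Algebra.adjoin_induction with
    | mem t ht => rw [Set.mem_singleton_iff] at ht; rw [ht, hβ]; exact IntermediateField.mem_adjoin_simple_self K w
    | algebraMap c => rw [β.commutes, IsScalarTower.algebraMap_apply A K Ω]; exact Fw.algebraMap_mem _
    | add a b _ _ ha hb => rw [map_add]; exact add_mem ha hb
    | mul a b _ _ ha hb => rw [map_mul]; exact mul_mem ha hb
  let χ' : B →ₐ[A] Ω := (j.restrictScalars A).comp χ
  have hmem : ∀ b : B, χ' b ∈ Fz ⊓ Fw := fun b => by
    refine ⟨?_, ?_⟩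
    · letI : Algebra R Ω := α.toRingHom.toAlgebra
      haveI : IsScalarTower A R Ω := IsScalarTower.of_algebraMap_eq fun c => (α.commutes c).symm
      obtain ⟨a, k, hak⟩ := exists_div_of_split ρ₁ hρ₁ χ' b
      have hne : algebraMap R Ω (algebraMap A R f) ≠ 0 := by
        rw [← IsScalarTower.algebraMap_apply]; exact (map_ne_zero_iff _ hinjΩ).mpr hf.ne_zero
      have he : χ' b = α a / α (algebraMap A R f) ^ k := (eq_div_iff (pow_ne_zero k hne)).mpr hak
      rw [he]
      exact div_mem (himgR a) (pow_mem (himgR _) k)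
    · letI : Algebra D Ω := β.toRingHom.toAlgebra
      haveI : IsScalarTower A D Ω := IsScalarTower.of_algebraMap_eq fun c => (β.commutes c).symm
      obtain ⟨a, k, hak⟩ := exists_div_of_split ρ₂ hρ₂ χ' b
      have hne : algebraMap D Ω (algebraMap A D f) ≠ 0 := by
        rw [← IsScalarTower.algebraMap_apply]; exact (map_ne_zero_iff _ hinjΩ).mpr hf.ne_zero
      have he : χ' b = β a / β (algebraMap A D f) ^ k := (eq_div_iff (pow_ne_zero k hne)).mpr hak
      rw [he]
      exact div_mem (himgD a) (pow_mem (himgD _) k)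
  -- `Fz ⊓ Fw` is trivial
  have hirr : Irreducible (Polynomial.X ^ p - Polynomial.C (algebraMap A K f)) := by
    refine X_pow_sub_C_irreducible_of_prime hp fun b hb => ?_
    obtain ⟨b, rfl⟩ : ∃ b' : A, algebraMap A K b' = b :=
      IsIntegrallyClosed.isIntegral_iff.mp (IsIntegral.of_pow hp.pos (hb ▸ isIntegral_algebraMap))
    rw [← map_pow] at hb
    have hbf : b * b ^ (p - 1) = f := by
      rw [← pow_succ', Nat.sub_add_cancel hp.one_le]; exact IsFractionRing.injective A K hb
    have hbu : IsUnit b := (hf.irreducible.isUnit_or_isUnit hbf.symm).elim id fun h =>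
      (isUnit_pow_iff (by have := hp.two_le; omega)).mp h
    exact hf.not_unit (hbf ▸ hbu.mul (hbu.pow _))
  have hint' : IsIntegral K z := IsIntegral.of_pow hp.pos (by
    rw [hz, IsScalarTower.algebraMap_apply A K Ω]; exact isIntegral_algebraMap)
  have hdeg : Module.finrank K Fz = p := by
    rw [IntermediateField.adjoin.finrank hint', ← minpoly.eq_of_irreducible_of_monic hirr
      (by rw [map_sub, map_pow, Polynomial.aeval_X, Polynomial.aeval_C, hz, ← IsScalarTower.algebraMap_apply, sub_self])
      (Polynomial.monic_X_pow_sub_C _ hp.ne_zero)]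
    exact Polynomial.natDegree_X_pow_sub_C
  haveI : FiniteDimensional K Fz := IntermediateField.adjoin.finiteDimensional hint'
  have hbot : Fz ⊓ Fw = ⊥ := by
    have hdvd : Module.finrank K ↥(Fz ⊓ Fw : IntermediateField K Ω) ∣ p :=
      hdeg ▸ IntermediateField.finrank_dvd_of_le_right inf_le_left
    rcases hp.eq_one_or_self_of_dvd _ hdvd with h1 | hp'
    · exact IntermediateField.finrank_eq_one_iff.mp h1
    exfalso
    have heq : Fz ⊓ Fw = Fz := IntermediateField.eq_of_le_of_finrank_eq inf_le_left (hp'.trans hdeg.symm)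
    have hzw : z ∈ Fw := (show Fz ⊓ Fw ≤ Fw from inf_le_right) (heq.ge (IntermediateField.mem_adjoin_simple_self K z))
    have hw' : IsAlgebraic K w := (IsAlgClosure.isAlgebraic (R := K) (K := Ω)).isAlgebraic w
    have hzA : z ∈ Algebra.adjoin K ({w} : Set Ω) := by
      rw [← IntermediateField.adjoin_simple_toSubalgebra_of_isAlgebraic hw']; exact hzw
    have key : ∀ t ∈ Algebra.adjoin K ({w} : Set Ω), ∃ (c : A) (a : D), c ≠ 0 ∧ t * algebraMap A Ω c = β a := by
      intro t ht
      induction ht using Algebra.adjoin_induction with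
      | mem t ht => rw [Set.mem_singleton_iff] at ht; exact ⟨1, x, one_ne_zero, by rw [ht, map_one, mul_one, hβ]⟩
      | algebraMap c =>
        obtain ⟨a, b, hb, rfl⟩ := IsFractionRing.div_surjective A c
        refine ⟨b, algebraMap A D a, nonZeroDivisors.ne_zero hb, ?_⟩
        rw [β.commutes, IsScalarTower.algebraMap_apply A K Ω, IsScalarTower.algebraMap_apply A K Ω, ← map_mul,
          div_mul_cancel₀ _ ((map_ne_zero_iff _ (IsFractionRing.injective A K)).mpr (nonZeroDivisors.ne_zero hb))]
      | add t₁ t₂ _ _ h1 h2 =>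
        obtain ⟨c₁, a₁, hc₁, e₁⟩ := h1
        obtain ⟨c₂, a₂, hc₂, e₂⟩ := h2
        refine ⟨c₁ * c₂, a₁ * algebraMap A D c₂ + a₂ * algebraMap A D c₁, mul_ne_zero hc₁ hc₂, ?_⟩
        rw [map_add, map_mul β, map_mul β, β.commutes, β.commutes, ← e₁, ← e₂, map_mul]; ring
      | mul t₁ t₂ _ _ h1 h2 =>
        obtain ⟨c₁, a₁, hc₁, e₁⟩ := h1
        obtain ⟨c₂, a₂, hc₂, e₂⟩ := h2
        refine ⟨c₁ * c₂, a₁ * a₂, mul_ne_zero hc₁ hc₂, ?_⟩
        rw [map_mul β, ← e₁, ← e₂, map_mul]; ring
    obtain ⟨c, a, hc, hza⟩ := key z hzA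
    obtain ⟨k, hk⟩ := no_pth_root hxp hx hp.one_le hinjΩ β hβinj hc hz hza
    exact hpn ⟨k, by rw [hk, mul_comm]⟩
  -- hence `M` is the fraction field
  have hMtop : (⊥ : IntermediateField K M) = ⊤ := by
    rw [eq_top_iff, ← hgen, IntermediateField.adjoin_le_iff]
    rintro _ ⟨b, rfl⟩
    obtain ⟨c, hc⟩ := IntermediateField.mem_bot.mp (hbot ▸ hmem b)
    exact IntermediateField.mem_bot.mpr ⟨c, j.injective ((j.commutes c).trans hc)⟩
  have hsurj : Function.Surjective (algebraMap A (integralClosure A M)) := fun t => by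
    obtain ⟨c, hc⟩ := IntermediateField.mem_bot.mp (hMtop ▸ IntermediateField.mem_top : (t : M) ∈ (⊥ : IntermediateField K M))
    have hci : IsIntegral A c := by
      have h1 : IsIntegral A (algebraMap K M c) := hc ▸ t.2
      exact (isIntegral_algebraMap_iff (algebraMap K M).injective).mp h1
    obtain ⟨a, rfl⟩ := IsIntegrallyClosed.isIntegral_iff.mp hci
    exact ⟨a, Subtype.ext ((IsScalarTower.algebraMap_apply A K M a).trans hc)⟩
  haveI : Algebra.FormallyUnramified A (integralClosure A M) :=
    Algebra.FormallyUnramified.of_surjective (Algebra.ofId A (integralClosure A M)) hsurj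
  haveI : Algebra.FormallyUnramified (integralClosure A M) (Localization.AtPrime Q) :=
    Algebra.FormallyUnramified.of_isLocalization Q.primeCompl
  exact Algebra.FormallyUnramified.comp A (integralClosure A M) (Localization.AtPrime Q)

end GrothLib.TameAbh21
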