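import Groth.Agent.Lib.TameAbh21.RootPrime
import Groth.Agent.Lib.TameAbh21.Dominate
import Groth.Agent.Lib.WLocal.FiniteExt
import Groth.Agent.Lib.Purity.Normal
import Groth.Agent.Lib.Kummer21.Basic
import Mathlib.RingTheory.Unramified.LocalRing
import Mathlib.RingTheory.Unramified.Locus

/-!
Regular connected tame covers of strictly local schemes are Kummer coverings.
-/

set_option autoImplicit false
set_option linter.style.haveILetI false
set_option linter.unusedSectionVars false

universe u

open IsLocalRing TensorProduct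

namespace GrothLib.TameAbh21

/-- Roots of units in a strictly henselian ring. -/
theorem exists_root_strict {R : Type u} [CommRing R] [HenselianLocalRing R] [IsSepClosed (ResidueField R)]
    {e : ℕ} (he : IsUnit ((e : ℕ) : R)) {v : R} (hv : IsUnit v) : ∃ w : R, w ^ e = v := by
  have he0 : e ≠ 0 := fun h => by
    rw [h, Nat.cast_zero, isUnit_zero_iff] at he
    exact zero_ne_one he
  haveI : NeZero ((e : ℕ) : ResidueField R) := ⟨by simpa using (he.map (residue R)).ne_zero⟩
  obtain ⟨z, hz⟩ := IsSepClosed.exists_pow_nat_eq (residue R v) e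
  obtain ⟨a, rfl⟩ := residue_surjective z
  obtain ⟨w, hw, -⟩ := HenselianLocalRing.is_henselian (Polynomial.X ^ e - Polynomial.C v)
    (Polynomial.monic_X_pow_sub_C v he0) a (by
      rw [← residue_eq_zero_iff, Polynomial.eval_sub, Polynomial.eval_pow, Polynomial.eval_X, Polynomial.eval_C,
        map_sub, map_pow, hz, sub_self]) (by
      rw [Polynomial.derivative_sub, Polynomial.derivative_X_pow, Polynomial.derivative_C, sub_zero,
        Polynomial.eval_mul, Polynomial.eval_C, Polynomial.eval_pow, Polynomial.eval_X]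
      refine he.mul (IsUnit.pow _ ?_)
      refine isUnit_of_map_unit (residue R) a (isUnit_iff_ne_zero.mpr fun h0 => ?_)
      rw [h0, zero_pow he0] at hz
      exact (hv.map (residue R)).ne_zero hz.symm)
  refine ⟨w, sub_eq_zero.mp ?_⟩
  simpa [Polynomial.IsRoot] using hw

/-- A local domain finite and unramified in codimension one over a strictly henselian regular ring is trivial. -/
theorem bijective_of_unramified {R B : Type u} [CommRing R] [IsRegularLocalRing R] [HenselianLocalRing R]
    [IsSepClosed (ResidueField R)] [CommRing B] [IsDomain B] [IsIntegrallyClosed B] [Algebra R B]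
    [Module.Finite R B] (hinj : Function.Injective (algebraMap R B))
    (hur : ∀ (Q : Ideal B) [Q.IsPrime], Q.height ≤ 1 → Algebra.IsUnramifiedAt R Q) :
    Function.Bijective (algebraMap R B) := by
  haveI := GrothLib.CMFree.isDomain_of_isRegularLocalRing R
  haveI : FaithfulSMul R B := (faithfulSMul_iff_algebraMap_injective _ _).mpr hinj
  haveI : IsRegularLocalRing R := ‹_›
  obtain ⟨d, hd, -⟩ := GrothLib.RegLoc.exists_dim_eq (R := R)
  haveI : Algebra.Etale R B := GrothLib.Purity.purity_of_finite_normal d R hd.le B hur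
  obtain ⟨s⟩ := exists_algHom_of_strict (B := R) B
  haveI : Algebra.IsIntegral R B := Algebra.IsIntegral.of_finite R B
  haveI : (RingHom.ker s.toRingHom).IsPrime := RingHom.ker_isPrime _
  have hker : RingHom.ker s.toRingHom = ⊥ := by
    refine Ideal.eq_bot_of_comap_eq_bot (R := R) (le_bot_iff.mp fun b hb => ?_)
    rw [Ideal.mem_comap, RingHom.mem_ker] at hb
    simpa using hb
  have hs : Function.Injective s := (RingHom.injective_iff_ker_eq_bot s.toRingHom).mpr hker
  exact ⟨hinj, fun b => ⟨s b, hs (by rw [AlgHom.commutes]; rfl)⟩⟩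

variable {A : Type u} [CommRing A] [IsDomain A] {r : ℕ} {f : Fin r → A}
  {B : Type u} [CommRing B] [IsDomain B] [UniqueFactorizationMonoid B] [Algebra A B] [Module.Finite A B]
  {D : Type u} [CommRing D] [IsDomain D] [Algebra A D] [Module.Finite A D]

/-- The prime of the cover over one parameter and its exponent. -/
theorem exists_parameter [HenselianLocalRing B] [IsSepClosed (ResidueField B)] [IsNoetherianRing B]
    (ν : B →ₐ[A] D) (hν : Function.Injective ν) {a : A} (ha : algebraMap A B a ≠ 0) {n : ℕ}
    (hnu : IsUnit ((n : ℕ) : B)) {x : D} (hx : Prime x) (hpow : x ^ n = algebraMap A D a) :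
    ∃ (e : ℕ) (g : B), 1 ≤ e ∧ IsUnit ((e : ℕ) : B) ∧ g ^ e = algebraMap A B a ∧
      (Ideal.span {x}).comap ν.toRingHom = Ideal.span {g} ∧
      ∀ (Q : Ideal B) [Q.IsPrime], Q.height ≤ 1 → algebraMap A B a ∈ Q → Q = Ideal.span {g} := by
  letI : Algebra B D := ν.toRingHom.toAlgebra
  haveI : IsScalarTower A B D := IsScalarTower.of_algebraMap_eq fun a => (ν.commutes a).symm
  haveI : Algebra.IsIntegral B D := Algebra.IsIntegral.tower_top (R := A)
  haveI : (Ideal.span {x}).IsPrime := (Ideal.span_singleton_prime hx.ne_zero).mpr hx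
  let Q₀ := (Ideal.span {x}).comap ν.toRingHom
  have hn0 : n ≠ 0 := fun h => by
    rw [h, Nat.cast_zero, isUnit_zero_iff] at hnu
    exact zero_ne_one hnu
  have haQ : algebraMap A B a ∈ Q₀ := by
    show ν (algebraMap A B a) ∈ Ideal.span {x}
    rw [ν.commutes, ← hpow]
    exact Ideal.pow_mem_of_mem _ (Ideal.mem_span_singleton_self x) _ (Nat.pos_of_ne_zero hn0)
  have hQ₀ : Q₀ ≠ ⊥ := fun h => ha (by rw [h, Ideal.mem_bot] at haQ; exact haQ)
  obtain ⟨g, hg, hgp⟩ := Ideal.IsPrime.exists_mem_prime_of_ne_bot (I := Q₀) inferInstance hQ₀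
  -- any prime dividing `a` generates a prime above which lies `x`
  have key : ∀ h : B, Prime h → h ∣ algebraMap A B a → Q₀ ≤ Ideal.span {h} := by
    intro h hh hdvd
    haveI : (Ideal.span {h}).IsPrime := (Ideal.span_singleton_prime hh.ne_zero).mpr hh
    obtain ⟨Q', -, hQ', hQ'c⟩ := Ideal.exists_ideal_over_prime_of_isIntegral (S := D) (Ideal.span {h}) (⊥ : Ideal D)
      (by rw [← RingHom.ker_eq_comap_bot, (RingHom.injective_iff_ker_eq_bot (algebraMap B D)).mp hν]; exact bot_le)
    haveI := hQ'
    have h1 : x ∈ Q' := hQ'.mem_of_pow_mem n (by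
      rw [hpow, ← ν.commutes]
      have : algebraMap A B a ∈ Q'.comap (algebraMap B D) := by rw [hQ'c]; exact Ideal.mem_span_singleton.mpr hdvd
      exact this)
    intro b hb
    rw [← hQ'c]
    exact (Ideal.span_singleton_le_iff_mem Q').mpr h1 hb
  have hassoc : ∀ h : B, Prime h → h ∣ algebraMap A B a → Associated h g := fun h hh hd =>
    hh.associated_of_dvd hgp (Ideal.mem_span_singleton.mp (key h hh hd hg))
  obtain ⟨e, v, hv, hev⟩ := WfDvdMonoid.max_power_factor ha hgp.irreducible
  have hvu : IsUnit v := by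
    by_contra hvu
    obtain ⟨h, hh, hhv⟩ := WfDvdMonoid.exists_irreducible_factor hvu (fun h0 => ha (by rw [hev, h0, mul_zero]))
    have hhp := UniqueFactorizationMonoid.irreducible_iff_prime.mp hh
    exact hv ((hassoc h hhp (hev ▸ hhv.mul_left _)).symm.dvd.trans hhv)
  have hgx : ν g ∣ x ^ n ∨ e = 0 := by
    rcases Nat.eq_zero_or_pos e with h | h
    · exact Or.inr h
    · refine Or.inl ?_
      rw [hpow, ← ν.commutes, hev, map_mul, map_pow]
      exact (dvd_pow_self _ h.ne').mul_right _
  have hee : e ≠ 0 := fun h => by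
    rw [h, pow_zero, one_mul] at hev
    have : IsUnit (x ^ n) := by rw [hpow, ← ν.commutes, hev]; exact hvu.map ν
    exact hx.not_unit ((isUnit_pow_iff hn0).mp this)
  obtain ⟨k, -, hk⟩ := (dvd_prime_pow hx n).mp (hgx.resolve_right hee)
  have hne : n = k * e := by
    have h1 : Associated (x ^ n) (x ^ (k * e)) := by
      rw [hpow, ← ν.commutes, hev, map_mul, map_pow, pow_mul]
      exact (associated_mul_unit_left _ _ (hvu.map ν)).trans hk.pow_pow
    exact le_antisymm ((pow_dvd_pow_iff hx.ne_zero hx.not_unit).mp h1.dvd)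
      ((pow_dvd_pow_iff hx.ne_zero hx.not_unit).mp h1.symm.dvd)
  have heu : IsUnit ((e : ℕ) : B) := by
    rw [hne, Nat.cast_mul] at hnu
    exact (IsUnit.mul_iff.mp hnu).2
  obtain ⟨w, hw⟩ := exists_root_strict heu hvu
  have hwu : IsUnit w := (isUnit_pow_iff hee).mp (hw ▸ hvu)
  have hspan : Ideal.span {g * w} = Ideal.span {g} := Ideal.span_singleton_mul_right_unit hwu g
  have hdvdga : g ∣ algebraMap A B a := by rw [hev]; exact (dvd_pow_self g hee).mul_right _
  refine ⟨e, g * w, Nat.pos_of_ne_zero hee, heu, by rw [mul_pow, hw, hev], ?_, fun Q _ hQ haQ' => ?_⟩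
  · rw [hspan]
    exact le_antisymm (key g hgp hdvdga) ((Ideal.span_singleton_le_iff_mem _).mpr hg)
  · rw [hspan]
    have hQb : Q ≠ ⊥ := fun h => ha (by rw [h, Ideal.mem_bot] at haQ'; exact haQ')
    rw [hev] at haQ'
    have hgQ : g ∈ Q := (Ideal.IsPrime.mem_or_mem inferInstance haQ').elim
      (fun h => Ideal.IsPrime.mem_of_pow_mem inferInstance e h)
      (fun h => absurd (Q.eq_top_of_isUnit_mem h hvu) (Ideal.IsPrime.ne_top inferInstance))
    haveI : (Ideal.span {g}).IsPrime := (Ideal.span_singleton_prime hgp.ne_zero).mpr hgp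
    refine (((Ideal.span_singleton_le_iff_mem _).mpr hgQ).eq_of_not_lt fun hlt => ?_).symm
    have a1 := Ideal.height_strict_mono_of_isPrime_of_isPrime hlt
    have a0 := Ideal.height_strict_mono_of_isPrime_of_isPrime (I := (⊥ : Ideal B)) (J := Ideal.span {g})
      (bot_lt_iff_ne_bot.mpr (by rw [Ne, Ideal.span_singleton_eq_bot]; exact hgp.ne_zero))
    exact absurd (a1.trans_le hQ) (not_lt.mpr (Order.one_le_iff_pos.mpr (zero_le.trans_lt a0)))

/-- Unramifiedness over the Kummer algebra at the prime over a parameter. -/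
theorem isUnramifiedAt_parameter {R : Type u} [CommRing R] [Algebra A R] [Algebra R B] [IsScalarTower A R B]
    [Module.Finite R B] (ν : B →ₐ[A] D)
    {n : Fin r → ℕ} (hn : ∀ j, IsUnit ((n j : ℕ) : A)) (x : Fin r → D)
    (hpow : ∀ j, x j ^ n j = algebraMap A D (f j)) (hadj : Algebra.adjoin A (Set.range x) = ⊤)
    {x₀ : D} [(Ideal.span {x₀}).IsPrime] {g : B} (Q : Ideal B) [Q.IsPrime] (hQ : Q = Ideal.span {g})
    (hQx : (Ideal.span {x₀}).comap ν.toRingHom = Ideal.span {g})
    {y : R} (hy : algebraMap R B y = g) :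
    Algebra.IsUnramifiedAt R Q := by
  let p := Q.under R
  haveI : p.IsPrime := Ideal.IsPrime.under R Q
  haveI : Q.LiesOver p := ⟨rfl⟩
  letI := Localization.AtPrime.algebraOfLiesOver p Q
  haveI : Algebra.EssFiniteType R B := inferInstance
  rw [Algebra.isUnramifiedAt_iff_map_eq (p := p) (q := Q)]
  refine ⟨?_, ?_⟩
  · let Q' : Ideal D := Ideal.span {x₀}
    have hQQ' : Q = Q'.comap ν.toRingHom := hQ.trans hQx.symm
    let ι : Q.ResidueField →+* Q'.ResidueField := Ideal.ResidueField.map Q Q' ν.toRingHom hQQ'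
    letI : Algebra Q.ResidueField Q'.ResidueField := ι.toAlgebra
    letI : Algebra p.ResidueField Q'.ResidueField := (ι.comp (algebraMap p.ResidueField Q.ResidueField)).toAlgebra
    haveI : IsScalarTower p.ResidueField Q.ResidueField Q'.ResidueField :=
      IsScalarTower.of_algebraMap_eq fun _ => rfl
    haveI : Algebra.IsSeparable p.ResidueField Q'.ResidueField := by
      refine isSeparable_residue_of_roots ((algebraMap R p.ResidueField).comp (algebraMap A R))
        (algebraMap D Q'.ResidueField) (fun a => ?_) (fun z => ?_) x hadj n (fun j => ?_) (fun j => ⟨f j, hpow j⟩)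
      · show algebraMap D Q'.ResidueField (algebraMap A D a) =
          ι (algebraMap p.ResidueField Q.ResidueField (algebraMap R p.ResidueField (algebraMap A R a)))
        rw [← IsScalarTower.algebraMap_apply R p.ResidueField Q.ResidueField,
          IsScalarTower.algebraMap_apply R B Q.ResidueField, ← IsScalarTower.algebraMap_apply A R B,
          Ideal.ResidueField.map_algebraMap, show ν.toRingHom (algebraMap A B a) = algebraMap A D a from ν.commutes a]
      · obtain ⟨a, b, hb, rfl⟩ := IsFractionRing.div_surjective (D ⧸ Q') z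
        obtain ⟨a, rfl⟩ := Ideal.Quotient.mk_surjective a
        obtain ⟨b, rfl⟩ := Ideal.Quotient.mk_surjective b
        exact ⟨a, b, rfl⟩
      · have h1 := ((hn j).map ((algebraMap R p.ResidueField).comp (algebraMap A R))).ne_zero
        rwa [map_natCast] at h1
    exact Algebra.isSeparable_tower_bot_of_isSeparable p.ResidueField Q.ResidueField Q'.ResidueField
  · rw [← IsLocalization.AtPrime.map_eq_maximalIdeal Q (Localization.AtPrime Q),
      IsScalarTower.algebraMap_eq R B (Localization.AtPrime Q), ← Ideal.map_map]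
    congr 1
    refine le_antisymm Ideal.map_comap_le (hQ.le.trans ((Ideal.span_singleton_le_iff_mem _).mpr ?_))
    rw [← hy]
    refine Ideal.mem_map_of_mem _ ?_
    show algebraMap R B y ∈ Q
    rw [hy, hQ]
    exact Ideal.mem_span_singleton_self g

end GrothLib.TameAbh21

namespace GrothLib.TameAbh21

/-- **Recognition of Kummer coverings.** -/
theorem recognize {A : Type u} [CommRing A] [IsRegularLocalRing A] [IsDomain A] [HenselianLocalRing A]
    [IsSepClosed (ResidueField A)] {r : ℕ} {f : Fin r → A} (hm : ∀ i, f i ∈ maximalIdeal A)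
    (hf : LinearIndependent (ResidueField A) (fun i => (maximalIdeal A).toCotangent ⟨f i, hm i⟩))
    {B : Type u} [CommRing B] [IsDomain B] [Algebra A B] [Module.Finite A B] (hinjB : Function.Injective (algebraMap A B))
    (hreg : ∀ (q : Ideal B) [q.IsPrime], IsRegularLocalRing (Localization.AtPrime q))
    (hur : ∀ (Q : Ideal B) [Q.IsPrime], algebraMap A B (∏ i, f i) ∉ Q → Algebra.IsUnramifiedAt A Q)
    {D : Type u} [CommRing D] [IsDomain D] [IsLocalRing D] [Algebra A D] [Module.Finite A D]
    {n : Fin r → ℕ} (hnu : ∀ j, IsUnit ((n j : ℕ) : A)) (x : Fin r → D)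
    (hpow : ∀ j, x j ^ n j = algebraMap A D (f j)) (hadj : Algebra.adjoin A (Set.range x) = ⊤)
    (hprime : ∀ j, Prime (x j)) (ν : B →ₐ[A] D) (hν : Function.Injective ν) :
    ∃ e : Fin r → ℕ, (∀ i, 1 ≤ e i) ∧ (∀ i, IsUnit ((e i : ℕ) : ResidueField A)) ∧
      Nonempty (B ≃ₐ[A] SGA1.kummerAlg A f e) := by
  classical
  have hf0 := f_ne_zero hm hf
  haveI : IsLocalRing B := by
    letI : Algebra B D := ν.toRingHom.toAlgebra
    haveI : IsScalarTower A B D := IsScalarTower.of_algebraMap_eq fun a => (ν.commutes a).symm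
    haveI : Algebra.IsIntegral A D := Algebra.IsIntegral.of_finite A D
    haveI : Algebra.IsIntegral B D := Algebra.IsIntegral.tower_top (R := A)
    refine IsLocalRing.of_unique_max_ideal ⟨(maximalIdeal D).comap (algebraMap B D),
      Ideal.isMaximal_comap_of_isIntegral_of_isMaximal (R := B) (maximalIdeal D), fun M hM => ?_⟩
    obtain ⟨Q', -, hQ', hQ'c⟩ := Ideal.exists_ideal_over_prime_of_isIntegral (S := D) M (⊥ : Ideal D)
      (by rw [← RingHom.ker_eq_comap_bot, (RingHom.injective_iff_ker_eq_bot (algebraMap B D)).mp hν]; exact bot_le)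
    haveI := hQ'
    haveI : (Q'.comap (algebraMap B D)).IsMaximal := hQ'c ▸ hM
    rw [← IsLocalRing.eq_maximalIdeal (Ideal.isMaximal_of_isIntegral_of_isMaximal_comap (R := B) Q' ‹_›)]
    exact hQ'c.symm
  haveI : IsRegularLocalRing B := by
    haveI := hreg (maximalIdeal B)
    exact IsRegularLocalRing.of_ringEquiv (IsLocalization.atUnits B (maximalIdeal B).primeCompl
      (S := Localization.AtPrime (maximalIdeal B)) (fun b hb => by
        exact IsLocalRing.notMem_maximalIdeal.mp hb)).symm.toRingEquiv
  haveI := GrothLib.RegUFD.ufd_of_isRegularLocalRing B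
  obtain ⟨_, _⟩ := GrothLib.WLocal.strictlyHenselian_of_finite A B
  have hex := fun i => exists_parameter (B := B) ν hν (a := f i)
    ((map_ne_zero_iff _ hinjB).mpr (hf0 i)) (n := n i) (by simpa using (hnu i).map (algebraMap A B))
    (hprime i) (hpow i)
  choose e g he heu hge hgc hgQ using hex
  have heA : ∀ i, IsUnit ((e i : ℕ) : A) := fun i => by
    by_contra hcon
    have h1 : ((e i : ℕ) : A) ∈ maximalIdeal A := (IsLocalRing.mem_maximalIdeal _).mpr hcon
    haveI : Algebra.IsIntegral A B := Algebra.IsIntegral.of_finite A B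
    rw [← IsLocalRing.eq_maximalIdeal (Ideal.isMaximal_comap_of_isIntegral_of_isMaximal (R := A) (maximalIdeal B)),
      Ideal.mem_comap, map_natCast] at h1
    exact (IsLocalRing.mem_maximalIdeal _).mp h1 (heu i)
  refine ⟨e, he, fun i => by simpa using (heA i).map (residue A), ?_⟩
  haveI := GrothLib.Kummer21.finite_alg (f := f) he
  suffices key : ∀ (R : Type u) [CommRing R] [Algebra A R] [Module.Finite A R] [IsRegularLocalRing R]
      (y : Fin r → R), (∀ j, y j ^ e j = algebraMap A R (f j)) → Function.Injective (algebraMap A R) →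
      ∀ lam : R →ₐ[A] B, (∀ j, lam (y j) = g j) → Function.Bijective lam by
    haveI := GrothLib.Kummer21.isRegularLocalRing_alg hm hf he
    exact ⟨(AlgEquiv.ofBijective (GrothLib.Kummer21.lift g hge) (key _ (GrothLib.Kummer21.root f e)
      (GrothLib.Kummer21.root_pow f e) (GrothLib.Kummer21.injective_algebraMap (f := f) he) _
      (GrothLib.Kummer21.lift_root g hge))).symm⟩
  intro R _ _ _ _ y hy hinjR lam hlam
  haveI := GrothLib.CMFree.isDomain_of_isRegularLocalRing R
  letI : Algebra R B := lam.toRingHom.toAlgebra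
  haveI : IsScalarTower A R B := IsScalarTower.of_algebraMap_eq fun a => (lam.commutes a).symm
  haveI : Module.Finite R B := Module.Finite.of_restrictScalars_finite A R B
  obtain ⟨_, _⟩ := GrothLib.WLocal.strictlyHenselian_of_finite A R
  have hinj : Function.Injective (algebraMap R B) := by
    haveI : Algebra.IsIntegral A R := Algebra.IsIntegral.of_finite A R
    haveI : (RingHom.ker (algebraMap R B)).IsPrime := RingHom.ker_isPrime _
    refine (RingHom.injective_iff_ker_eq_bot _).mpr (Ideal.eq_bot_of_comap_eq_bot (R := A)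
      (le_bot_iff.mp fun a ha => hinjB ?_))
    rw [Ideal.mem_comap, RingHom.mem_ker, ← IsScalarTower.algebraMap_apply] at ha
    rw [ha, map_zero]
  refine bijective_of_unramified hinj fun Q _ hQ => ?_
  by_cases hP : algebraMap A B (∏ i, f i) ∈ Q
  · rw [map_prod] at hP
    obtain ⟨i, -, hi⟩ := Ideal.IsPrime.prod_mem_iff.mp hP
    haveI : (Ideal.span {x i}).IsPrime := (Ideal.span_singleton_prime (hprime i).ne_zero).mpr (hprime i)
    exact isUnramifiedAt_parameter (R := R) ν hnu x hpow hadj Q (hgQ i Q hQ hi) (hgc i) (y := y i) (hlam i)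
  · haveI := hur Q hP
    exact Algebra.FormallyUnramified.of_restrictScalars A R (Localization.AtPrime Q)

end GrothLib.TameAbh21
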