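import Groth.Agent.Lib.TameAbh21.Absolute
import Groth.Agent.Lib.TameAbh21.Dominate
import Groth.Agent.Lib.WLocal.FiniteExt

/-!
The absolute Abhyankar lemma over a strictly henselian base.
-/

set_option autoImplicit false
set_option linter.style.haveILetI false

universe u

open IsLocalRing TensorProduct

namespace GrothLib.TameAbh21

theorem exists_point_strict {A : Type u} [CommRing A] [HenselianLocalRing A] [IsSepClosed (ResidueField A)]
    {B : Type u} [CommRing B] [Algebra A B] [Module.Finite A B] [IsLocalRing B] [IsDomain B]
    (hinj : Function.Injective (algebraMap A B)) {P : A}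
    (C : Type u) [CommRing C] [Algebra A C] [Nontrivial C] [Algebra.Etale A C]
    (E : Type u) [CommRing E] [Algebra B E] [Module.Finite B E] [Algebra.Etale B E]
    (ρ : E →ₐ[B] B ⊗[A] C)
    (hρ : @IsLocalization.Away E _ (algebraMap B E (algebraMap A B P)) (B ⊗[A] C) _ ρ.toRingHom.toAlgebra) :
    Nonempty (C →ₐ[A] Localization.Away (algebraMap A B P)) := by
  obtain ⟨_, _⟩ := GrothLib.WLocal.strictlyHenselian_of_finite A B
  haveI : Nontrivial (B ⊗[A] C) := by
    refine Function.Injective.nontrivial (f := Algebra.TensorProduct.includeRight (R := A) (A := B) (B := C)) ?_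
    haveI : Module.Flat A C := inferInstance
    exact Algebra.TensorProduct.includeRight_injective (R := A) (A := B) (B := C) hinj
  haveI : Nontrivial E := ρ.toRingHom.domain_nontrivial
  obtain ⟨s⟩ := exists_algHom_of_strict (B := B) E
  exact exists_point C E ρ hρ s

end GrothLib.TameAbh21
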