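import Groth.Prelude.Def_SGA1
import Mathlib.FieldTheory.SeparableClosure
import Mathlib.RingTheory.Etale.Basic
import Mathlib.RingTheory.Localization.BaseChange

/-!
Tame ramification along the parameters after localisation of the cover.
-/

set_option autoImplicit false
set_option linter.style.haveILetI false

universe u

open IsLocalRing TensorProduct

namespace GrothLib.TameAbh21

/-- Tameness is invariant under isomorphisms of the upper field. -/
theorem isTamelyRamified_comp {A : Type u} [CommRing A] [IsLocalRing A] {L L' : Type u} [Field L] [Field L']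
    (g : A →+* L) (e : L ≃+* L') (h : EtRam.IsTamelyRamified A g) :
    EtRam.IsTamelyRamified A (e.toRingHom.comp g) := by
  intro V' hd
  let V : ValuationSubring L := V'.comap e.toRingHom
  let ε : V →+* V' :=
    { toFun := fun x => ⟨e x.1, x.2⟩
      map_one' := Subtype.ext (map_one e)
      map_mul' := fun x y => Subtype.ext (map_mul e x.1 y.1)
      map_zero' := Subtype.ext (map_zero e)
      map_add' := fun x y => Subtype.ext (map_add e x.1 y.1) }
  have hε : Function.Bijective ε :=
    ⟨fun x y hxy => Subtype.ext (e.injective (congrArg Subtype.val hxy)),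
      fun y => ⟨⟨e.symm y.1, show e (e.symm y.1) ∈ V' by rw [e.apply_symm_apply]; exact y.2⟩,
        Subtype.ext (e.apply_symm_apply y.1)⟩⟩
  let E : V ≃+* V' := RingEquiv.ofBijective ε hε
  have hd' : EtRam.Dominates A g V := by
    refine ⟨hd.1, fun a ha => ?_⟩
    by_contra hcon
    have h1 : IsUnit (⟨g a, hd.1 a⟩ : V) :=
      (ValuationSubring.valuation_eq_one_iff V _).mpr (le_antisymm (V.valuation_le_one _) (not_lt.mp hcon))
    have h2 := (ValuationSubring.valuation_eq_one_iff V' _).mp (h1.map ε)
    exact (hd.2 a ha).ne h2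
  letI aV : Algebra A V := (RingHom.codRestrict g V hd'.1).toAlgebra
  letI aV' : Algebra A V' := (RingHom.codRestrict (e.toRingHom.comp g) V' hd.1).toAlgebra
  intro hloc
  let Ea : V ≃ₐ[A] V' := AlgEquiv.ofRingEquiv (f := E) fun a => Subtype.ext rfl
  haveI : IsLocalHom (algebraMap A V) := ⟨fun a ha => by
    have : IsUnit (algebraMap A V' a) := by rw [← Ea.commutes]; exact ha.map Ea
    exact isUnit_of_map_unit (algebraMap A V') a this⟩
  obtain ⟨hs, hp⟩ := h V hd'
  refine ⟨?_, fun p hp1 hp2 hdvd => hp p hp1 hp2 ?_⟩
  · haveI : IsLocalHom E.toRingHom := ⟨fun a ha => by simpa using ha.map E.symm.toRingHom⟩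
    haveI := hs
    exact Algebra.IsSeparable.of_equiv_equiv (RingEquiv.refl _) (ResidueField.mapEquiv E)
      (RingHom.ext fun a => by
        obtain ⟨a, rfl⟩ := residue_surjective a
        show algebraMap (ResidueField A) (ResidueField V') (residue A a) =
          ResidueField.mapEquiv E (algebraMap (ResidueField A) (ResidueField V) (residue A a))
        rfl)
  · have hm : ∀ x : V, ε x ∈ maximalIdeal V' ↔ x ∈ maximalIdeal V := fun x => by
      simp only [mem_maximalIdeal, mem_nonunits_iff]
      exact (MulEquiv.isUnit_map E).not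
    have hmap : (maximalIdeal V).map E.toRingHom = maximalIdeal V' := by
      refine Ideal.ext fun y => ?_
      obtain ⟨x, rfl⟩ := E.surjective y
      rw [show E x ∈ Ideal.map E.toRingHom (maximalIdeal V) ↔ _ from Ideal.mem_map_iff_of_surjective E.toRingHom E.surjective]
      exact ⟨fun ⟨x', hx', hxx⟩ => (hm x).mpr (E.injective hxx ▸ hx'), fun hx => ⟨x, (hm x).mp hx, rfl⟩⟩
    have key : ∀ k : ℕ, (maximalIdeal A).map (algebraMap A V') ≤ maximalIdeal V' ^ k ↔
        (maximalIdeal A).map (algebraMap A V) ≤ maximalIdeal V ^ k := fun k => by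
      rw [show algebraMap A V' = E.toRingHom.comp (algebraMap A V) from rfl, ← Ideal.map_map, ← hmap, ← Ideal.map_pow]
      exact ⟨fun hk x hx => by
        obtain ⟨y, hy, hyx⟩ := (Ideal.mem_map_iff_of_surjective E.toRingHom E.surjective).mp (hk (Ideal.mem_map_of_mem _ hx))
        exact E.injective hyx ▸ hy, fun hk => Ideal.map_mono hk⟩
    rw [Ideal.ramificationIdx'] at hdvd ⊢
    rwa [show {k | (maximalIdeal A).map (algebraMap A V') ≤ maximalIdeal V' ^ k} =
      {k | (maximalIdeal A).map (algebraMap A V) ≤ maximalIdeal V ^ k} from Set.ext key] at hdvd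

/-- Tameness along the parameters passes to a localisation of the cover. -/
theorem isTameAlong_localization {A B C : Type u} [CommRing A] [CommRing B] [CommRing C] [Algebra B C]
    (M : Submonoid B) [IsLocalization M C] {r : ℕ} {f : Fin r → A} [∀ i, (Ideal.span {f i}).IsPrime]
    (φ : A →+* B) (h : SGA1.IsTameAlong f φ) : SGA1.IsTameAlong f ((algebraMap B C).comp φ) := by
  intro i q _ hq
  let q0 : Ideal B := q.comap (algebraMap B C)
  have hq0 : Ideal.comap φ q0 = ⊥ := hq
  let ι : q0.ResidueField →+* q.ResidueField := Ideal.ResidueField.map q0 q (algebraMap B C) rfl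
  have hbij : Function.Bijective ι :=
    (RingHom.surjectiveOnStalks_of_isLocalization (M := M) C).residueFieldMap_bijective q0 q rfl
  have hh := isTamelyRamified_comp _ (RingEquiv.ofBijective ι hbij) (h i q0 hq0)
  have he : SGA1.genericResidueMap ((algebraMap B C).comp φ) (Ideal.span {f i}) q hq =
      (RingEquiv.ofBijective ι hbij).toRingHom.comp (SGA1.genericResidueMap φ (Ideal.span {f i}) q0 hq0) := by
    refine IsLocalization.ringHom_ext (Ideal.span {f i}).primeCompl (RingHom.ext fun a => ?_)
    simp only [RingHom.comp_apply, SGA1.genericResidueMap, IsLocalization.lift_eq]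
    exact (Ideal.ResidueField.map_algebraMap q0 q (algebraMap B C) rfl (φ a)).symm
  rw [he]
  exact hh

end GrothLib.TameAbh21
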