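import Groth.Agent.Lib.TameAbh21.Recognize
import Groth.Agent.Lib.TameAbh21.Transport
import Groth.Agent.Lib.TameAbh21.Strict

/-!
From a point of the extended cover to a map into a Kummer algebra.
-/

set_option autoImplicit false
set_option linter.style.haveILetI false
set_option linter.unusedSectionVars false

universe u

open IsLocalRing TensorProduct

namespace GrothLib.TameAbh21

variable {A : Type u} [CommRing A] {B : Type u} [CommRing B] [Algebra A B]

/-- A map to a localization of a normal domain from an integral algebra factors through the domain. -/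
theorem exists_algHom_of_point {D : Type u} [CommRing D] [IsDomain D] [IsIntegrallyClosed D] [Algebra A D]
    [Algebra.IsIntegral A B] {p : D} (hp : p ≠ 0) (σ : B →ₐ[A] Localization.Away p) :
    ∃ ν : B →ₐ[A] D, ∀ b, algebraMap D (Localization.Away p) (ν b) = σ b := by
  let K := FractionRing D
  have hu : ∀ y : Submonoid.powers p, IsUnit (algebraMap D K y) := fun ⟨y, hy⟩ => by
    obtain ⟨k, rfl⟩ := hy
    exact isUnit_iff_ne_zero.mpr ((map_ne_zero_iff _ (IsFractionRing.injective D K)).mpr (pow_ne_zero k hp))
  have hle : Submonoid.powers p ≤ nonZeroDivisors D := powers_le_nonZeroDivisors_of_noZeroDivisors hp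
  let l : Localization.Away p →ₐ[D] K := IsLocalization.liftAlgHom (M := Submonoid.powers p) (f := Algebra.ofId D K) hu
  have hl : Function.Injective l := by
    refine (IsLocalization.lift_injective_iff (M := Submonoid.powers p) (g := algebraMap D K) hu).mpr fun a b => ?_
    exact ⟨fun h => congrArg _ (IsLocalization.injective (Localization.Away p) hle h),
      fun h => congrArg _ (IsFractionRing.injective D K h)⟩
  have hmem : ∀ b : B, ∃ d : D, algebraMap D (Localization.Away p) d = σ b := fun b => by
    have h1 : IsIntegral D (σ b) := ((Algebra.IsIntegral.isIntegral (R := A) b).map σ).tower_top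
    obtain ⟨d, hd⟩ := IsIntegrallyClosed.isIntegral_iff.mp (h1.map l)
    exact ⟨d, hl (by rw [AlgHom.commutes]; exact hd)⟩
  choose ν hν using hmem
  have hi : Function.Injective (algebraMap D (Localization.Away p)) := IsLocalization.injective _ hle
  exact ⟨{ toFun := ν
           map_one' := hi (by rw [hν, map_one, map_one])
           map_mul' := fun a b => hi (by simp [hν, map_mul])
           map_zero' := hi (by rw [hν, map_zero, map_zero])
           map_add' := fun a b => hi (by simp [hν, map_add])
           commutes' := fun a => hi (by rw [hν, AlgHom.commutes, ← IsScalarTower.algebraMap_apply]) }, hν⟩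

theorem injective_of_algHom {D : Type u} [CommRing D] [IsDomain D] [Algebra A D] [IsDomain B] [Algebra.IsIntegral A B]
    (hinjD : Function.Injective (algebraMap A D)) (ν : B →ₐ[A] D) : Function.Injective ν := by
  haveI : Nontrivial A := (algebraMap A D).domain_nontrivial
  haveI : (RingHom.ker ν.toRingHom).IsPrime := RingHom.ker_isPrime _
  refine (RingHom.injective_iff_ker_eq_bot ν.toRingHom).mpr (Ideal.eq_bot_of_comap_eq_bot (R := A)
    (le_bot_iff.mp fun a ha => hinjD ?_))
  rw [Ideal.mem_comap, RingHom.mem_ker] at ha
  rw [← ν.commutes, map_zero]; exact ha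

variable (B)

/-- The localisation of an algebra étale over `A[1/P]` is étale over `A`. -/
theorem etale_away_cover (P : A) [Algebra.Etale (Localization.Away P) (Localization.Away P ⊗[A] B)] :
    Algebra.Etale A (Localization.Away (algebraMap A B P)) := by
  haveI : Algebra.Etale A (Localization.Away P) := Algebra.Etale.of_isLocalizationAway P
  haveI : Algebra.Etale A (Localization.Away P ⊗[A] B) := Algebra.Etale.comp A (Localization.Away P) _
  letI := Algebra.TensorProduct.rightAlgebra (R := A) (A := Localization.Away P) (B := B)
  haveI : IsLocalization (Algebra.algebraMapSubmonoid B (Submonoid.powers P)) (Localization.Away P ⊗[A] B) :=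
    IsLocalization.tensorRight (A := Localization.Away P) (S := B) (Submonoid.powers P)
  haveI : IsLocalization.Away (algebraMap A B P) (Localization.Away P ⊗[A] B) := by
    have h : Algebra.algebraMapSubmonoid B (Submonoid.powers P) = Submonoid.powers (algebraMap A B P) :=
      Submonoid.map_powers _ _
    rw [IsLocalization.Away, ← h]; infer_instance
  exact Algebra.Etale.of_equiv ((IsLocalization.algEquiv (Submonoid.powers (algebraMap A B P))
    (Localization.Away P ⊗[A] B) (Localization.Away (algebraMap A B P))).restrictScalars A)

variable {B}

theorem away_integral [Module.Finite A B] (P : A) (c : Localization.Away (algebraMap A B P)) :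
    ∃ k : ℕ, IsIntegral A (P ^ k • c) := by
  obtain ⟨b, ⟨_, k, rfl⟩, rfl⟩ := IsLocalization.exists_mk'_eq (Submonoid.powers (algebraMap A B P)) c
  refine ⟨k, ?_⟩
  let y : Submonoid.powers (algebraMap A B P) := ⟨algebraMap A B P ^ k, ⟨k, rfl⟩⟩
  show IsIntegral A (P ^ k • IsLocalization.mk' (Localization.Away (algebraMap A B P)) b y)
  have h : P ^ k • IsLocalization.mk' (Localization.Away (algebraMap A B P)) b y = algebraMap B _ b := by
    rw [Algebra.smul_def, IsScalarTower.algebraMap_apply A B (Localization.Away (algebraMap A B P)), map_pow]
    exact IsLocalization.mk'_spec' _ b y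
  rw [h]
  exact (Algebra.IsIntegral.isIntegral (R := A) b).map (IsScalarTower.toAlgHom A B _)

end GrothLib.TameAbh21
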