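import Groth.Agent.Lib.TameAbh21.KummerFacts
import Mathlib.FieldTheory.SeparableClosure

/-!
Roots of regular parameters are prime; residue extensions of Kummer algebras are separable.
-/

set_option autoImplicit false
set_option linter.style.haveILetI false
set_option linter.unusedSectionVars false

universe u

open IsLocalRing

namespace GrothLib.TameAbh21

variable {A : Type u} [CommRing A] [IsRegularLocalRing A] [IsDomain A] {r : ℕ} {f : Fin r → A}
  (hm : ∀ i, f i ∈ maximalIdeal A)
  (hf : LinearIndependent (ResidueField A) (fun i => (maximalIdeal A).toCotangent ⟨f i, hm i⟩))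

include hm hf

theorem root_mem_and_not_mem_sq (n : Fin r → ℕ) (hn : ∀ j, 1 ≤ n j) (i : Fin r)
    [IsLocalRing (SGA1.kummerAlg A f n)] :
    GrothLib.Kummer21.root f n i ∈ maximalIdeal (SGA1.kummerAlg A f n) ∧
      GrothLib.Kummer21.root f n i ∉ maximalIdeal (SGA1.kummerAlg A f n) ^ 2 := by
  classical
  let B := SGA1.kummerAlg A f n
  haveI := GrothLib.Kummer21.finite_alg (f := f) hn
  haveI := GrothLib.Kummer21.isIntegral_alg (f := f) hn
  have hinj := GrothLib.Kummer21.injective_algebraMap (f := f) hn
  haveI : IsNoetherianRing B := IsNoetherianRing.of_finite A B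
  obtain ⟨s, hcard, hs⟩ := GrothLib.Kummer21.exists_complement hm hf
  refine ⟨?_, fun hx => ?_⟩
  · rw [GrothLib.Kummer21.maximal_eq_span hm hn hs (maximalIdeal B) inferInstance]
    exact Ideal.subset_span (Or.inl ⟨i, rfl⟩)
  let T : Finset B := (Finset.univ.erase i).image (GrothLib.Kummer21.root f n) ∪ s.image (algebraMap A B)
  have hmax : maximalIdeal B = Ideal.span (T : Set B) := by
    refine GrothLib.RegLoc.eq_maximalIdeal_of_sup_sq ?_ ?_ |>.symm
    · rw [Ideal.span_le]
      intro b hb
      rw [GrothLib.Kummer21.maximal_eq_span hm hn hs (maximalIdeal B) inferInstance]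
      refine Ideal.subset_span ?_
      simp only [T, Finset.coe_union, Finset.coe_image] at hb
      rcases hb with ⟨j, -, rfl⟩ | hb
      · exact Or.inl ⟨j, rfl⟩
      · exact Or.inr hb
    · refine (GrothLib.Kummer21.maximal_eq_span hm hn hs (maximalIdeal B) inferInstance).le.trans
        (Ideal.span_le.mpr ?_)
      rintro _ (⟨j, rfl⟩ | ⟨a, ha, rfl⟩)
      · by_cases hj : j = i
        · subst hj; exact Ideal.mem_sup_right hx
        · exact Ideal.mem_sup_left (Ideal.subset_span (Finset.mem_union_left _
            (Finset.mem_image_of_mem _ (Finset.mem_erase.mpr ⟨hj, Finset.mem_univ j⟩))))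
      · exact Ideal.mem_sup_left (Ideal.subset_span (Finset.mem_union_right _ (Finset.mem_image_of_mem _ ha)))
  have h1 : (maximalIdeal B).spanFinrank ≤ T.card := by
    rw [hmax]
    exact (Submodule.spanFinrank_span_le_ncard_of_finite T.finite_toSet).trans (Set.ncard_coe_finset T).le
  haveI := GrothLib.Kummer21.isRegularLocalRing_alg hm hf hn
  have h2 := IsRegularLocalRing.spanFinrank_maximalIdeal (R := B)
  rw [GrothLib.Dim.ringKrullDim_eq_of_isIntegral hinj, ← (IsRegularLocalRing.iff_finrank_cotangentSpace A).1 ‹_›,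
    ← hcard] at h2
  have h2' : (maximalIdeal B).spanFinrank = s.card + r := by exact_mod_cast h2
  have h3 : T.card ≤ (r - 1) + s.card := by
    refine (Finset.card_union_le _ _).trans (Nat.add_le_add ?_ Finset.card_image_le)
    refine Finset.card_image_le.trans ?_
    rw [Finset.card_erase_of_mem (Finset.mem_univ i), Finset.card_univ, Fintype.card_fin]
  have := i.pos
  omega

omit [IsRegularLocalRing A] [IsDomain A] hm hf in
theorem prime_of_not_mem_sq {R : Type u} [CommRing R] [IsRegularLocalRing R] {x : R} (h1 : x ∈ maximalIdeal R)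
    (h2 : x ∉ maximalIdeal R ^ 2) : Prime x := by
  obtain ⟨hR, -, -⟩ := GrothLib.RegLoc.quotient_isRegularLocalRing h1 h2
  haveI := hR
  haveI := GrothLib.CMFree.isDomain_of_isRegularLocalRing (R ⧸ Ideal.span {x})
  exact (Ideal.span_singleton_prime (p := x) fun h0 => h2 (by rw [h0]; exact zero_mem _)).mp
    ((Ideal.Quotient.isDomain_iff_prime _).mp inferInstance)

theorem prime_root (n : Fin r → ℕ) (hn : ∀ j, 1 ≤ n j) (i : Fin r) :
    Prime (GrothLib.Kummer21.root f n i) := by
  haveI := GrothLib.Kummer21.isRegularLocalRing_alg hm hf hn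
  obtain ⟨h1, h2⟩ := root_mem_and_not_mem_sq hm hf n hn i
  exact prime_of_not_mem_sq h1 h2

omit [IsRegularLocalRing A] [IsDomain A] hm hf in
/-- A residue extension generated by roots of degrees prime to the characteristic is separable. -/
theorem isSeparable_residue_of_roots {F G : Type u} [Field F] [Field G] [Algebra F G] {D : Type u} [CommRing D]
    (φ : A →+* F) [Algebra A D] (ψ : D →+* G) (hcomm : ∀ a, ψ (algebraMap A D a) = algebraMap F G (φ a))
    (hfrac : ∀ z : G, ∃ a b : D, z = ψ a / ψ b) {ι : Type*} (x : ι → D) (hadj : Algebra.adjoin A (Set.range x) = ⊤)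
    (m : ι → ℕ) (hmu : ∀ j, (m j : F) ≠ 0) (hpow : ∀ j, ∃ a : A, x j ^ m j = algebraMap A D a) :
    Algebra.IsSeparable F G := by
  have hm0 : ∀ j, 0 < m j := fun j => Nat.pos_of_ne_zero fun h => hmu j (by rw [h, Nat.cast_zero])
  let S := separableClosure F G
  have hx : ∀ j, ψ (x j) ∈ S := fun j => by
    rw [mem_separableClosure_iff]
    obtain ⟨a, ha⟩ := hpow j
    by_cases h0 : φ a = 0
    · have hz' : ψ (x j) ^ m j = 0 := by rw [← map_pow, ha, hcomm, h0, map_zero]
      have hz : ψ (x j) = algebraMap F G 0 := by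
        rw [map_zero]; exact (pow_eq_zero_iff (hm0 j).ne').mp hz'
      rw [hz]
      exact isSeparable_algebraMap (0 : F)
    · refine (Polynomial.separable_X_pow_sub_C (φ a) (hmu j) h0).of_dvd (minpoly.dvd _ _ ?_)
      rw [map_sub, map_pow, Polynomial.aeval_X, Polynomial.aeval_C, ← map_pow, ha, hcomm, sub_self]
  have hall : ∀ d : D, ψ d ∈ S := fun d => by
    have hd : d ∈ Algebra.adjoin A (Set.range x) := hadj ▸ Algebra.mem_top
    induction hd using Algebra.adjoin_induction with
    | mem y hy => obtain ⟨j, rfl⟩ := hy; exact hx j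
    | algebraMap a => rw [hcomm]; exact S.algebraMap_mem _
    | add a b _ _ ha hb => rw [map_add]; exact add_mem ha hb
    | mul a b _ _ ha hb => rw [map_mul]; exact mul_mem ha hb
  refine ⟨fun z => ?_⟩
  obtain ⟨a, b, rfl⟩ := hfrac z
  exact mem_separableClosure_iff.mp (div_mem (hall a) (hall b))

end GrothLib.TameAbh21
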