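import Groth.Agent.Lib.TameDifferent
import Groth.Agent.Lib.DVRExt.Ramification
import Mathlib.RingTheory.Trace.Quotient
import Mathlib.RingTheory.Localization.AtPrime.Basic

/-!
The trace of a finite algebra over a discrete valuation ring modulo the maximal ideal.
-/

set_option autoImplicit false
set_option linter.style.haveILetI false

universe u

open IsLocalRing

namespace GrothLib.TameAbh21

/-- The trace only sees the factor on which `z` is not nilpotent. -/
theorem trace_eq_of_surjective {k T C : Type u} [Field k] [CommRing T] [CommRing C] [Algebra k T] [Algebra k C]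
    [FiniteDimensional k T] (φ : T →ₐ[k] C) (hφ : Function.Surjective φ) (z : T)
    (hz : ∀ c, φ c = 0 → ∃ N : ℕ, z ^ N * c = 0) :
    Algebra.trace k T z = Algebra.trace k C (φ z) := by
  classical
  haveI : FiniteDimensional k C := Module.Finite.of_surjective φ.toLinearMap hφ
  let K := LinearMap.ker φ.toLinearMap
  let g : K →ₗ[k] K := (LinearMap.mulLeft k z).restrict fun c (hc : φ c = 0) =>
    show φ (z * c) = 0 by rw [map_mul, hc, mul_zero]
  have hgpow : ∀ (n : ℕ) (c : K), ((g ^ n) c : T) = z ^ n * (c : T) := by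
    intro n
    induction n with
    | zero => intro c; simp
    | succ n ih =>
      intro c
      rw [pow_succ, Module.End.mul_apply, ih, pow_succ, mul_assoc]
      rfl
  have hnil : IsNilpotent g := by
    choose N hN using fun i => hz _ ((Module.finBasis k K) i).2
    refine ⟨Finset.univ.sup N, (Module.finBasis k K).ext fun i => Subtype.ext ?_⟩
    rw [hgpow, LinearMap.zero_apply, ZeroMemClass.coe_zero,
      ← Nat.sub_add_cancel (Finset.le_sup (f := N) (Finset.mem_univ i)), pow_add, mul_assoc, hN i, mul_zero]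
  rw [Algebra.trace_apply, Algebra.trace_apply, GrothLib.TameDifferent.trace_eq_add_of_exact
    (i := K.subtype) (q := φ.toLinearMap) Subtype.val_injective hφ
    (fun c => ⟨fun hc => ⟨⟨c, hc⟩, rfl⟩, fun ⟨d, hd⟩ => hd ▸ d.2⟩) _ g (Algebra.lmul k C (φ z))
    (LinearMap.ext fun c => rfl) (LinearMap.ext fun c => map_mul φ z c)]
  rw [(LinearMap.isNilpotent_trace_of_isNilpotent hnil).eq_zero, zero_add]

/-- If `z` vanishes at the other primes over the maximal ideal then its trace is `e` times a residual trace. -/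
theorem residue_trace_eq {O S : Type u} [CommRing O] [IsDomain O] [IsDiscreteValuationRing O]
    [CommRing S] [IsDomain S] [Algebra O S] [Module.Free O S] [Module.Finite O S]
    (Q : Ideal S) [Q.IsPrime] {B : Type u} [CommRing B] [IsDomain B] [IsDiscreteValuationRing B]
    [Algebra S B] [Algebra O B] [IsScalarTower O S B] [IsLocalization.AtPrime B Q]
    [IsLocalHom (algebraMap O B)] (hinj : Function.Injective (algebraMap O B))
    (z : S) (hz : ∀ P : Ideal S, P.IsPrime → (maximalIdeal O).map (algebraMap O S) ≤ P → P ≠ Q → z ∈ P) :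
    residue O (Algebra.trace O S z) =
      Ideal.ramificationIdx' (maximalIdeal O) (maximalIdeal B) •
        Algebra.trace (ResidueField O) (ResidueField B) (residue B (algebraMap S B z)) := by
  classical
  obtain ⟨hepos, hmap⟩ := GrothLib.DVRExt.map_maximalIdeal_eq_pow (A := O) (B := B) hinj
  set e := Ideal.ramificationIdx' (maximalIdeal O) (maximalIdeal B)
  set k := ResidueField O
  let I := (maximalIdeal O).map (algebraMap O S)
  let J := (maximalIdeal O).map (algebraMap O B)
  letI : Algebra k (S ⧸ I) :=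
    (inferInstance : Algebra (O ⧸ maximalIdeal O) (S ⧸ (maximalIdeal O).map (algebraMap O S)))
  letI : Algebra k (B ⧸ J) :=
    (inferInstance : Algebra (O ⧸ maximalIdeal O) (B ⧸ (maximalIdeal O).map (algebraMap O B)))
  haveI : IsScalarTower O k (S ⧸ I) :=
    (inferInstance : IsScalarTower O (O ⧸ maximalIdeal O) (S ⧸ (maximalIdeal O).map (algebraMap O S)))
  haveI : FiniteDimensional k (S ⧸ I) := Module.Finite.of_restrictScalars_finite O k (S ⧸ I)
  have hIJ : I ≤ J.comap (algebraMap S B) := by
    rw [← Ideal.map_le_iff_le_comap, Ideal.map_map, ← IsScalarTower.algebraMap_eq]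
  let φ : (S ⧸ I) →ₐ[k] B ⧸ J :=
    { toRingHom := Ideal.quotientMap J (algebraMap S B) hIJ
      commutes' := fun a => by
        obtain ⟨a, rfl⟩ := Ideal.Quotient.mk_surjective a
        exact congrArg (Ideal.Quotient.mk J) (IsScalarTower.algebraMap_apply O S B a).symm }
  obtain ⟨t, ht⟩ := IsDiscreteValuationRing.exists_irreducible B
  have hJ : J = Ideal.span {t ^ e} := by rw [← Ideal.span_singleton_pow, ← ht.maximalIdeal_eq]; exact hmap
  have hIQ : I ≤ Q := fun s hs => by
    by_contra hsQ
    have h1 : algebraMap S B s ∈ J := hIJ hs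
    rw [hJ, Ideal.mem_span_singleton] at h1
    exact ht.not_isUnit (isUnit_of_dvd_unit ((dvd_pow_self t hepos.ne').trans h1)
      (IsLocalization.map_units B (⟨s, hsQ⟩ : Q.primeCompl)))
  haveI hQmax : Q.IsMaximal := by
    have hc : Q.comap (algebraMap O S) = maximalIdeal O :=
      ((maximalIdeal.isMaximal O).eq_of_le (Ideal.IsPrime.comap _).ne_top
        (Ideal.map_le_iff_le_comap.mp hIQ)).symm
    exact Ideal.isMaximal_of_isIntegral_of_isMaximal_comap Q (hc ▸ maximalIdeal.isMaximal O)
  have hφsurj : Function.Surjective φ := by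
    intro c
    obtain ⟨c, rfl⟩ := Ideal.Quotient.mk_surjective c
    obtain ⟨a, s, rfl⟩ := IsLocalization.exists_mk'_eq Q.primeCompl c
    -- `s` is invertible modulo `Q ^ e`
    have hsup : Ideal.span {(s : S)} ⊔ Q = ⊤ := by
      refine hQmax.out.2 _ (lt_of_le_of_ne le_sup_right fun h => s.2 ?_)
      exact h.ge (Ideal.mem_sup_left (Ideal.mem_span_singleton_self _))
    have hsup' : Ideal.span {(s : S)} ⊔ Q ^ e = ⊤ := Ideal.sup_pow_eq_top hsup
    obtain ⟨u, hu, q, hq, huq⟩ := Submodule.mem_sup.mp (hsup' ▸ Submodule.mem_top : (1 : S) ∈ _)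
    obtain ⟨b, rfl⟩ := Ideal.mem_span_singleton'.mp hu
    have hq' : algebraMap S B q ∈ J := by
      show _ ∈ (maximalIdeal O).map (algebraMap O B)
      rw [hmap, ← IsLocalization.AtPrime.map_eq_maximalIdeal Q B, ← Ideal.map_pow]
      exact Ideal.mem_map_of_mem _ hq
    refine ⟨Ideal.Quotient.mk I (a * b), ?_⟩
    show Ideal.Quotient.mk J (algebraMap S B (a * b)) = _
    rw [Ideal.Quotient.eq]
    have h1 : algebraMap S B (a * b) - IsLocalization.mk' B a s =
        - (IsLocalization.mk' B a s * algebraMap S B q) := by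
      have h2 := congrArg (algebraMap S B) huq
      rw [map_add, map_mul, map_one] at h2
      rw [map_mul, ← IsLocalization.mk'_spec B a s]
      linear_combination (IsLocalization.mk' B a s) * h2
    rw [h1]
    exact J.neg_mem (J.mul_mem_left _ hq')
  have hker : ∀ c, φ c = 0 → ∃ N : ℕ, Ideal.Quotient.mk I z ^ N * c = 0 := by
    intro c hc
    obtain ⟨c, rfl⟩ := Ideal.Quotient.mk_surjective c
    have hc' : algebraMap S B c ∈ (Ideal.map (algebraMap S B) I) := by
      rw [Ideal.map_map, ← IsScalarTower.algebraMap_eq]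
      exact Ideal.Quotient.eq_zero_iff_mem.mp hc
    rw [IsLocalization.mem_map_algebraMap_iff Q.primeCompl] at hc'
    obtain ⟨⟨i, u⟩, hiu⟩ := hc'
    obtain ⟨v, hv⟩ := (IsLocalization.eq_iff_exists Q.primeCompl B).mp
      (show algebraMap S B (c * u) = algebraMap S B i by rw [map_mul]; exact hiu)
    let Ann : Ideal S :=
      { carrier := {a | a * c ∈ I}
        add_mem' := fun {a b} ha hb => by show (a + b) * c ∈ I; rw [add_mul]; exact I.add_mem ha hb
        zero_mem' := by show (0 : S) * c ∈ I; rw [zero_mul]; exact I.zero_mem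
        smul_mem' := fun r a ha => by show (r * a) * c ∈ I; rw [mul_assoc]; exact I.mul_mem_left r ha }
    have hz' : z ∈ Ann.radical := by
      rw [Ideal.radical_eq_sInf, Submodule.mem_sInf]
      intro P hP
      refine hz P hP.2 (fun s hs => hP.1 (I.mul_mem_right c hs)) fun hPQ => ?_
      refine (Q.primeCompl.mul_mem v.2 u.2) (hPQ.le (hP.1 ?_))
      show (v : S) * u * c ∈ I
      rw [mul_assoc, mul_comm (u : S) c, hv]
      exact I.mul_mem_left _ i.2
    obtain ⟨N, hN⟩ := hz'
    exact ⟨N, by rw [← map_pow, ← map_mul]; exact Ideal.Quotient.eq_zero_iff_mem.mpr hN⟩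
  have h1 : residue O (Algebra.trace O S z) = Algebra.trace k (S ⧸ I) (Ideal.Quotient.mk I z) :=
    (Algebra.trace_quotient_mk (R := O) z).symm
  rw [h1, trace_eq_of_surjective φ hφsurj _ hker]
  haveI : FiniteDimensional k (B ⧸ J) := Module.Finite.of_surjective φ.toLinearMap hφsurj
  show Algebra.trace k (B ⧸ J) (Ideal.Quotient.mk J (algebraMap S B z)) = _
  set x := algebraMap S B z
  rw [GrothLib.TameDifferent.trace_eq_nsmul (Ideal.Quotient.mk J t) e]
  · congr 1
    have hle : J ≤ maximalIdeal B := hmap.le.trans (Ideal.pow_le_self hepos.ne')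
    let ψ : (B ⧸ J) →ₐ[k] ResidueField B :=
      { toRingHom := Ideal.Quotient.factor hle
        commutes' := fun a => by
          obtain ⟨a, rfl⟩ := Ideal.Quotient.mk_surjective a
          rfl }
    have hψ : Function.Surjective ψ := Ideal.Quotient.factor_surjective hle
    have hker' : Ideal.span {Ideal.Quotient.mk J t} = RingHom.ker ψ := by
      ext c
      obtain ⟨c, rfl⟩ := Ideal.Quotient.mk_surjective c
      have : ψ (Ideal.Quotient.mk J c) = residue B c := rfl
      rw [RingHom.mem_ker, this, residue_eq_zero_iff, ht.maximalIdeal_eq, Ideal.mem_span_singleton,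
        Ideal.mem_span_singleton]
      refine ⟨fun ⟨d, hd⟩ => ?_, fun h => map_dvd _ h⟩
      obtain ⟨d, rfl⟩ := Ideal.Quotient.mk_surjective d
      rw [← map_mul, Ideal.Quotient.eq, hJ, Ideal.mem_span_singleton] at hd
      simpa using dvd_add ((dvd_pow_self t hepos.ne').trans hd) (dvd_mul_right t d)
    rw [← Algebra.trace_eq_of_algEquiv ((Ideal.quotientEquivAlgOfEq _ hker').trans
      (Ideal.quotientKerAlgEquivOfSurjective hψ))]
    rfl
  · rw [← map_pow, Ideal.Quotient.eq_zero_iff_mem, hJ]
    exact Ideal.mem_span_singleton_self _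
  · intro n hn c hc
    obtain ⟨c, rfl⟩ := Ideal.Quotient.mk_surjective c
    obtain ⟨d, hd⟩ := hc
    obtain ⟨d, rfl⟩ := Ideal.Quotient.mk_surjective d
    rw [← map_pow, ← map_pow, ← map_mul, ← map_mul, Ideal.Quotient.eq, hJ, Ideal.mem_span_singleton] at hd
    refine map_dvd _ ?_
    have h1 := dvd_add ((pow_dvd_pow t (show n + 1 ≤ e by omega)).trans hd) (dvd_mul_right (t ^ (n + 1)) d)
    rw [sub_add_cancel, pow_succ] at h1
    exact (mul_dvd_mul_iff_left (pow_ne_zero n ht.ne_zero)).mp h1

end GrothLib.TameAbh21
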