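import Groth.Agent.Lib.TameAbh21.Root
import Groth.Agent.Lib.DVRExt.Independent
import Mathlib.RingTheory.AdjoinRoot

/-!
Tame extensions and root extensions `A[z]/(z^e - π)` of a uniformizer.
-/

set_option autoImplicit false
set_option linter.style.haveILetI false

universe u

open IsLocalRing Polynomial

namespace GrothLib.TameAbh21

section AdjoinRoot

variable {A : Type u} [CommRing A] [IsDomain A] [IsDiscreteValuationRing A] {π : A} {e : ℕ}

theorem root_pow' : AdjoinRoot.root (X ^ e - C π : A[X]) ^ e = AdjoinRoot.of (X ^ e - C π : A[X]) π := by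
  have h := AdjoinRoot.mk_self (f := (X ^ e - C π : A[X]))
  rwa [map_sub, map_pow, AdjoinRoot.mk_X, AdjoinRoot.mk_C, sub_eq_zero] at h

theorem exists_const' (r : AdjoinRoot (X ^ e - C π : A[X])) :
    ∃ a : A, r - AdjoinRoot.of (X ^ e - C π : A[X]) a ∈ Ideal.span {AdjoinRoot.root (X ^ e - C π : A[X])} := by
  induction r using AdjoinRoot.induction_on with
  | ih q =>
    refine ⟨q.coeff 0, ?_⟩
    have h := congrArg (AdjoinRoot.mk (X ^ e - C π : A[X])) (X_mul_divX_add q)
    rw [map_add, map_mul, AdjoinRoot.mk_X, AdjoinRoot.mk_C] at h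
    rw [← h, add_sub_cancel_right]
    exact Ideal.mul_mem_right _ _ (Ideal.mem_span_singleton_self _)

theorem maximal_eq_span (hπ : maximalIdeal A = Ideal.span {π}) (he : 0 < e)
    (M : Ideal (AdjoinRoot (X ^ e - C π : A[X]))) (hM : M.IsMaximal) :
    M = Ideal.span {AdjoinRoot.root (X ^ e - C π : A[X])} := by
  haveI : Module.Finite A (AdjoinRoot (X ^ e - C π : A[X])) :=
    (monic_X_pow_sub_C π (by omega : e ≠ 0)).finite_adjoinRoot
  have hc : M.comap (AdjoinRoot.of (X ^ e - C π : A[X])) = maximalIdeal A := by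
    rw [← AdjoinRoot.algebraMap_eq]
    exact eq_maximalIdeal (Ideal.isMaximal_comap_of_isIntegral_of_isMaximal (R := A) M)
  have hroot : AdjoinRoot.root (X ^ e - C π : A[X]) ∈ M := by
    refine hM.isPrime.mem_of_pow_mem e ?_
    rw [root_pow', ← Ideal.mem_comap, hc, hπ]
    exact Ideal.mem_span_singleton_self _
  refine le_antisymm (fun r hr => ?_) ((Ideal.span_singleton_le_iff_mem _).mpr hroot)
  obtain ⟨a, ha⟩ := exists_const' r
  have haM : AdjoinRoot.of (X ^ e - C π : A[X]) a ∈ M := by
    have := sub_mem hr ((Ideal.span_singleton_le_iff_mem _).mpr hroot ha); simpa using this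
  rw [← Ideal.mem_comap, hc, hπ, Ideal.mem_span_singleton] at haM
  obtain ⟨c, rfl⟩ := haM
  have h2 : AdjoinRoot.of (X ^ e - C π : A[X]) (π * c) ∈
      Ideal.span {AdjoinRoot.root (X ^ e - C π : A[X])} := by
    rw [map_mul, ← root_pow']
    exact Ideal.mul_mem_right _ _ (Ideal.pow_mem_of_mem _ (Ideal.mem_span_singleton_self _) e he)
  simpa using add_mem ha h2

theorem isLocalRing_adjoinRoot (hπ : maximalIdeal A = Ideal.span {π}) (he : 0 < e) :
    IsLocalRing (AdjoinRoot (X ^ e - C π : A[X])) := by
  haveI : Nontrivial (AdjoinRoot (X ^ e - C π : A[X])) :=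
    AdjoinRoot.nontrivial _ (by rw [degree_X_pow_sub_C he]; exact_mod_cast he.ne')
  obtain ⟨M, hM⟩ := Ideal.exists_maximal (AdjoinRoot (X ^ e - C π : A[X]))
  exact IsLocalRing.of_unique_max_ideal ⟨M, hM, fun M' hM' =>
    (maximal_eq_span hπ he M' hM').trans (maximal_eq_span hπ he M hM).symm⟩

end AdjoinRoot

/-- The ramification index is at most the degree. -/
theorem ramificationIdx_le_finrank {A K L : Type u} [CommRing A] [IsDomain A] [IsDiscreteValuationRing A]
    [Field K] [Algebra A K] [IsFractionRing A K] [Field L] [Algebra K L] [Algebra A L] [IsScalarTower A K L]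
    [FiniteDimensional K L] (V : ValuationSubring L) [IsDiscreteValuationRing V] [Algebra A V]
    [IsScalarTower A V L] [IsLocalHom (algebraMap A V)] (hinj : Function.Injective (algebraMap A V)) :
    Ideal.ramificationIdx' (maximalIdeal A) (maximalIdeal V) ≤ Module.finrank K L := by
  obtain ⟨ϖ, hϖ⟩ := IsDiscreteValuationRing.exists_irreducible V
  have h := (GrothLib.DVRExt.linearIndependent_pow (A := A) hinj hϖ).map'
    (IsScalarTower.toAlgHom A V L).toLinearMap (LinearMap.ker_eq_bot.mpr Subtype.val_injective)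
  have h2 := (LinearIndependent.iff_fractionRing A K).mp h
  simpa using h2.fintype_card_le_finrank

set_option maxHeartbeats 1000000 in
/-- A tame extension becomes unramified over a root extension of a large enough degree. -/
theorem exists_unramified_over_root {A K L : Type u} [CommRing A] [IsDomain A]
    [IsDiscreteValuationRing A] [Field K] [Algebra A K] [IsFractionRing A K] [Field L] [Algebra K L]
    [FiniteDimensional K L] [Algebra.IsSeparable K L]
    (π : A) (hπ : maximalIdeal A = Ideal.span {π})
    (htame : EtRam.IsTamelyRamified A ((algebraMap K L).comp (algebraMap A K)))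
    (e : ℕ) (he : 0 < e) (heu : IsUnit (e : A))
    (hdvd : ∀ (V : ValuationSubring L) (h : EtRam.Dominates A ((algebraMap K L).comp (algebraMap A K)) V),
      letI : Algebra A V := (RingHom.codRestrict ((algebraMap K L).comp (algebraMap A K)) V h.1).toAlgebra
      Ideal.ramificationIdx' (maximalIdeal A) (maximalIdeal V) ∣ e) :
    ∃ (L' : Type u) (_ : Field L') (_ : Algebra K L')
      (_ : Algebra (AdjoinRoot (X ^ e - C π : A[X])) L') (_ : L →ₐ[K] L'),
      FiniteDimensional K L' ∧ Algebra.IsSeparable K L' ∧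
      (algebraMap (AdjoinRoot (X ^ e - C π : A[X])) L').comp (AdjoinRoot.of (X ^ e - C π)) =
        (algebraMap K L').comp (algebraMap A K) ∧
      ∀ [IsLocalRing (AdjoinRoot (X ^ e - C π : A[X]))],
        EtRam.IsUnramifiedExt (AdjoinRoot (X ^ e - C π : A[X]))
          (algebraMap (AdjoinRoot (X ^ e - C π : A[X])) L') := by
  classical
  have hπ' : Irreducible π := (IsDiscreteValuationRing.irreducible_iff_uniformizer π).mpr hπ
  let Ω := AlgebraicClosure L
  obtain ⟨z, hz⟩ := IsAlgClosed.exists_pow_nat_eq (algebraMap K Ω (algebraMap A K π)) he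
  let jΩ : L →ₐ[K] Ω := IsScalarTower.toAlgHom K L Ω
  let L' : IntermediateField K Ω := IntermediateField.adjoin K {z} ⊔ jΩ.fieldRange
  have hzsep : IsSeparable K z := by
    have h0 : algebraMap A K π ≠ 0 := (map_ne_zero_iff _ (IsFractionRing.injective A K)).mpr hπ'.ne_zero
    have heK : ((e : ℕ) : K) ≠ 0 := by
      have := (heu.map (algebraMap A K)).ne_zero; simpa using this
    refine (Polynomial.separable_X_pow_sub_C (algebraMap A K π) heK h0).of_dvd (minpoly.dvd K z ?_)
    simp [hz]
  haveI : FiniteDimensional K (IntermediateField.adjoin K {z}) :=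
    IntermediateField.adjoin.finiteDimensional hzsep.isIntegral
  haveI : FiniteDimensional K jΩ.fieldRange :=
    Module.Finite.of_surjective jΩ.rangeRestrict.toLinearMap (AlgHom.rangeRestrict_surjective _)
  haveI : Algebra.IsSeparable K (IntermediateField.adjoin K {z}) :=
    (IntermediateField.isSeparable_adjoin_simple_iff_isSeparable K Ω).mpr hzsep
  haveI : Algebra.IsSeparable K jΩ.fieldRange :=
    AlgEquiv.Algebra.isSeparable (AlgEquiv.ofInjectiveField jΩ)
  haveI : Algebra.IsSeparable K L' := IntermediateField.isSeparable_sup K Ω _ _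
  have hcomA : ((algebraMap K L').comp (algebraMap A K)) = (algebraMap K L').comp (algebraMap A K) := rfl
  let z' : L' := ⟨z, le_sup_left (a := IntermediateField.adjoin K {z}) (IntermediateField.mem_adjoin_simple_self K z)⟩
  have hz' : z' ^ e = algebraMap K L' (algebraMap A K π) := Subtype.ext hz
  let φ : AdjoinRoot (X ^ e - C π : A[X]) →+* L' :=
    AdjoinRoot.lift ((algebraMap K L').comp (algebraMap A K)) z'
      (by simp [hz'])
  let jL : L →ₐ[K] L' :=
    (IntermediateField.inclusion (le_sup_right (a := IntermediateField.adjoin K {z}))).comp jΩ.rangeRestrict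
  refine ⟨L', inferInstance, inferInstance, φ.toAlgebra, jL, inferInstance, inferInstance,
    RingHom.ext fun a => by show φ (AdjoinRoot.of _ a) = algebraMap K L' (algebraMap A K a); simp [φ], ?_⟩
  intro hloc W hW
  letI : Algebra (AdjoinRoot (X ^ e - C π : A[X])) W := (RingHom.codRestrict φ W hW.1).toAlgebra
  intro hlocW
  have hmax : maximalIdeal (AdjoinRoot (X ^ e - C π : A[X])) = Ideal.span {AdjoinRoot.root _} :=
    maximal_eq_span hπ he _ (maximalIdeal.isMaximal _)
  have hφof : ∀ a, φ (AdjoinRoot.of (X ^ e - C π : A[X]) a) = algebraMap K L' (algebraMap A K a) :=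
    fun a => by simp [φ]
  have hWA : EtRam.Dominates A ((algebraMap K L').comp (algebraMap A K)) W := by
    refine ⟨fun a => hφof a ▸ hW.1 _, fun a ha => ?_⟩
    rw [RingHom.comp_apply, ← hφof]
    refine hW.2 _ ?_
    rw [hπ, Ideal.mem_span_singleton] at ha
    obtain ⟨c, rfl⟩ := ha
    rw [map_mul, ← root_pow', hmax]
    exact Ideal.mul_mem_right _ _ (Ideal.pow_mem_of_mem _ (Ideal.mem_span_singleton_self _) e he)
  obtain ⟨hdW, hinjW, hlW⟩ := GrothLib.DVRExt.dominates_algebra A K L' W hWA
  haveI := hdW
  letI : Algebra A W := (RingHom.codRestrict ((algebraMap K L').comp (algebraMap A K)) W hWA.1).toAlgebra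
  haveI : IsLocalHom (algebraMap A W) := hlW
  -- the root field below
  let L1 : IntermediateField K L' := IntermediateField.adjoin K {z'}
  let C1 : ValuationSubring L1 := W.comap (algebraMap L1 L')
  have hC : EtRam.Dominates A ((algebraMap K L1).comp (algebraMap A K)) C1 :=
    GrothLib.DVRExt.dominates_comap A K L' W hWA
  obtain ⟨hdC, hinjC, hlC⟩ := GrothLib.DVRExt.dominates_algebra A K L1 C1 hC
  haveI := hdC
  letI : Algebra A C1 := (RingHom.codRestrict ((algebraMap K L1).comp (algebraMap A K)) C1 hC.1).toAlgebra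
  haveI : IsLocalHom (algebraMap A C1) := hlC
  letI : Algebra A L1 := ((algebraMap K L1).comp (algebraMap A K)).toAlgebra
  haveI : IsScalarTower A K L1 := IsScalarTower.of_algebraMap_eq fun _ => rfl
  let z1 : L1 := ⟨z', IntermediateField.mem_adjoin_simple_self K z'⟩
  have hz1top : IntermediateField.adjoin K ({z1} : Set L1) = ⊤ := by
    apply IntermediateField.map_injective L1.val
    rw [IntermediateField.adjoin_map, Set.image_singleton, ← AlgHom.fieldRange_eq_map,
      IntermediateField.fieldRange_val]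
    rfl
  obtain ⟨hsC, heC⟩ := @rootExt A _ _ _ K _ _ _ L1 _ _ _ _ z1 hz1top e he heu π hπ' (Subtype.ext hz') C1 hC hlC
  let gC : C1 →+* L' := (algebraMap L1 L').comp C1.subtype
  have hgCinj : Function.Injective gC := (algebraMap L1 L').injective.comp Subtype.val_injective
  have hcommL : gC.comp (algebraMap A C1) = jL.toRingHom.comp ((algebraMap K L).comp (algebraMap A K)) :=
    RingHom.ext fun a => (jL.commutes (algebraMap A K a)).symm
  have hgen : Subfield.closure (Set.range gC ∪ Set.range jL.toRingHom) = ⊤ := by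
    rw [eq_top_iff]
    set Φ := Subfield.closure (Set.range gC ∪ Set.range jL.toRingHom)
    have hL1 : ∀ x : L1, algebraMap L1 L' x ∈ Φ := fun x => by
      rcases C1.mem_or_inv_mem x with h | h
      · exact Subfield.subset_closure (Or.inl ⟨⟨x, h⟩, rfl⟩)
      · have := Φ.inv_mem (Subfield.subset_closure (Or.inl ⟨⟨x⁻¹, h⟩, rfl⟩) : gC ⟨x⁻¹, h⟩ ∈ Φ)
        rwa [show gC ⟨x⁻¹, h⟩ = algebraMap L1 L' x⁻¹ from rfl, map_inv₀, inv_inv] at this
    let G : IntermediateField K L' :=
      { Φ with algebraMap_mem' := fun r => hL1 (algebraMap K L1 r) }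
    have hle : L' ≤ IntermediateField.lift G := by
      refine sup_le ?_ ?_
      · rw [IntermediateField.adjoin_simple_le_iff]
        exact ⟨z', hL1 z1, rfl⟩
      · rintro _ ⟨y, rfl⟩
        exact ⟨jL y, Subfield.subset_closure (Or.inr ⟨y, rfl⟩), rfl⟩
    intro x _
    obtain ⟨x', hx', e'⟩ := hle x.2
    exact (show x' = x from Subtype.ext e') ▸ hx'
  have hWC : EtRam.Dominates C1 gC W :=
    ⟨fun c => c.2, fun c hc => (ValuationSubring.valuation_lt_one_iff W ⟨_, c.2⟩).mp fun hu =>
      hc ((EtRam.isLocalHom_inclOfComap W (algebraMap L1 L')).map_nonunit c hu)⟩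
  letI : Algebra C1 W := (RingHom.codRestrict gC W hWC.1).toAlgebra
  haveI : IsLocalHom (algebraMap C1 W) := EtRam.isLocalHom_inclOfComap W (algebraMap L1 L')
  obtain ⟨hwu, hsW⟩ := compositum (C := C1) K htame hinjC gC hgCinj jL.toRingHom hcommL hgen W hWC
    (fun h'' => by rw [heC]; exact hdvd _ h'')
  haveI : IsScalarTower A C1 W := IsScalarTower.of_algebraMap_eq fun a => Subtype.ext rfl
  have hinjCW : Function.Injective (algebraMap C1 W) := fun x y hxy => hgCinj (show gC x = gC y from congrArg (fun w : W => (w : L')) hxy)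
  have heW : Ideal.ramificationIdx' (maximalIdeal A) (maximalIdeal W) = e := by
    rw [GrothLib.DVRExt.ramificationIdx_tower (A := A) (B := C1) (C := W) hinjC hinjCW, heC,
      (GrothLib.DVRExt.weaklyUnramified_iff (A := C1) (B := W) hinjCW).mp hwu, mul_one]
  obtain ⟨-, hmapA⟩ := GrothLib.DVRExt.map_maximalIdeal_eq_pow (A := A) (B := W) hinjW
  rw [heW] at hmapA
  haveI := hsC
  haveI := hsW
  haveI : Algebra.IsSeparable (ResidueField A) (ResidueField W) :=
    Algebra.IsSeparable.trans (ResidueField A) (ResidueField C1) (ResidueField W)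
  haveI : IsScalarTower A (AdjoinRoot (X ^ e - C π : A[X])) W :=
    IsScalarTower.of_algebraMap_eq fun a => Subtype.ext (hφof a).symm
  haveI : IsLocalHom (algebraMap A (AdjoinRoot (X ^ e - C π : A[X]))) :=
    ⟨fun a ha => IsUnit.of_map (algebraMap A W) a (by
      rw [IsScalarTower.algebraMap_apply A (AdjoinRoot (X ^ e - C π : A[X])) W]; exact ha.map _)⟩
  refine ⟨?_, Algebra.isSeparable_tower_top_of_isSeparable (ResidueField A)
    (ResidueField (AdjoinRoot (X ^ e - C π : A[X]))) (ResidueField W)⟩
  unfold EtRam.IsWeaklyUnramified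
  rw [hmax, Ideal.map_span, Set.image_singleton]
  obtain ⟨ϖ, hϖ⟩ := IsDiscreteValuationRing.exists_irreducible W
  have hroot0 : algebraMap _ W (AdjoinRoot.root (X ^ e - C π : A[X])) ≠ 0 := by
    intro h0
    have h1 := congrArg (algebraMap _ W) (root_pow' (π := π) (e := e))
    rw [map_pow, h0, zero_pow he.ne', ← AdjoinRoot.algebraMap_eq, ← IsScalarTower.algebraMap_apply] at h1
    exact hπ'.ne_zero (hinjW (h1.symm.trans (map_zero _).symm))
  obtain ⟨k, u, hk⟩ := IsDiscreteValuationRing.eq_unit_mul_pow_irreducible hroot0 hϖ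
  have hspan : Ideal.span {algebraMap _ W (AdjoinRoot.root (X ^ e - C π : A[X]))} = maximalIdeal W ^ k := by
    rw [hk, Ideal.span_singleton_mul_left_unit u.isUnit, hϖ.maximalIdeal_eq, Ideal.span_singleton_pow]
  have hke : k * e = 1 * e := by
    refine GrothLib.DVRExt.maximalIdeal_pow_inj (B := W) ?_
    have h1 : algebraMap A W π = algebraMap _ W (AdjoinRoot.root (X ^ e - C π : A[X])) ^ e := by
      rw [← map_pow, root_pow']
      exact IsScalarTower.algebraMap_apply A (AdjoinRoot (X ^ e - C π : A[X])) W π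
    have h2 : Ideal.map (algebraMap A W) (maximalIdeal A) = Ideal.span {algebraMap A W π} := by
      rw [hπ, Ideal.map_span, Set.image_singleton]
    rw [one_mul, pow_mul, ← hspan, Ideal.span_singleton_pow, ← h1, ← h2, hmapA]
  rw [hspan, Nat.eq_of_mul_eq_mul_right he hke, pow_one]

/-- A uniform bound for the ramification indices of a tame extension. -/
theorem exists_uniform_index {A K L : Type u} [CommRing A] [IsDomain A]
    [IsDiscreteValuationRing A] [Field K] [Algebra A K] [IsFractionRing A K] [Field L] [Algebra K L]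
    [FiniteDimensional K L] [Algebra.IsSeparable K L]
    (htame : EtRam.IsTamelyRamified A ((algebraMap K L).comp (algebraMap A K))) :
    ∃ e₀ : ℕ, 0 < e₀ ∧ IsUnit (e₀ : A) ∧
      ∀ (V : ValuationSubring L) (h : EtRam.Dominates A ((algebraMap K L).comp (algebraMap A K)) V),
        letI : Algebra A V := (RingHom.codRestrict ((algebraMap K L).comp (algebraMap A K)) V h.1).toAlgebra
        Ideal.ramificationIdx' (maximalIdeal A) (maximalIdeal V) ∣ e₀ := by
  classical
  let s := (Finset.range (Module.finrank K L + 1)).filter fun i : ℕ => 0 < i ∧ IsUnit (i : A)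
  refine ⟨∏ i ∈ s, i, Finset.prod_pos fun i hi => (Finset.mem_filter.mp hi).2.1, ?_, fun V h => ?_⟩
  · rw [Nat.cast_prod]
    exact IsUnit.prod_iff.mpr fun i hi => (Finset.mem_filter.mp hi).2.2
  letI : Algebra A V := (RingHom.codRestrict ((algebraMap K L).comp (algebraMap A K)) V h.1).toAlgebra
  obtain ⟨hd, hinj, hl⟩ := GrothLib.DVRExt.dominates_algebra A K L V h
  haveI := hd
  haveI : IsLocalHom (algebraMap A V) := hl
  letI : Algebra A L := ((algebraMap K L).comp (algebraMap A K)).toAlgebra
  haveI : IsScalarTower A K L := IsScalarTower.of_algebraMap_eq fun _ => rfl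
  haveI : IsScalarTower A V L := IsScalarTower.of_algebraMap_eq fun _ => rfl
  have h1 := ramificationIdx_le_finrank (K := K) V hinj
  have h2 := (GrothLib.DVRExt.map_maximalIdeal_eq_pow (A := A) (B := V) hinj).1
  obtain ⟨-, hp⟩ := @htame V h hl
  exact Finset.dvd_prod_of_mem _ (Finset.mem_filter.mpr ⟨Finset.mem_range.mpr (by omega), h2, isUnit_natCast _ h2 hp⟩)

/-- An extension unramified over a root extension of the uniformizer is tame. -/
theorem tame_of_unramified_over_root {A K L' : Type u} [CommRing A] [IsDomain A]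
    [IsDiscreteValuationRing A] [Field K] [Algebra A K] [IsFractionRing A K] [Field L'] [Algebra K L']
    [FiniteDimensional K L'] [Algebra.IsSeparable K L']
    (π : A) (hπ : maximalIdeal A = Ideal.span {π}) (e : ℕ) (he : 0 < e) (heu : IsUnit (e : A))
    [Algebra (AdjoinRoot (X ^ e - C π : A[X])) L'] [IsLocalRing (AdjoinRoot (X ^ e - C π : A[X]))]
    (hcomp : (algebraMap (AdjoinRoot (X ^ e - C π : A[X])) L').comp (AdjoinRoot.of (X ^ e - C π)) =
      (algebraMap K L').comp (algebraMap A K))
    (hunr : EtRam.IsUnramifiedExt (AdjoinRoot (X ^ e - C π : A[X]))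
      (algebraMap (AdjoinRoot (X ^ e - C π : A[X])) L')) :
    EtRam.IsTamelyRamified A ((algebraMap K L').comp (algebraMap A K)) := by
  classical
  intro W hW
  letI : Algebra A W := (RingHom.codRestrict ((algebraMap K L').comp (algebraMap A K)) W hW.1).toAlgebra
  intro hlA
  obtain ⟨hdW, hinjW, -⟩ := GrothLib.DVRExt.dominates_algebra A K L' W hW
  haveI := hdW
  set φ := algebraMap (AdjoinRoot (X ^ e - C π : A[X])) L'
  have hof : ∀ a, φ (AdjoinRoot.of (X ^ e - C π : A[X]) a) = algebraMap K L' (algebraMap A K a) :=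
    fun a => RingHom.congr_fun hcomp a
  have hroot : W.valuation (φ (AdjoinRoot.root _)) < 1 := by
    have h1 := hW.2 π (by rw [hπ]; exact Ideal.mem_span_singleton_self _)
    rw [RingHom.comp_apply, ← hof, ← root_pow', map_pow, map_pow] at h1
    exact (pow_lt_one_iff_of_nonneg zero_le he.ne').mp h1
  have hmem : ∀ r, φ r ∈ W := fun r => by
    induction r using AdjoinRoot.induction_on with
    | ih q =>
      induction q using Polynomial.induction_on' with
      | add p q hp hq => rw [map_add, map_add]; exact add_mem hp hq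
      | monomial k a =>
        rw [← C_mul_X_pow_eq_monomial, map_mul, map_mul, map_pow, map_pow, AdjoinRoot.mk_X, AdjoinRoot.mk_C, hof]
        exact mul_mem (hW.1 a) (pow_mem ((W.valuation_le_one_iff _).mp hroot.le) k)
  have hmax : maximalIdeal (AdjoinRoot (X ^ e - C π : A[X])) = Ideal.span {AdjoinRoot.root _} :=
    maximal_eq_span hπ he _ (maximalIdeal.isMaximal _)
  have hW' : EtRam.Dominates (AdjoinRoot (X ^ e - C π : A[X])) φ W := by
    refine ⟨hmem, fun r hr => ?_⟩
    rw [hmax, Ideal.mem_span_singleton] at hr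
    obtain ⟨s, rfl⟩ := hr
    rw [map_mul, map_mul]
    exact (mul_le_mul' le_rfl ((W.valuation_le_one_iff _).mpr (hmem s))).trans_lt (by rwa [mul_one])
  letI : Algebra (AdjoinRoot (X ^ e - C π : A[X])) W := (RingHom.codRestrict φ W hW'.1).toAlgebra
  haveI hlR : IsLocalHom (algebraMap (AdjoinRoot (X ^ e - C π : A[X])) W) := ⟨fun r hr => by
    by_contra hu
    exact ((W.valuation_eq_one_iff _).mp hr).not_lt (hW'.2 r hu)⟩
  obtain ⟨hwu, hs⟩ := @hunr W hW' hlR
  haveI : IsScalarTower A (AdjoinRoot (X ^ e - C π : A[X])) W :=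
    IsScalarTower.of_algebraMap_eq fun a => Subtype.ext (hof a).symm
  haveI : IsLocalHom (algebraMap A (AdjoinRoot (X ^ e - C π : A[X]))) :=
    ⟨fun a ha => IsUnit.of_map (algebraMap A W) a (by
      rw [IsScalarTower.algebraMap_apply A (AdjoinRoot (X ^ e - C π : A[X])) W]; exact ha.map _)⟩
  refine ⟨?_, fun p hp hc hpe => ?_⟩
  · haveI := hs
    haveI : Algebra.IsSeparable (ResidueField A) (ResidueField (AdjoinRoot (X ^ e - C π : A[X]))) := by
      refine ⟨fun x => ?_⟩
      obtain ⟨r, rfl⟩ := residue_surjective x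
      obtain ⟨a, ha⟩ := exists_const' r
      rw [← hmax, ← residue_eq_zero_iff, map_sub, sub_eq_zero] at ha
      rw [ha]
      exact isSeparable_algebraMap (F := ResidueField A) (residue A a)
    exact Algebra.IsSeparable.trans (ResidueField A) (ResidueField (AdjoinRoot (X ^ e - C π : A[X]))) (ResidueField W)
  have h1 : algebraMap A W π = algebraMap _ W (AdjoinRoot.root (X ^ e - C π : A[X])) ^ e := by
    rw [← map_pow, root_pow']
    exact IsScalarTower.algebraMap_apply A (AdjoinRoot (X ^ e - C π : A[X])) W π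
  have h2 : Ideal.map (algebraMap A W) (maximalIdeal A) = maximalIdeal W ^ e := by
    rw [hπ, Ideal.map_span, Set.image_singleton, h1, ← Ideal.span_singleton_pow]
    congr 1
    rw [← Set.image_singleton, ← Ideal.map_span, ← hmax]
    exact hwu
  rw [GrothLib.DVRExt.maximalIdeal_pow_inj
    ((GrothLib.DVRExt.map_maximalIdeal_eq_pow (A := A) (B := W) hinjW).2.symm.trans h2)] at hpe
  haveI := hc
  have h0 : ((e : ℕ) : ResidueField A) = 0 := (CharP.cast_eq_zero_iff _ p e).mpr hpe
  exact (heu.map (residue A)).ne_zero (by rwa [map_natCast])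

end GrothLib.TameAbh21
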