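import Groth.Agent.Lib.TameAbh21.DimTwo
import Groth.Agent.Lib.TameAbh21.CodimOne
import Groth.Agent.Lib.TameAbh21.KummerFacts
import Groth.Agent.Lib.TameAbh21.Uniformizer

/-!
Along a regular parameter the inertia orders of a tame cover are prime to the residue characteristic
of the local ring.
-/

set_option autoImplicit false
set_option linter.style.haveILetI false
set_option linter.unusedSectionVars false

universe u

open IsLocalRing TensorProduct

namespace GrothLib.TameAbh21

/-- The residue field of a point of the generic fibre of an étale algebra is finite separable. -/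
theorem fibre_finite {A C : Type u} [CommRing A] [IsDomain A] [CommRing C] [Algebra A C] [Algebra.Etale A C]
    (K : Type u) [Field K] [Algebra A K] [IsFractionRing A K] (q : Ideal C) [q.IsPrime]
    [Algebra K q.ResidueField] [IsScalarTower A K q.ResidueField] :
    FiniteDimensional K q.ResidueField ∧ Algebra.IsSeparable K q.ResidueField := by
  haveI : Algebra.FormallyUnramified C (C ⧸ q) :=
    Algebra.FormallyUnramified.of_surjective (Algebra.ofId C (C ⧸ q)) Ideal.Quotient.mk_surjective
  haveI : Algebra.FormallyUnramified (C ⧸ q) q.ResidueField :=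
    Algebra.FormallyUnramified.of_isLocalization (nonZeroDivisors (C ⧸ q))
  haveI : Algebra.FormallyUnramified C q.ResidueField := Algebra.FormallyUnramified.comp C (C ⧸ q) q.ResidueField
  haveI : Algebra.FormallyUnramified A q.ResidueField := Algebra.FormallyUnramified.comp A C q.ResidueField
  haveI : Algebra.FormallyUnramified K q.ResidueField := Algebra.FormallyUnramified.of_restrictScalars A K q.ResidueField
  haveI : Algebra.EssFiniteType C (C ⧸ q) := inferInstance
  haveI : Algebra.EssFiniteType (C ⧸ q) q.ResidueField :=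
    Algebra.EssFiniteType.of_isLocalization q.ResidueField (nonZeroDivisors (C ⧸ q))
  haveI : Algebra.EssFiniteType C q.ResidueField := Algebra.EssFiniteType.comp C (C ⧸ q) q.ResidueField
  haveI : Algebra.EssFiniteType A q.ResidueField := Algebra.EssFiniteType.comp A C q.ResidueField
  haveI : Algebra.EssFiniteType K q.ResidueField := Algebra.EssFiniteType.of_comp A K q.ResidueField
  haveI := Algebra.FormallyUnramified.finite_of_free K q.ResidueField
  exact ⟨inferInstance, Algebra.FormallyUnramified.isSeparable K q.ResidueField⟩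

/-- The map of the localization at a prime to the fraction field. -/
@[instance_reducible]
noncomputable def fracAlgebra {A : Type u} [CommRing A] (K : Type u) [Field K] [Algebra A K]
    [IsFractionRing A K] (P : Ideal A) [P.IsPrime] : Algebra (Localization.AtPrime P) K :=
  (IsLocalization.lift (g := algebraMap A K) (fun s : P.primeCompl => isUnit_iff_ne_zero.mpr
    ((map_ne_zero_iff _ (IsFractionRing.injective A K)).mpr fun h0 => s.2 (h0 ▸ P.zero_mem)))).toAlgebra

/-- The generic residue map factors through the fraction field. -/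
theorem genericResidueMap_eq {A C : Type u} [CommRing A] [CommRing C] [Algebra A C]
    (K : Type u) [Field K] [Algebra A K] (P : Ideal A) [P.IsPrime] (q : Ideal C) [q.IsPrime]
    (hq : Ideal.comap (algebraMap A C) q = ⊥)
    [Algebra K q.ResidueField] [IsScalarTower A K q.ResidueField]
    [Algebra (Localization.AtPrime P) K] [IsScalarTower A (Localization.AtPrime P) K] :
    SGA1.genericResidueMap (algebraMap A C) P q hq =
      (algebraMap K q.ResidueField).comp (algebraMap (Localization.AtPrime P) K) := by
  refine IsLocalization.ringHom_ext P.primeCompl (RingHom.ext fun a => ?_)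
  rw [RingHom.comp_apply, RingHom.comp_apply, RingHom.comp_apply, ← IsScalarTower.algebraMap_apply A _ K,
    ← IsScalarTower.algebraMap_apply A K]
  exact (IsLocalization.lift_eq _ a).trans (IsScalarTower.algebraMap_apply A C q.ResidueField a).symm

/-- Natural numbers become units at a prime not containing the residue characteristic. -/
theorem isUnit_natCast_atPrime {A : Type u} [CommRing A] [IsLocalRing A] {p : ℕ} (hp : p.Prime)
    (hpm : (p : A) ∈ maximalIdeal A) (P : Ideal A) [P.IsPrime] (hpP : (p : A) ∉ P) {n : ℕ} (hn : n ≠ 0) :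
    IsUnit ((n : ℕ) : Localization.AtPrime P) := by
  obtain ⟨a, m, hm, rfl⟩ := Nat.exists_eq_pow_mul_and_not_dvd hn p hp.ne_one
  have hmu : IsUnit (m : A) := by
    by_contra hmm
    have hco : Nat.Coprime p m := (hp.coprime_iff_not_dvd).mpr hm
    have h1 : ((Nat.gcd p m : ℤ) : A) ∈ maximalIdeal A := by
      rw [Nat.gcd_eq_gcd_ab]
      push_cast
      exact add_mem (Ideal.mul_mem_right _ _ hpm) (Ideal.mul_mem_right _ _ hmm)
    rw [hco.gcd_eq_one] at h1
    exact (maximalIdeal.isMaximal A).ne_top ((Ideal.eq_top_iff_one _).mpr (by simpa using h1))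
  rw [← map_natCast (algebraMap A (Localization.AtPrime P))]
  refine IsLocalization.map_units _ (⟨((p ^ a * m : ℕ) : A), ?_⟩ : P.primeCompl)
  push_cast
  refine fun h => (Ideal.IsPrime.mem_or_mem inferInstance h).elim
    (fun h' => hpP (Ideal.IsPrime.mem_of_pow_mem inferInstance a h')) fun h' => ?_
  exact (Ideal.IsPrime.ne_top inferInstance) (Ideal.eq_top_of_isUnit_mem _ h' hmu)

/-- Two finite separable extensions have a finite separable compositum. -/
theorem exists_compositum_field (K κ L : Type u) [Field K] [Field κ] [Field L] [Algebra K κ] [Algebra K L]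
    [FiniteDimensional K κ] [Algebra.IsSeparable K κ] [FiniteDimensional K L] [Algebra.IsSeparable K L] :
    ∃ (M : Type u) (_ : Field M) (_ : Algebra L M) (_ : Algebra K M) (_ : IsScalarTower K L M)
      (_ : FiniteDimensional K M) (_ : Algebra.IsSeparable K M) (ι : κ →ₐ[K] M),
      IntermediateField.adjoin L (Set.range ι) = ⊤ := by
  let Ω := AlgebraicClosure L
  let j : κ →ₐ[K] Ω := IsAlgClosed.lift
  let M : IntermediateField L Ω := IntermediateField.adjoin L (Set.range j)
  let ι : κ →ₐ[K] M := j.codRestrict (M.restrictScalars K).toSubalgebra fun x =>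
    IntermediateField.subset_adjoin L _ ⟨x, rfl⟩
  have hgen : IntermediateField.adjoin L (Set.range ι) = ⊤ := by
    apply IntermediateField.map_injective M.val
    rw [IntermediateField.adjoin_map, ← AlgHom.fieldRange_eq_map, IntermediateField.fieldRange_val]
    show IntermediateField.adjoin L _ = IntermediateField.adjoin L (Set.range j)
    congr 1
    rw [← Set.range_comp]
    rfl
  obtain ⟨h1, h2⟩ := finiteSep (L := L) (F := M) ι.toRingHom
    (RingHom.ext fun a => (ι.commutes a).trans (IsScalarTower.algebraMap_apply K L M a)) hgen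
  haveI := h1
  haveI := h2
  exact ⟨M, inferInstance, inferInstance, inferInstance, inferInstance, Module.Finite.trans L M,
    Algebra.IsSeparable.trans K L M, ι, hgen⟩

/-- The fraction field of a Kummer algebra is finite separable and generated by the roots. -/
theorem frac_kummer {A : Type u} [CommRing A] [IsDomain A] {r : ℕ} (f : Fin r → A) (hf0 : ∀ j, f j ≠ 0)
    (n : Fin r → ℕ) {B : Type u} [CommRing B] [IsDomain B] [Algebra A B] (root : Fin r → B)
    (hroot : ∀ j, root j ^ n j = algebraMap A B (f j)) (hadj : Algebra.adjoin A (Set.range root) = ⊤)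
    (K : Type u) [Field K] [Algebra A K] [IsFractionRing A K] (hnK : ∀ j, ((n j : ℕ) : K) ≠ 0)
    (L : Type u) [Field L] [Algebra B L] [IsFractionRing B L]
    [Algebra A L] [IsScalarTower A B L] [Algebra K L] [IsScalarTower A K L] :
    (∀ x : L, ∃ a b : Algebra.adjoin A (Set.range fun j => algebraMap B L (root j)),
      (b : L) ≠ 0 ∧ x = (a : L) / (b : L)) ∧
    FiniteDimensional K L ∧ Algebra.IsSeparable K L := by
  classical
  set t : Fin r → L := fun j => algebraMap B L (root j)
  have hmem : ∀ b : B, algebraMap B L b ∈ Algebra.adjoin A (Set.range t) := by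
    intro b
    have hb : b ∈ Algebra.adjoin A (Set.range root) := by
      rw [hadj]; exact Algebra.mem_top
    induction hb using Algebra.adjoin_induction with
    | mem y hy => obtain ⟨j, rfl⟩ := hy; exact Algebra.subset_adjoin ⟨j, rfl⟩
    | algebraMap a => rw [← IsScalarTower.algebraMap_apply]; exact Subalgebra.algebraMap_mem _ a
    | add y z _ _ hy hz => rw [map_add]; exact add_mem hy hz
    | mul y z _ _ hy hz => rw [map_mul]; exact mul_mem hy hz
  have hfrac : ∀ x : L, ∃ a b : Algebra.adjoin A (Set.range t), (b : L) ≠ 0 ∧ x = (a : L) / (b : L) := by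
    intro x
    obtain ⟨a, b, hb, rfl⟩ := IsFractionRing.div_surjective B x
    exact ⟨⟨_, hmem a⟩, ⟨_, hmem b⟩, IsFractionRing.to_map_ne_zero_of_mem_nonZeroDivisors hb, rfl⟩
  have hsep : ∀ x ∈ Set.range t, IsSeparable K x := by
    rintro _ ⟨j, rfl⟩
    refine (Polynomial.separable_X_pow_sub_C (algebraMap A K (f j)) (hnK j)
      ((map_ne_zero_iff _ (IsFractionRing.injective A K)).mpr (hf0 j))).of_dvd (minpoly.dvd K _ ?_)
    rw [map_sub, map_pow, Polynomial.aeval_X, Polynomial.aeval_C, ← map_pow, hroot,
      ← IsScalarTower.algebraMap_apply A K L, ← IsScalarTower.algebraMap_apply A B L, sub_self]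
  have htop : IntermediateField.adjoin K (Set.range t) = ⊤ := by
    rw [eq_top_iff]
    intro x _
    have hle : Algebra.adjoin A (Set.range t) ≤ (IntermediateField.adjoin K (Set.range t)).toSubalgebra.restrictScalars A :=
      Algebra.adjoin_le fun y hy => IntermediateField.subset_adjoin K _ hy
    obtain ⟨a, b, -, rfl⟩ := hfrac x
    exact div_mem (hle a.2) (hle b.2)
  refine ⟨hfrac, ?_, ?_⟩
  · haveI : FiniteDimensional K (IntermediateField.adjoin K (Set.range t)) :=
      IntermediateField.finiteDimensional_adjoin fun x hx => (hsep x hx).isIntegral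
    rw [htop] at this
    exact Module.Finite.equiv IntermediateField.topEquiv.toLinearEquiv
  · have h1 : Algebra.IsSeparable K (IntermediateField.adjoin K (Set.range t)) :=
      (IntermediateField.isSeparable_adjoin_iff_isSeparable _ _).mpr hsep
    rw [htop] at h1
    exact AlgEquiv.Algebra.isSeparable IntermediateField.topEquiv

/-- Heights drop to the base along a Kummer algebra and a localization. -/
theorem under_eq_span {A B R E : Type u} [CommRing A] [IsDomain A] [IsNoetherianRing A] [UniqueFactorizationMonoid A]
    [CommRing B] [IsDomain B] [IsIntegrallyClosed B] [Algebra A B] [Module.Finite A B] [FaithfulSMul A B]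
    [CommRing R] [IsDomain R] [IsNoetherianRing R] [UniqueFactorizationMonoid R] [Algebra B R]
    {M₀ : Submonoid B} [IsLocalization M₀ R]
    [CommRing E] [IsDomain E] [IsIntegrallyClosed E] [Algebra R E] [Module.Finite R E] [FaithfulSMul R E]
    (Q : Ideal E) [Q.IsPrime] (hQ : Q.height = 1) (φ : A →+* E)
    (hφ : ∀ a, φ a = algebraMap R E (algebraMap B R (algebraMap A B a)))
    {x : A} (hx0 : x ≠ 0) [(Ideal.span {x}).IsPrime] (hx : φ x ∈ Q) : Q.comap φ = Ideal.span {x} := by
  have h1 : (((Q.under R).under B).under A).height ≤ 1 := by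
    refine (height_under_le (R := A) ((Q.under R).under B)).trans ?_
    rw [IsLocalization.height_under M₀]
    exact (height_under_le Q).trans hQ.le
  have h2 : Q.comap φ = ((Q.under R).under B).under A := Ideal.ext fun a => by
    simp only [Ideal.mem_comap, hφ]
  rw [h2]
  have hle : Ideal.span {x} ≤ ((Q.under R).under B).under A :=
    (Ideal.span_singleton_le_iff_mem _).mpr (h2 ▸ hx)
  refine (hle.eq_of_not_lt fun hlt => ?_).symm
  have a1 := Ideal.height_strict_mono_of_isPrime_of_isPrime hlt
  have a0 := Ideal.height_strict_mono_of_isPrime_of_isPrime (I := (⊥ : Ideal A)) (J := Ideal.span {x})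
    (bot_lt_iff_ne_bot.mpr (by rwa [Ne, Ideal.span_singleton_eq_bot]))
  exact absurd (a1.trans_le h1) (not_lt.mpr (Order.one_le_iff_pos.mpr (zero_le.trans_lt a0)))

/-- The ramification index at a prime, read off in any model of the localization. -/
theorem pow_ramificationIdx {R E : Type u} [CommRing R] [IsDomain R] [IsNoetherianRing R] [CommRing E] [IsDomain E]
    [Algebra R E] [FaithfulSMul R E] {x : R} (hx : x ≠ 0) [(Ideal.span {x}).IsPrime]
    (Q : Ideal E) [Q.IsPrime] [Q.LiesOver (Ideal.span {x})] [IsDiscreteValuationRing (Localization.AtPrime Q)]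
    (W : Type u) [CommRing W] [IsLocalRing W] [Algebra E W] [IsLocalization.AtPrime W Q] :
    letI := Localization.AtPrime.algebraOfLiesOver (Ideal.span {x}) Q
    maximalIdeal W ^ Ideal.ramificationIdx' (maximalIdeal (Localization.AtPrime (Ideal.span {x})))
      (maximalIdeal (Localization.AtPrime Q)) = Ideal.span {algebraMap E W (algebraMap R E x)} := by
  let O' := Localization.AtPrime (Ideal.span {x})
  let B0 := Localization.AtPrime Q
  letI := Localization.AtPrime.algebraOfLiesOver (Ideal.span {x}) Q
  haveI : IsDiscreteValuationRing O' := isDVR_atPrime_span hx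
  haveI : IsLocalHom (algebraMap O' B0) := Localization.isLocalHom_localRingHom _ _ _ _
  have hinj0 : Function.Injective (algebraMap O' B0) := by
    refine IsLocalization.injective_of_map_algebraMap_zero (M := (Ideal.span {x}).primeCompl) _ _ fun c hc => ?_
    rw [← IsScalarTower.algebraMap_apply, IsScalarTower.algebraMap_apply R E B0] at hc
    rw [(FaithfulSMul.algebraMap_injective R E) ((IsLocalization.injective _ Q.primeCompl_le_nonZeroDivisors
      (hc.trans (map_zero _).symm)).trans (map_zero (algebraMap R E)).symm), map_zero]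
  have h0 := (GrothLib.DVRExt.map_maximalIdeal_eq_pow (A := O') (B := B0) hinj0).2
  have hm : Ideal.map (algebraMap O' B0) (maximalIdeal O') = Ideal.span {algebraMap E B0 (algebraMap R E x)} := by
    rw [← IsLocalization.AtPrime.map_eq_maximalIdeal (Ideal.span {x}) O', Ideal.map_map, Ideal.map_span,
      Set.image_singleton, ← IsScalarTower.algebraMap_eq, IsScalarTower.algebraMap_apply R E B0]
  rw [hm] at h0
  let ψ : B0 ≃ₐ[E] W := IsLocalization.algEquiv Q.primeCompl B0 W
  have hψm : Ideal.map ψ.toRingEquiv.toRingHom (maximalIdeal B0) = maximalIdeal W := by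
    rw [← IsLocalization.AtPrime.map_eq_maximalIdeal Q B0, ← IsLocalization.AtPrime.map_eq_maximalIdeal Q W,
      Ideal.map_map]
    exact congrArg (fun g => Ideal.map g Q) (RingHom.ext ψ.commutes)
  rw [← hψm, ← Ideal.map_pow, ← h0, Ideal.map_span, Set.image_singleton]
  exact congrArg (fun z => Ideal.span {z}) (ψ.commutes _)

set_option maxHeartbeats 3200000 in
/-- **Inertia orders are prime to the residue characteristic.** -/
theorem isUnit_ramification {A : Type u} [CommRing A] [IsRegularLocalRing A] [IsDomain A] {r : ℕ} {f : Fin r → A}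
    (hm : ∀ i, f i ∈ maximalIdeal A)
    (hf : LinearIndependent (ResidueField A) (fun i => (maximalIdeal A).toCotangent ⟨f i, hm i⟩))
    [∀ i, (Ideal.span {f i}).IsPrime]
    {C : Type u} [CommRing C] [Algebra A C] [Algebra.Etale A C] (hu : IsUnit (algebraMap A C (∏ i, f i)))
    (hint : ∀ c : C, ∃ k : ℕ, IsIntegral A ((∏ i, f i) ^ k • c))
    (htame : SGA1.IsTameAlong f (algebraMap A C))
    (K : Type u) [Field K] [Algebra A K] [IsFractionRing A K]
    (q : Ideal C) [q.IsPrime] (hq : Ideal.comap (algebraMap A C) q = ⊥)
    [Algebra K q.ResidueField] [IsScalarTower A K q.ResidueField]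
    (i : Fin r) [Algebra (Localization.AtPrime (Ideal.span {f i})) K]
    [IsScalarTower A (Localization.AtPrime (Ideal.span {f i})) K]
    (V : ValuationSubring q.ResidueField)
    (hV : EtRam.Dominates (Localization.AtPrime (Ideal.span {f i}))
      ((algebraMap K q.ResidueField).comp (algebraMap (Localization.AtPrime (Ideal.span {f i})) K)) V) :
    letI : Algebra (Localization.AtPrime (Ideal.span {f i})) V := (RingHom.codRestrict
      ((algebraMap K q.ResidueField).comp (algebraMap (Localization.AtPrime (Ideal.span {f i})) K)) V hV.1).toAlgebra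
    IsUnit ((Ideal.ramificationIdx' (maximalIdeal (Localization.AtPrime (Ideal.span {f i}))) (maximalIdeal V) : ℕ) : A) := by
  classical
  haveI := GrothLib.RegUFD.ufd_of_isRegularLocalRing A
  have hf0 := f_ne_zero hm hf
  obtain ⟨hκf, hκs⟩ := fibre_finite (A := A) K q
  haveI := hκf
  haveI := hκs
  have hinjA : Function.Injective (algebraMap A K) := IsFractionRing.injective A K
  set O := Localization.AtPrime (Ideal.span {f i})
  letI : Algebra O V := (RingHom.codRestrict ((algebraMap K q.ResidueField).comp (algebraMap O K)) V hV.1).toAlgebra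
  haveI : IsFractionRing O K := IsFractionRing.isFractionRing_of_isLocalization (Ideal.span {f i}).primeCompl O K
    (Ideal.span {f i}).primeCompl_le_nonZeroDivisors
  haveI : IsDiscreteValuationRing O := isDVR_atPrime_span (hf0 i)
  haveI : IsDomain O := inferInstance
  obtain ⟨hdV, hinjV, hlV⟩ := GrothLib.DVRExt.dominates_algebra O K q.ResidueField V hV
  haveI := hdV
  haveI : IsLocalHom (algebraMap O V) := hlV
  set e := Ideal.ramificationIdx' (maximalIdeal O) (maximalIdeal V)
  have he1 : 0 < e := (GrothLib.DVRExt.map_maximalIdeal_eq_pow (A := O) (B := V) hinjV).1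
  have htamei : EtRam.IsTamelyRamified O ((algebraMap K q.ResidueField).comp (algebraMap O K)) :=
    (by have h := htame i q hq; rwa [genericResidueMap_eq K (Ideal.span {f i}) q hq] at h)
  obtain ⟨-, htp⟩ := @htamei V hV hlV
  refine isUnit_natCast e he1 fun p hp hc hpe => ?_
  haveI := hc
  have hpm : (p : A) ∈ maximalIdeal A := by
    rw [← residue_eq_zero_iff, map_natCast, CharP.cast_eq_zero]
  by_cases hpi : (p : A) ∈ Ideal.span {f i}
  · have h0 : ((p : ℕ) : ResidueField O) = 0 := by
      rw [← map_natCast (residue O), residue_eq_zero_iff, ← map_natCast (algebraMap A O),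
        ← IsLocalization.AtPrime.map_eq_maximalIdeal (Ideal.span {f i}) O]
      exact Ideal.mem_map_of_mem _ hpi
    haveI : CharP (ResidueField O) p := by
      obtain ⟨c, hc'⟩ := CharP.exists (ResidueField O)
      haveI := hc'
      rcases (Nat.dvd_prime hp).mp ((CharP.cast_eq_zero_iff _ c p).mp h0) with rfl | rfl
      · exact (CharP.char_ne_one (ResidueField O) 1 rfl).elim
      · exact hc'
    exact htp p hp this hpe
  -- a height two prime containing `f i` and `p`
  obtain ⟨𝔭, h𝔭, h𝔭m⟩ := Ideal.exists_minimalPrimes_le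
    (show Ideal.span ({f i, (p : A)} : Finset A) ≤ maximalIdeal A by
      rw [Ideal.span_le]; simp [Set.insert_subset_iff, hm i, hpm])
  haveI := h𝔭.1.1
  have h𝔭2 : 𝔭.height ≤ 2 :=
    (Ideal.height_le_card_of_mem_minimalPrimes_span_finset h𝔭).trans (by exact_mod_cast Finset.card_le_two)
  have hi𝔭 : f i ∈ 𝔭 := h𝔭.1.2 (Ideal.subset_span (by simp))
  have hp𝔭 : (p : A) ∈ 𝔭 := h𝔭.1.2 (Ideal.subset_span (by simp))
  have h𝔭2' : 2 ≤ 𝔭.height := by
    have h1 : Ideal.span {f i} < 𝔭 := lt_of_le_of_ne ((Ideal.span_singleton_le_iff_mem _).mpr hi𝔭)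
      fun e' => hpi (e'.symm.le hp𝔭)
    have h0 : (⊥ : Ideal A) < Ideal.span {f i} :=
      bot_lt_iff_ne_bot.mpr (by rw [Ne, Ideal.span_singleton_eq_bot]; exact hf0 i)
    have a0 := Ideal.height_strict_mono_of_isPrime_of_isPrime h0
    have a1 := Ideal.height_strict_mono_of_isPrime_of_isPrime h1
    rw [← one_add_one_eq_two]
    exact Order.add_one_le_of_lt ((Order.one_le_iff_pos.mpr (zero_le.trans_lt a0)).trans_lt a1)
  -- exponents for the other parameters through the prime
  have hex : ∀ j, ∃ m : ℕ, 0 < m ∧ IsUnit (m : Localization.AtPrime (Ideal.span {f j})) ∧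
      (letI := fracAlgebra K (Ideal.span {f j})
       ∀ (V' : ValuationSubring q.ResidueField) (h : EtRam.Dominates (Localization.AtPrime (Ideal.span {f j}))
          ((algebraMap K q.ResidueField).comp (algebraMap (Localization.AtPrime (Ideal.span {f j})) K)) V'),
        letI : Algebra (Localization.AtPrime (Ideal.span {f j})) V' := (RingHom.codRestrict
          ((algebraMap K q.ResidueField).comp (algebraMap (Localization.AtPrime (Ideal.span {f j})) K)) V' h.1).toAlgebra
        Ideal.ramificationIdx' (maximalIdeal (Localization.AtPrime (Ideal.span {f j}))) (maximalIdeal V') ∣ m) := by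
    intro j
    letI := fracAlgebra K (Ideal.span {f j})
    haveI : IsScalarTower A (Localization.AtPrime (Ideal.span {f j})) K :=
      IsScalarTower.of_algebraMap_eq fun a => (IsLocalization.lift_eq _ a).symm
    haveI : IsFractionRing (Localization.AtPrime (Ideal.span {f j})) K :=
      IsFractionRing.isFractionRing_of_isLocalization (Ideal.span {f j}).primeCompl _ K
        (Ideal.span {f j}).primeCompl_le_nonZeroDivisors
    haveI : IsDiscreteValuationRing (Localization.AtPrime (Ideal.span {f j})) := isDVR_atPrime_span (hf0 j)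
    exact exists_uniform_index ((by have h := htame j q hq; rwa [genericResidueMap_eq K (Ideal.span {f j}) q hq] at h))
  choose m hm0 hmu hmd using hex
  let n : Fin r → ℕ := fun j => if j ≠ i ∧ f j ∈ 𝔭 then m j else 1
  have hn : ∀ j, 1 ≤ n j := fun j => by
    dsimp only [n]; split
    · exact hm0 j
    · exact le_rfl
  have hni : n i = 1 := if_neg fun h => h.1 rfl
  have hnu : ∀ j l, (j = i ∨ (j ≠ i ∧ f j ∈ 𝔭)) → IsUnit ((n l : ℕ) : Localization.AtPrime (Ideal.span {f j})) := by
    intro j l hj
    rcases hj with rfl | ⟨hji, hj𝔭⟩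
    · exact isUnit_natCast_atPrime hp hpm _ hpi (by have := hn l; omega)
    · by_cases hl : l ≠ i ∧ f l ∈ 𝔭
      · obtain rfl := eq_of_mem_height_two hm hf 𝔭 h𝔭2 i j l hji hl.1 hi𝔭 hj𝔭 hl.2
        rw [show n l = m l from if_pos hl]
        exact hmu l
      · rw [show n l = 1 from if_neg hl, Nat.cast_one]
        exact isUnit_one
  -- the Kummer algebra
  obtain ⟨B, _, _, root, hroot, hadj, hBfin, hBreg, hinjB, hsq⟩ : ∃ (B : Type u) (_ : CommRing B) (_ : Algebra A B)
      (root : Fin r → B), (∀ j, root j ^ n j = algebraMap A B (f j)) ∧ Algebra.adjoin A (Set.range root) = ⊤ ∧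
      Module.Finite A B ∧ IsRegularLocalRing B ∧ Function.Injective (algebraMap A B) ∧
      (∀ [IsLocalRing B], algebraMap A B (f i) ∉ maximalIdeal B ^ 2) :=
    ⟨SGA1.kummerAlg A f n, inferInstance, inferInstance, GrothLib.Kummer21.root f n, GrothLib.Kummer21.root_pow f n,
      GrothLib.Kummer21.adjoin_root f n, GrothLib.Kummer21.finite_alg (f := f) hn,
      GrothLib.Kummer21.isRegularLocalRing_alg hm hf hn, GrothLib.Kummer21.injective_algebraMap (f := f) hn,
      not_mem_sq_kummer hm hf n hn i hni⟩
  haveI := hBfin
  haveI := hBreg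
  haveI := GrothLib.CMFree.isDomain_of_isRegularLocalRing B
  haveI := GrothLib.RegUFD.ufd_of_isRegularLocalRing B
  haveI : FaithfulSMul A B := (faithfulSMul_iff_algebraMap_injective A B).mpr hinjB
  haveI : IsNoetherianRing B := IsNoetherianRing.of_finite A B
  haveI : Algebra.IsIntegral A B := inferInstance
  let xB : B := algebraMap A B (f i)
  have hxB2 : xB ∉ maximalIdeal B ^ 2 := hsq
  have hxBm : xB ∈ maximalIdeal B := fun hu => hm i ((Algebra.IsIntegral.isLocalHom A B).map_nonunit _ hu)
  obtain ⟨hDreg, -, -⟩ := GrothLib.RegLoc.quotient_isRegularLocalRing hxBm hxB2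
  haveI := hDreg
  haveI := GrothLib.CMFree.isDomain_of_isRegularLocalRing (B ⧸ Ideal.span {xB})
  haveI := GrothLib.RegUFD.ufd_of_isRegularLocalRing (B ⧸ Ideal.span {xB})
  haveI hxBp : (Ideal.span {xB}).IsPrime := (Ideal.Quotient.isDomain_iff_prime _).mp inferInstance
  obtain ⟨𝔮, h𝔮, h𝔮𝔭⟩ := Ideal.exists_ideal_over_prime_of_isIntegral_of_isDomain (S := B) 𝔭
    (by rw [(RingHom.injective_iff_ker_eq_bot _).mp hinjB]; exact bot_le)
  haveI := h𝔮
  have h𝔮A : ∀ a, algebraMap A B a ∈ 𝔮 ↔ a ∈ 𝔭 := fun a => by rw [← h𝔮𝔭]; exact Iff.rfl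
  have h𝔮2 : 𝔮.height = 2 := by
    refine le_antisymm ((GrothLib.FEt21.height_le_under (R := A) 𝔮).trans ?_) ?_
    · rw [show 𝔮.under A = 𝔭 from h𝔮𝔭]; exact h𝔭2
    · refine h𝔭2'.trans ?_
      rw [← show 𝔮.under A = 𝔭 from h𝔮𝔭]
      exact height_under_le 𝔮
  -- the two-dimensional local ring
  let R := Localization.AtPrime 𝔮
  haveI : IsRegularLocalRing R := GrothLib.Serre.isRegularLocalRing_localization B 𝔮 R
  haveI := GrothLib.CMFree.isDomain_of_isRegularLocalRing R
  haveI := GrothLib.RegUFD.ufd_of_isRegularLocalRing R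
  let x : R := algebraMap B R xB
  have hxB0 : xB ≠ 0 := (map_ne_zero_iff _ hinjB).mpr (hf0 i)
  have hle𝔮 : Ideal.span {xB} ≤ 𝔮 := (Ideal.span_singleton_le_iff_mem _).mpr ((h𝔮A _).mpr hi𝔭)
  have hspanx : Ideal.span {x} = (Ideal.span {xB}).map (algebraMap B R) := by
    rw [Ideal.map_span, Set.image_singleton]
  have hdisj : Disjoint (𝔮.primeCompl : Set B) (Ideal.span {xB} : Set B) :=
    Set.disjoint_left.mpr fun a ha ha' => ha (hle𝔮 ha')
  haveI : (Ideal.span {x}).IsPrime := hspanx ▸ IsLocalization.isPrime_of_isPrime_disjoint 𝔮.primeCompl R _ hxBp hdisj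
  have hx0 : x ≠ 0 := (map_ne_zero_iff _ (IsLocalization.injective R 𝔮.primeCompl_le_nonZeroDivisors)).mpr hxB0
  have hxm : x ∈ maximalIdeal R := (IsLocalization.AtPrime.to_map_mem_maximal_iff R 𝔮 xB).mpr ((h𝔮A _).mpr hi𝔭)
  haveI : IsDiscreteValuationRing (R ⧸ Ideal.span {x}) := by
    let D := B ⧸ Ideal.span {xB}
    let T := R ⧸ Ideal.span {x}
    have hle : Ideal.span {xB} ≤ (Ideal.span {x}).comap (algebraMap B R) := by
      rw [← Ideal.map_le_iff_le_comap, ← hspanx]
    letI : Algebra D T := (Ideal.quotientMap (Ideal.span {x}) (algebraMap B R) hle).toAlgebra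
    haveI hloc : IsLocalization (𝔮.primeCompl.map (Ideal.Quotient.mk (Ideal.span {xB}))) T :=
      IsLocalization.of_surjective 𝔮.primeCompl R _ Ideal.Quotient.mk_surjective (Ideal.Quotient.mk (Ideal.span {x}))
        Ideal.Quotient.mk_surjective (RingHom.ext fun b => rfl) (by rw [Ideal.mk_ker, Ideal.mk_ker, hspanx])
    have hnz : 𝔮.primeCompl.map (Ideal.Quotient.mk (Ideal.span {xB})) ≤ nonZeroDivisors D := by
      rintro _ ⟨s, hs, rfl⟩
      exact mem_nonZeroDivisors_of_ne_zero fun h => hs (hle𝔮 (Ideal.Quotient.eq_zero_iff_mem.mp h))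
    haveI : IsDomain T := Ideal.Quotient.isDomain _
    haveI : IsIntegrallyClosed T := isIntegrallyClosed_of_isLocalization T _ hnz
    haveI : IsLocalRing T := IsLocalRing.of_surjective' _ Ideal.Quotient.mk_surjective
    have hdim := ringKrullDim_quotient_span_singleton_succ_eq_ringKrullDim_of_mem_nonZeroDivisors
      (mem_nonZeroDivisors_of_ne_zero hx0) hxm
    rw [IsLocalization.AtPrime.ringKrullDim_eq_height 𝔮 R, h𝔮2] at hdim
    obtain ⟨d, hd, -⟩ := GrothLib.RegLoc.exists_dim_eq (R := T)
    rw [hd] at hdim
    have hd1 : d = 1 := by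
      have : ((d + 1 : ℕ) : WithBot ℕ∞) = ((2 : ℕ) : WithBot ℕ∞) := by push_cast; exact hdim
      norm_cast at this
      omega
    subst hd1
    have hnf : ¬ IsField T := fun h => by
      rw [ringKrullDim_eq_zero_of_isField h] at hd
      exact absurd hd (by norm_num)
    have h1 : (maximalIdeal T).height = 1 := by
      have h := IsLocalRing.maximalIdeal_height_eq_ringKrullDim (R := T)
      rw [hd] at h
      exact WithBot.coe_injective (h.trans (by norm_num))
    haveI : Ring.DimensionLEOne T := ⟨fun {P} hP hPp => by
      by_contra hmax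
      have hlt : P < maximalIdeal T := lt_of_le_of_ne (le_maximalIdeal hPp.ne_top)
        fun e' => hmax (e' ▸ maximalIdeal.isMaximal T)
      have hb := Ideal.height_strict_mono_of_isPrime_of_isPrime (bot_lt_iff_ne_bot.mpr hP)
      have h3 := Ideal.height_strict_mono_of_isPrime_of_isPrime hlt
      exact absurd (h3.trans_le h1.le) (not_lt.mpr (Order.one_le_iff_pos.mpr (zero_le.trans_lt hb)))⟩
    haveI : IsDedekindRing T := { }
    haveI : IsDedekindDomain T := { }
    refine ((IsDiscreteValuationRing.TFAE T hnf).out 0 2).mpr ?_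
    infer_instance
  -- the fields
  obtain ⟨L, _, _, _⟩ : ∃ (L : Type u) (_ : Field L) (_ : Algebra B L), IsFractionRing B L :=
    ⟨FractionRing B, inferInstance, inferInstance, inferInstance⟩
  letI : Algebra A L := ((algebraMap B L).comp (algebraMap A B)).toAlgebra
  haveI : IsScalarTower A B L := IsScalarTower.of_algebraMap_eq fun _ => rfl
  letI : Algebra K L := (IsFractionRing.lift (g := algebraMap A L)
    ((IsScalarTower.algebraMap_eq A B L) ▸ (IsFractionRing.injective B L).comp hinjB)).toAlgebra
  haveI : IsScalarTower A K L := IsScalarTower.of_algebraMap_eq fun a => (IsFractionRing.lift_algebraMap _ a).symm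
  have hnK : ∀ j, ((n j : ℕ) : K) ≠ 0 := fun j => by
    have := ((hnu i j (Or.inl rfl)).map (algebraMap O K)).ne_zero
    rwa [map_natCast] at this
  obtain ⟨hgenL, hLf, hLs⟩ := frac_kummer f hf0 n root hroot hadj K hnK L
  haveI := hLf
  haveI := hLs
  obtain ⟨M, _, _, _, _, hMf, hMs, ι, hgen⟩ := exists_compositum_field K q.ResidueField L
  haveI := hMf
  haveI := hMs
  haveI : FiniteDimensional L M := Module.Finite.of_restrictScalars_finite K L M
  haveI : Algebra.IsSeparable L M := Algebra.isSeparable_tower_top_of_isSeparable K L M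
  letI : Algebra R L := (IsLocalization.lift (g := algebraMap B L) (fun s : 𝔮.primeCompl => isUnit_iff_ne_zero.mpr
    ((map_ne_zero_iff _ (IsFractionRing.injective B L)).mpr fun h0 => s.2 (h0 ▸ 𝔮.zero_mem)))).toAlgebra
  haveI : IsScalarTower B R L := IsScalarTower.of_algebraMap_eq fun b => (IsLocalization.lift_eq _ b).symm
  haveI : IsFractionRing R L :=
    IsFractionRing.isFractionRing_of_isLocalization 𝔮.primeCompl R L 𝔮.primeCompl_le_nonZeroDivisors
  letI : Algebra R M := ((algebraMap L M).comp (algebraMap R L)).toAlgebra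
  haveI : IsScalarTower R L M := IsScalarTower.of_algebraMap_eq fun _ => rfl
  letI : Algebra A M := ((algebraMap K M).comp (algebraMap A K)).toAlgebra
  haveI : IsScalarTower A K M := IsScalarTower.of_algebraMap_eq fun _ => rfl
  have hAM : ∀ a, algebraMap A M a = algebraMap R M (algebraMap A R a) := fun a => by
    rw [IsScalarTower.algebraMap_apply A B R]
    show algebraMap K M (algebraMap A K a) = algebraMap L M (algebraMap R L (algebraMap B R (algebraMap A B a)))
    rw [← IsScalarTower.algebraMap_apply B R L, ← IsScalarTower.algebraMap_apply A B L,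
      IsScalarTower.algebraMap_apply A K L, ← IsScalarTower.algebraMap_apply K L M]
  haveI : IsScalarTower A R M := IsScalarTower.of_algebraMap_eq hAM
  let E := integralClosure R M
  haveI : Module.Finite R E := IsIntegralClosure.finite R L M E
  haveI : IsFractionRing E M := integralClosure.isFractionRing_of_finite_extension L M
  haveI : IsIntegrallyClosed E := integralClosure.isIntegrallyClosedOfFiniteExtension L
  have hinjRM : Function.Injective (algebraMap R M) := by
    rw [IsScalarTower.algebraMap_eq R L M]
    exact (algebraMap L M).injective.comp (IsFractionRing.injective R L)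
  haveI : FaithfulSMul R E := (faithfulSMul_iff_algebraMap_injective R E).mpr fun a b h =>
    hinjRM (congrArg (fun z : E => (z : M)) h)
  haveI : IsNoetherianRing E := IsNoetherianRing.of_finite R E
  letI : Algebra A E := ((algebraMap R E).comp (algebraMap A R)).toAlgebra
  haveI : IsScalarTower A E M := IsScalarTower.of_algebraMap_eq hAM
  -- unramified off `x`
  have hunr : ∀ (Q : Ideal E) [Q.IsPrime], Q.height = 1 → algebraMap R E x ∉ Q → Algebra.IsUnramifiedAt R Q := by
    intro Q _ hQ hxQ
    by_cases hP : algebraMap R E (algebraMap A R (∏ j, f j)) ∈ Q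
    · obtain ⟨k, hk⟩ : ∃ k, algebraMap A E (f k) ∈ Q := by
        have hP' : algebraMap A E (∏ j, f j) ∈ Q := hP
        rw [map_prod] at hP'
        obtain ⟨k, -, hk⟩ := Ideal.IsPrime.prod_mem_iff.mp hP'
        exact ⟨k, hk⟩
      have hki : k ≠ i := fun h => hxQ (by subst h; exact hk)
      have hk𝔭 : f k ∈ 𝔭 := (h𝔮A _).mp ((IsLocalization.AtPrime.to_map_mem_maximal_iff R 𝔮 _).mp
        (le_maximalIdeal (Ideal.IsPrime.ne_top inferInstance) (show algebraMap A R (f k) ∈ Q.under R from hk)))
      have hQA : Q.comap (algebraMap A E) = Ideal.span {f k} :=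
        under_eq_span (A := A) (B := B) (R := R) (M₀ := 𝔮.primeCompl) Q hQ (algebraMap A E)
          (fun a => (IsScalarTower.algebraMap_apply A B R a) ▸ rfl) (hf0 k) hk
      letI := fracAlgebra K (Ideal.span {f k})
      haveI : IsScalarTower A (Localization.AtPrime (Ideal.span {f k})) K :=
        IsScalarTower.of_algebraMap_eq fun a => (IsLocalization.lift_eq _ a).symm
      haveI : IsFractionRing (Localization.AtPrime (Ideal.span {f k})) K :=
        IsFractionRing.isFractionRing_of_isLocalization (Ideal.span {f k}).primeCompl _ K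
          (Ideal.span {f k}).primeCompl_le_nonZeroDivisors
      haveI : IsDiscreteValuationRing (Localization.AtPrime (Ideal.span {f k})) := isDVR_atPrime_span (hf0 k)
      refine isUnramifiedAt_of_valuation (L := L) (M := M) Q hQ fun W hE hc => ?_
      letI : Algebra (Localization.AtPrime (Ideal.span {f k})) M :=
        ((algebraMap K M).comp (algebraMap (Localization.AtPrime (Ideal.span {f k})) K)).toAlgebra
      haveI : IsScalarTower A (Localization.AtPrime (Ideal.span {f k})) M :=
        IsScalarTower.of_algebraMap_eq fun a => by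
          show algebraMap K M (algebraMap A K a) = algebraMap K M (algebraMap _ K (algebraMap A _ a))
          rw [← IsScalarTower.algebraMap_apply A _ K]
      intro _
      refine kummer_unramified f k (hf0 k) (fun j hj => not_mem_span hm hf k j hj) n hn
        (fun j => hnu k j (Or.inr ⟨hki, hk𝔭⟩)) (K := K) ((by have h := htame k q hq; rwa [genericResidueMap_eq K (Ideal.span {f k}) q hq] at h))
        (fun j => algebraMap B L (root j)) (fun j => ?_) ?_ ι hgen
        (fun V' h' => ?_) W (dominates_of_center (E := E) (Ideal.span {f k}) Q hQA W hE hc)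
      · rw [← map_pow, hroot, ← IsScalarTower.algebraMap_apply A B L,
          IsScalarTower.algebraMap_apply A K L, ← IsScalarTower.algebraMap_apply A _ K]
      · letI : Algebra (Localization.AtPrime (Ideal.span {f k})) L :=
          ((algebraMap K L).comp (algebraMap _ K)).toAlgebra
        haveI : IsScalarTower A (Localization.AtPrime (Ideal.span {f k})) L :=
          IsScalarTower.of_algebraMap_eq fun a => by
            show algebraMap A L a = algebraMap K L (algebraMap _ K (algebraMap A _ a))
            rw [← IsScalarTower.algebraMap_apply A _ K, ← IsScalarTower.algebraMap_apply A K L]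
        intro z
        have hle : Algebra.adjoin A (Set.range fun j => algebraMap B L (root j)) ≤
            (Algebra.adjoin (Localization.AtPrime (Ideal.span {f k}))
              (Set.range fun j => algebraMap B L (root j))).restrictScalars A :=
          Algebra.adjoin_le fun y hy => Algebra.subset_adjoin hy
        obtain ⟨a, b, hb, e'⟩ := hgenL z
        exact ⟨⟨a, hle a.2⟩, ⟨b, hle b.2⟩, hb, e'⟩
      · rw [show n k = m k from if_pos ⟨hki, hk𝔭⟩]
        exact hmd k V' h'
    · let χ : C →ₐ[A] M := (ι.restrictScalars A).comp (IsScalarTower.toAlgHom A C q.ResidueField)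
      refine isUnramifiedAt_away (L := L) (M := M) (∏ j, f j) hu hint χ ?_ Q hP
      rw [eq_top_iff, ← hgen, IntermediateField.adjoin_le_iff]
      rintro _ ⟨y, rfl⟩
      obtain ⟨a, b, -, rfl⟩ := IsFractionRing.div_surjective (C ⧸ q) y
      obtain ⟨a, rfl⟩ := Ideal.Quotient.mk_surjective a
      obtain ⟨b, rfl⟩ := Ideal.Quotient.mk_surjective b
      rw [SetLike.mem_coe, map_div₀]
      exact div_mem (IntermediateField.subset_adjoin L _ ⟨a, rfl⟩) (IntermediateField.subset_adjoin L _ ⟨b, rfl⟩)
  -- the prime below an extension of `V`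
  letI : Algebra q.ResidueField M := ι.toRingHom.toAlgebra
  haveI : IsScalarTower K q.ResidueField M := IsScalarTower.of_algebraMap_eq fun a => (ι.commutes a).symm
  obtain ⟨W, hW, hWV⟩ := GrothLib.DVRExt.exists_extension O K M V hV
  have hAW : ∀ a, algebraMap A M a ∈ W := fun a => by
    have := hW.1 (algebraMap A O a)
    rwa [RingHom.comp_apply, ← IsScalarTower.algebraMap_apply A O K, ← IsScalarTower.algebraMap_apply A K M] at this
  letI : Algebra A W := (RingHom.codRestrict (algebraMap A M) W hAW).toAlgebra
  haveI : IsScalarTower A W M := IsScalarTower.of_algebraMap_eq fun _ => rfl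
  have hAW' : ∀ a, a ∉ Ideal.span {f i} → W.valuation (algebraMap A M a) = 1 := fun a ha => by
    have hu' := IsLocalization.map_units O (⟨a, ha⟩ : (Ideal.span {f i}).primeCompl)
    obtain ⟨u, hu'⟩ := hu'
    refine le_antisymm ((W.valuation_le_one_iff _).mpr (hAW a)) ?_
    have h2 : algebraMap A M a * ((algebraMap K M).comp (algebraMap O K)) ↑u⁻¹ = 1 := by
      rw [IsScalarTower.algebraMap_apply A K M, IsScalarTower.algebraMap_apply A O K, ← RingHom.comp_apply,
        ← map_mul, ← hu', Units.mul_inv, map_one]
    calc (1 : W.ValueGroup) = W.valuation (algebraMap A M a) *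
          W.valuation (((algebraMap K M).comp (algebraMap O K)) ↑u⁻¹) := by rw [← map_mul, h2, map_one]
      _ ≤ W.valuation (algebraMap A M a) * 1 := mul_le_mul' le_rfl ((W.valuation_le_one_iff _).mpr (hW.1 _))
      _ = W.valuation (algebraMap A M a) := mul_one _
  letI : Algebra B M := ((algebraMap L M).comp (algebraMap B L)).toAlgebra
  haveI : IsScalarTower A B M := IsScalarTower.of_algebraMap_eq fun a => by
    show algebraMap K M (algebraMap A K a) = algebraMap L M (algebraMap B L (algebraMap A B a))
    rw [← IsScalarTower.algebraMap_apply A B L, IsScalarTower.algebraMap_apply A K L, ← IsScalarTower.algebraMap_apply K L M]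
  have hint' : ∀ y : M, IsIntegral A y → y ∈ W := fun y hy => by
    obtain ⟨z, hz⟩ := IsIntegrallyClosed.algebraMap_eq_of_integral (R := W) (K := M) (hy.tower_top (A := W))
    exact hz ▸ z.2
  have hBW : ∀ b : B, algebraMap B M b ∈ W := fun b =>
    hint' _ ((Algebra.IsIntegral.isIntegral (R := A) b).map (IsScalarTower.toAlgHom A B M))
  let gB : B →+* W := RingHom.codRestrict (algebraMap B M) W hBW
  let PB : Ideal B := (maximalIdeal W).comap gB
  haveI : PB.IsPrime := Ideal.IsPrime.comap _
  have hxPB : xB ∈ PB := by
    show gB xB ∈ maximalIdeal W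
    refine (ValuationSubring.valuation_lt_one_iff W _).mpr ?_
    show W.valuation (algebraMap B M (algebraMap A B (f i))) < 1
    rw [← IsScalarTower.algebraMap_apply A B M]
    have h := hW.2 (algebraMap A O (f i))
      ((IsLocalization.AtPrime.to_map_mem_maximal_iff O (Ideal.span {f i}) (f i)).mpr (Ideal.mem_span_singleton_self _))
    rwa [RingHom.comp_apply, ← IsScalarTower.algebraMap_apply A O K, ← IsScalarTower.algebraMap_apply A K M] at h
  have hPBA : PB.under A = Ideal.span {f i} := by
    refine le_antisymm (fun a ha => ?_) ((Ideal.span_singleton_le_iff_mem _).mpr hxPB)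
    by_contra hai
    have h1 := (ValuationSubring.valuation_lt_one_iff W _).mp (show gB (algebraMap A B a) ∈ maximalIdeal W from ha)
    change W.valuation (algebraMap B M (algebraMap A B a)) < 1 at h1
    rw [← IsScalarTower.algebraMap_apply A B M, hAW' a hai] at h1
    exact lt_irrefl _ h1
  have hPB : PB = Ideal.span {xB} := by
    refine (((Ideal.span_singleton_le_iff_mem _).mpr hxPB).eq_of_not_lt fun hlt => ?_).symm
    have a1 := Ideal.height_strict_mono_of_isPrime_of_isPrime hlt
    have a2 := GrothLib.FEt21.height_le_under (R := A) PB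
    rw [hPBA] at a2
    have a0 := Ideal.height_strict_mono_of_isPrime_of_isPrime (I := (⊥ : Ideal B)) (J := Ideal.span {xB})
      (bot_lt_iff_ne_bot.mpr (by rwa [Ne, Ideal.span_singleton_eq_bot]))
    have a3 : (Ideal.span {f i}).height ≤ 1 :=
      (Ideal.height_le_card_of_mem_minimalPrimes_span_finset (s := {f i}) (by
        rw [Finset.coe_singleton, Ideal.minimalPrimes_eq_subsingleton_self]; rfl)).trans
        (by simp)
    exact absurd (a1.trans_le (a2.trans a3)) (not_lt.mpr (Order.one_le_iff_pos.mpr (zero_le.trans_lt a0)))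
  have hRW : ∀ y : R, algebraMap R M y ∈ W := fun y => by
    obtain ⟨b, s, rfl⟩ := IsLocalization.exists_mk'_eq 𝔮.primeCompl y
    have hsu : IsUnit (gB s) := by
      by_contra hns
      exact s.2 (hle𝔮 (hPB.le hns))
    obtain ⟨u, hu'⟩ := hsu
    have hBR : ∀ c : B, algebraMap R M (algebraMap B R c) = algebraMap B M c := fun c => by
      show algebraMap L M (algebraMap R L (algebraMap B R c)) = algebraMap L M (algebraMap B L c)
      rw [← IsScalarTower.algebraMap_apply B R L]
    have h1 : algebraMap R M (IsLocalization.mk' R b s) = ((gB b * ↑u⁻¹ : W) : M) := by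
      have hne : ((gB s : W) : M) ≠ 0 := by
        rw [← hu']; exact fun h => u.ne_zero (Subtype.ext h)
      refine mul_right_cancel₀ hne ?_
      have h2 : (gB b * ↑u⁻¹ : W) * gB s = gB b := by rw [← hu', Units.inv_mul_cancel_right]
      refine Eq.trans ?_ (congrArg (fun z : W => (z : M)) h2).symm
      show algebraMap R M _ * algebraMap B M s = algebraMap B M b
      rw [← hBR, ← hBR, ← map_mul, IsLocalization.mk'_spec]
    rw [h1]; exact Subtype.property _
  letI : Algebra R W := (RingHom.codRestrict (algebraMap R M) W hRW).toAlgebra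
  haveI : IsScalarTower R W M := IsScalarTower.of_algebraMap_eq fun _ => rfl
  have hEW : ∀ z : E, algebraMap E M z ∈ W := fun z => by
    obtain ⟨w, hw⟩ := IsIntegrallyClosed.algebraMap_eq_of_integral (R := W) (K := M) ((z.2 : IsIntegral R (z : M)).tower_top (A := W))
    show (z : M) ∈ W
    exact hw ▸ w.2
  let gE : E →+* W := RingHom.codRestrict (algebraMap E M) W hEW
  let Q₀ : Ideal E := (maximalIdeal W).comap gE
  haveI : Q₀.IsPrime := Ideal.IsPrime.comap _
  have hgEB : ∀ c : B, gE (algebraMap R E (algebraMap B R c)) = gB c := fun c => Subtype.ext (by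
    show algebraMap R M (algebraMap B R c) = algebraMap B M c
    show algebraMap L M (algebraMap R L (algebraMap B R c)) = algebraMap L M (algebraMap B L c)
    rw [← IsScalarTower.algebraMap_apply B R L])
  haveI hQ₀x : Q₀.LiesOver (Ideal.span {x}) := by
    constructor
    have h1 : (Q₀.under R).under B = Ideal.span {xB} := by
      rw [← hPB]
      exact Ideal.ext fun c => by
        show gE (algebraMap R E (algebraMap B R c)) ∈ maximalIdeal W ↔ gB c ∈ maximalIdeal W
        rw [hgEB]
    rw [hspanx, ← h1, IsLocalization.map_under 𝔮.primeCompl R]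
  have hQ₀1 : Q₀.height = 1 := by
    have hu1 : Q₀.under R = Ideal.span {x} := hQ₀x.over.symm
    refine le_antisymm ((GrothLib.FEt21.height_le_under (R := R) Q₀).trans ?_) ?_
    · rw [hu1]
      exact (Ideal.height_le_card_of_mem_minimalPrimes_span_finset (s := {x}) (by
        rw [Finset.coe_singleton, Ideal.minimalPrimes_eq_subsingleton_self]; rfl)).trans
        (by simp)
    · refine le_trans ?_ (height_under_le (R := R) Q₀)
      rw [hu1]
      exact Order.one_le_iff_pos.mpr (zero_le.trans_lt (Ideal.height_strict_mono_of_isPrime_of_isPrime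
        (I := (⊥ : Ideal R)) (bot_lt_iff_ne_bot.mpr (by rwa [Ne, Ideal.span_singleton_eq_bot]))))
  haveI := GrothLib.MoriNagata.isDiscreteValuationRing_of_height_one Q₀ hQ₀1
  have hwild := not_dvd_ramificationIdx (R := R) (E := E) hx0 hxm p hp
    (by rw [← map_natCast (algebraMap B R), IsLocalization.AtPrime.to_map_mem_maximal_iff R 𝔮,
          ← map_natCast (algebraMap A B)]; exact (h𝔮A _).mpr hp𝔭)
    (fun h => hpi (by
      rw [← map_natCast (algebraMap B R), ← map_natCast (algebraMap A B)] at h
      have h' : algebraMap A B (p : A) ∈ (Ideal.span {x}).under B := h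
      rw [hspanx, IsLocalization.under_map_of_isPrime_disjoint 𝔮.primeCompl R hxBp hdisj] at h'
      rw [← hPB] at h'
      rw [← hPBA]
      exact h')) hunr Q₀
  -- comparison of the ramification indices
  apply hwild
  -- transport to `W`
  obtain ⟨hdW, hinjW, hlW⟩ := GrothLib.DVRExt.dominates_algebra O K M W hW
  haveI := hdW
  letI : Algebra O W := (RingHom.codRestrict ((algebraMap K M).comp (algebraMap O K)) W hW.1).toAlgebra
  haveI : IsLocalHom (algebraMap O W) := hlW
  letI : Algebra E W := gE.toAlgebra
  haveI : IsLocalization.AtPrime W Q₀ := isLocalization_center Q₀ W hEW fun z =>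
    ⟨fun h => (ValuationSubring.valuation_lt_one_iff W (gE z)).mpr h,
      fun h => (ValuationSubring.valuation_lt_one_iff W (gE z)).mp h⟩
  have hWspan := (GrothLib.DVRExt.map_maximalIdeal_eq_pow (A := O) (B := W) hinjW).2
  have hmO : Ideal.map (algebraMap O W) (maximalIdeal O) =
      Ideal.span {((algebraMap O W).comp (algebraMap A O)) (f i)} := by
    rw [← IsLocalization.AtPrime.map_eq_maximalIdeal (Ideal.span {f i}) O, Ideal.map_map, Ideal.map_span,
      Set.image_singleton]
  rw [hmO] at hWspan
  have heq : gE (algebraMap R E x) = ((algebraMap O W).comp (algebraMap A O)) (f i) := Subtype.ext (by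
    show algebraMap R M x = algebraMap K M (algebraMap O K (algebraMap A O (f i)))
    rw [← IsScalarTower.algebraMap_apply A O K, ← IsScalarTower.algebraMap_apply A K M]
    exact (hAM (f i)).symm)
  have h2 := pow_ramificationIdx (R := R) (E := E) hx0 Q₀ W
  rw [show algebraMap E W (algebraMap R E x) = gE (algebraMap R E x) from rfl, heq, hWspan] at h2
  rw [GrothLib.DVRExt.maximalIdeal_pow_inj h2]
  -- tower through `V`
  subst hWV
  letI : Algebra (W.comap (algebraMap q.ResidueField M)) W := (EtRam.inclOfComap W (algebraMap q.ResidueField M)).toAlgebra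
  haveI : IsLocalHom (algebraMap (W.comap (algebraMap q.ResidueField M)) W) := EtRam.isLocalHom_inclOfComap _ _
  haveI : IsScalarTower O (W.comap (algebraMap q.ResidueField M)) W := IsScalarTower.of_algebraMap_eq fun a =>
    Subtype.ext (IsScalarTower.algebraMap_apply K q.ResidueField M (algebraMap O K a))
  have hinjVW : Function.Injective (algebraMap (W.comap (algebraMap q.ResidueField M)) W) := fun a b h =>
    Subtype.ext ((algebraMap q.ResidueField M).injective (congrArg (fun z : W => (z : M)) h))
  exact hpe.trans ⟨_, GrothLib.DVRExt.ramificationIdx_tower (A := O) (B := W.comap (algebraMap q.ResidueField M)) (C := W) hinjV hinjVW⟩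

end GrothLib.TameAbh21
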